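import Cfsg.Agent.Lib.Helper60.BG117
import Cfsg.Agent.Lib.Helper91.BG117A6
import Cfsg.Agent.Lib.Helper50.BG117End
import Cfsg.Agent.Lib.Helper47.BG11e
import Cfsg.Agent.Lib.Helper23.AlphaB
import Cfsg.Agent.Lib.Helper19.BG124a

/-!
# Bender–Glauberman Theorem 11.7, the key step, unconditionally

`hstar`: for exceptional `(M, p, A₀, A)` the subgroup `A` centralizes `O_q(M)` for every prime
`q ∉ σ(M)`.
-/

set_option autoImplicit false

namespace Cfsg.Agent.Lib.Helper60.BG117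

open Subgroup Cfsg Cfsg.Agent.Lib.Helper33 Cfsg.Agent.Lib.Helper24 Cfsg.Agent.Lib.Helper32
open Cfsg.Agent.Lib.Helper24.BG Cfsg.Agent.Lib.Helper23 Cfsg.Agent.Lib.Helper63
open Cfsg.Agent.Lib.Helper47.BG11 Cfsg.Agent.Lib.Helper91.BG117

universe u

variable {G : Type u} [Group G] [Finite G]

theorem a6Stmt (hG : IsMinSimpleOddOrder G) : A6Stmt G := by
  intro M A₀ A p _ e q _ hqp B₀ B X hB₀n hB₀B hBM hBq hAB hX hXB hqC hab
  exact Cfsg.Agent.Lib.Helper91.BG117.a6 hG (stmt1410 hG) e hqp hB₀n hB₀B hBM hBq hAB hX hXB hqC hab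

theorem endStmt (hG : IsMinSimpleOddOrder G) : EndStmt G := by
  intro M _ p q _ _ hpq hpi hqi P A X B0 hPM hPp hPsyl hAP hAcard hAΩ _ hCA hXA hXcard hNP hB0q
    hAB0 hXB0 hnc
  exact Cfsg.Agent.Lib.Helper50.BG117.bg117_end hG
    (fun H hH => (Cfsg.Agent.S1414.result hG H hH).2.2.2.1)
    (fun H hH => sigmaHallIn_of_coatom hG hH) (M := M) hpq hpi hqi hPM hPp hPsyl hAP hAcard hAΩ
    hCA hXA hXcard hNP hB0q hAB0 hXB0 hnc

/-- **The key step of B&G Theorem 11.7**, unconditionally. -/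
theorem hstar (hG : IsMinSimpleOddOrder G) {M A₀ A : Subgroup G} {p : ℕ} [Fact p.Prime]
    (e : Exc M p A₀ A) :
    ∀ q : ℕ, q.Prime → q ∉ sigma M → A ≤ centralizer ((pCoreOf q M : Subgroup G) : Set G) := by
  obtain ⟨A₁, A₂, h1, h2, hc1, hc2, hne, hf1, hf2⟩ := e.bg_11_6_c hG
  exact star hG (stmt1404 hG) (stmt1410 hG) (fun H hH => sigmaHallIn_of_coatom hG hH)
    (a6Stmt hG) (endStmt hG) e
    (alpha_subset_sigma hG (Cfsg.Agent.Lib.Helper19.BG124.uniqStmt hG) e.coatom)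
    (fun e' P hPp hPM hPi => e'.bg_11_5_any hG hPp hPM hPi)
    ⟨A₁, A₂, h1, h2, hne, hc1, hc2, hf1, hf2⟩
    (Cfsg.Agent.Lib.Helper19.BG124.sigmaCore_ne_bot hG e.coatom)

end Cfsg.Agent.Lib.Helper60.BG117
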