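import Cfsg.Agent.Lib.Helper63.BG13a
import Cfsg.Agent.Lib.Helper23.BetaNil
import Cfsg.Agent.Lib.Helper11.NPC
import Cfsg.Agent.Lib.Helper19.BG124a
import Cfsg.Agent.S1414
import Cfsg.Agent.S1350

/-!
# Bender–Glauberman 13.9, step (S1): `M_σ ∩ N_σ` is nilpotent for non-conjugate maximal `M`, `N`
-/

set_option autoImplicit false

namespace Cfsg.Agent.Lib.Helper60.BG139

open Subgroup Cfsg Cfsg.Agent.Lib.Helper33

universe u

variable {G : Type u} [Group G] [Finite G]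

/-- every prime divisor of `|M_σ|` lies in `σ(M)` -/
theorem mem_sigma_of_dvd_card_sigmaCore (hG : IsMinSimpleOddOrder G) {M : Subgroup G}
    (hM : IsCoatom M) {s : ℕ} (hs : s.Prime) (hd : s ∣ Nat.card (sigmaCore M)) : s ∈ sigma M :=
  (Cfsg.Agent.S1350.result hG M hM).1.2.1 s hs hd

/-- **(S1)** for non-conjugate maximal subgroups `M`, `N`, the intersection `M_σ ∩ N_σ` is
nilpotent. -/
theorem nilpotent_inf (hG : IsMinSimpleOddOrder G) {M N : Subgroup G} (hM : IsCoatom M)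
    (hN : IsCoatom N) (hnc : ∀ g : G, N ≠ M.map (MulAut.conj g).toMonoidHom) :
    Group.IsNilpotent ↥(sigmaCore M ⊓ sigmaCore N : Subgroup G) := by
  have hU := Cfsg.Agent.Lib.Helper19.BG124.uniqStmt hG
  apply Cfsg.Agent.Lib.Helper23.Beta.isNilpotent_of_forall_hnpc
  intro s hs
  haveI : Fact s.Prime := ⟨hs⟩
  by_cases hd : s ∣ Nat.card ↥(sigmaCore M ⊓ sigmaCore N : Subgroup G)
  · have hdM : s ∣ Nat.card (sigmaCore M) := dvd_trans hd (Subgroup.card_dvd_of_le inf_le_left)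
    have hdN : s ∣ Nat.card (sigmaCore N) := dvd_trans hd (Subgroup.card_dvd_of_le inf_le_right)
    have hsM : s ∈ sigma M := mem_sigma_of_dvd_card_sigmaCore hG hM hs hdM
    have hsN : s ∈ sigma N := mem_sigma_of_dvd_card_sigmaCore hG hN hs hdN
    have hsβ : s ∉ beta M := by
      intro hβ
      obtain ⟨g, hg⟩ := Cfsg.Agent.Lib.Helper63.BG13.conj_of_sigma_alpha hU hM hN hsN hβ.1
      -- `M = cj g N`, so `N = cj g⁻¹ M`
      apply hnc g⁻¹
      have : cj g⁻¹ M = N := by rw [hg, cj_inv_cj]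
      exact this.symm
    have h14 := (Cfsg.Agent.S1414.result hG M hM).2.2.2.2 s hs hsM.2.1 hsβ
    exact Cfsg.Agent.Lib.Helper11.hasNPC_of_le inf_le_left h14.2.1
  · apply Cfsg.Agent.Lib.Helper11.hasNPC_of_coprime_card
    exact (Nat.Coprime.symm ((Nat.Prime.coprime_iff_not_dvd hs).mpr hd))

end Cfsg.Agent.Lib.Helper60.BG139
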