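import Cfsg.Agent.S1415
import Cfsg.Agent.S1427

/-!
# Bender–Glauberman 13.9, step (S2): a Hall `τ₁(M)`-subgroup of a complement acts semiprimely

`semiprime_tau1`: if `T` is a Hall `τ₁(M)`-subgroup of a complement `E` of `M_σ` in `M`, then
`C_{M_σ}(x) = C_{M_σ}(T)` for every non-identity `x ∈ T`.  (From B&G 13.3(a) = S1427 and
B&G 13.4 = S1428; the statement of S1428 is taken as a hypothesis `Stmt1428 G`.)
-/

set_option autoImplicit false

namespace Cfsg.Agent.Lib.Helper60.BG139

open Subgroup Cfsg

universe u

variable {G : Type u} [Group G] [Finite G]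

/-- the statement of S1428 (B&G Theorem 13.4) for the group `G` -/
def Stmt1428 (G : Type u) [Group G] : Prop :=
  ∀ (M : Subgroup G), IsCoatom M → ∀ (E : Subgroup G), IsComplIn E (sigmaCore M) M →
    ∀ (p : ℕ), p ∈ tau1 M → ∀ (P : Subgroup G), P ≤ E → Nat.card P = p →
    ∀ (R : Subgroup G), R ≤ E ⊓ centralizer (P : Set G) → (Nat.card R).Prime →
    sigmaCore M ⊓ centralizer (P : Set G) ≤ sigmaCore M ⊓ centralizer (R : Set G)

omit [Finite G] in
theorem centralizer_zpowers_eq (y : G) :
    centralizer ((zpowers y : Subgroup G) : Set G) = centralizer ({y} : Set G) := by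
  ext g
  simp only [mem_centralizer_iff, Set.mem_singleton_iff, SetLike.mem_coe, forall_eq]
  constructor
  · intro h
    exact h y (mem_zpowers y)
  · intro h z hz
    obtain ⟨k, rfl⟩ := mem_zpowers_iff.mp hz
    exact ((Commute.zpow_left (show Commute y g from h) k).eq)

/-- **(S2)** -/
theorem semiprime_tau1 (hG : IsMinSimpleOddOrder G) (h1428 : Stmt1428 G) {M E T : Subgroup G}
    (hM : IsCoatom M) (hE : IsComplIn E (sigmaCore M) M) (hT : IsPiHallOf (tau1 M) T E) :
    ∀ x ∈ T, x ≠ 1 → sigmaCore M ⊓ centralizer ({x} : Set G) =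
      sigmaCore M ⊓ centralizer (T : Set G) := by
  classical
  intro x hxT hx1
  have hTE : T ≤ E := hT.1
  have hTcyc : IsCyclic T := (Cfsg.Agent.S1415.result hG M hM E hE).2.1 T hT
  have hTcomm : ∀ a ∈ T, ∀ b ∈ T, a * b = b * a := by
    intro a ha b hb
    haveI := hTcyc
    have hc : IsMulCommutative T := inferInstance
    have := hc.is_comm.comm ⟨a, ha⟩ ⟨b, hb⟩
    simpa using congrArg Subtype.val this
  apply le_antisymm
  swap
  · apply inf_le_inf_left
    apply centralizer_le
    intro z hz
    rw [Set.mem_singleton_iff] at hz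
    rw [hz]
    exact hxT
  -- a power `y` of `x` of prime order `t`
  obtain ⟨t, ht, htx⟩ : ∃ t : ℕ, t.Prime ∧ t ∣ orderOf x := by
    apply Nat.exists_prime_and_dvd
    intro h
    exact hx1 (orderOf_eq_one_iff.mp h)
  set y : G := x ^ (orderOf x / t) with hy
  have hyo : orderOf y = t := by
    rw [hy]
    exact orderOf_pow_orderOf_div (orderOf_pos x).ne' htx
  have hyT : y ∈ T := pow_mem hxT _
  set P : Subgroup G := zpowers y with hP
  have hPc : Nat.card P = t := by rw [hP, Nat.card_zpowers, hyo]
  have hPT : P ≤ T := zpowers_le.mpr hyT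
  have htT : t ∣ Nat.card T := hPc ▸ Subgroup.card_dvd_of_le hPT
  have htτ : t ∈ tau1 M := hT.2.1 t ht htT
  intro c hc
  have hcσ : c ∈ sigmaCore M := hc.1
  have hcx : c ∈ centralizer ({x} : Set G) := hc.2
  -- `c` commutes with `y`
  have hcy : c ∈ centralizer ({y} : Set G) := by
    rw [mem_centralizer_iff] at hcx ⊢
    intro z hz
    rw [Set.mem_singleton_iff] at hz
    subst hz
    have h1 : x * c = c * x := hcx x (Set.mem_singleton x)
    exact ((Commute.pow_left (show Commute x c from h1) _).eq)
  have hcP : c ∈ sigmaCore M ⊓ centralizer (P : Set G) := ⟨hcσ, by rw [hP, centralizer_zpowers_eq]; exact hcy⟩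
  refine ⟨hcσ, ?_⟩
  -- the subgroup of `T` centralized by `c`
  set T' : Subgroup G := T ⊓ centralizer ({c} : Set G) with hT'
  suffices hTT' : T ≤ T' by
    show c ∈ centralizer (T : Set G)
    rw [mem_centralizer_iff]
    intro z hz
    have : z ∈ centralizer ({c} : Set G) := (hTT' hz).2
    rw [mem_centralizer_iff] at this
    exact (this c (Set.mem_singleton c)).symm
  have hcard : Nat.card T ∣ Nat.card T' := by
    rw [Nat.dvd_iff_prime_pow_dvd_dvd]
    intro u k hu huk
    haveI : Fact u.Prime := ⟨hu⟩
    by_cases hk : k = 0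
    · subst hk; simp
    have huT : u ∣ Nat.card T := dvd_trans (dvd_pow_self u hk) huk
    have huτ : u ∈ tau1 M := hT.2.1 u hu huT
    -- a Sylow `u`-subgroup `Q` of `T`
    obtain ⟨Q⟩ : Nonempty (Sylow u T) := inferInstance
    have hQcard : Nat.card Q = u ^ (Nat.card T).factorization u := Sylow.card_eq_multiplicity Q
    have hkle : k ≤ (Nat.card T).factorization u :=
      (hu.pow_dvd_iff_le_factorization Nat.card_pos.ne').mp huk
    set QG : Subgroup G := (Q : Subgroup T).map T.subtype with hQG
    have hQGcard : Nat.card QG = u ^ (Nat.card T).factorization u := by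
      rw [hQG, Subgroup.card_map_of_injective T.subtype_injective]; exact hQcard
    have hQGT : QG ≤ T := by
      rw [hQG]; exact Subgroup.map_subtype_le _
    have hQGE : QG ≤ E := hQGT.trans hTE
    -- `QG` viewed in `E` is a Sylow `u`-subgroup of `E`
    have hQE_p : IsPGroup u (QG.subgroupOf E) := by
      apply IsPGroup.of_card (n := (Nat.card T).factorization u)
      rw [Nat.card_congr (subgroupOfEquivOfLe hQGE).toEquiv, hQGcard]
    obtain ⟨S, hQS⟩ := hQE_p.exists_le_sylow
    have hScard : Nat.card S = u ^ (Nat.card E).factorization u := Sylow.card_eq_multiplicity S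
    have hfac : (Nat.card E).factorization u = (Nat.card T).factorization u := by
      have h1 : Nat.card T * T.relIndex E = Nat.card E := by
        rw [Subgroup.relIndex, ← Nat.card_congr (subgroupOfEquivOfLe hTE).toEquiv]
        exact Subgroup.card_mul_index _
      have h2 : ¬ u ∣ T.relIndex E := hT.2.2 u hu huτ
      have hri : T.relIndex E ≠ 0 := by
        intro h; rw [h, mul_zero] at h1; exact Nat.card_pos.ne' h1.symm
      rw [← h1, Nat.factorization_mul Nat.card_pos.ne' hri, Finsupp.add_apply,
        Nat.factorization_eq_zero_of_not_dvd h2, add_zero]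
    have hSeq : QG.subgroupOf E = (S : Subgroup E) := by
      apply Subgroup.eq_of_le_of_card_ge hQS
      rw [hScard, hfac, Nat.card_congr (subgroupOfEquivOfLe hQGE).toEquiv, hQGcard]
    have hSmap : (S : Subgroup E).map E.subtype = QG := by
      rw [← hSeq]
      exact Subgroup.map_subgroupOf_eq_of_le hQGE
    have hS1 : (S : Subgroup E) ≠ ⊥ := by
      intro h
      have : Nat.card (S : Subgroup E) = 1 := by rw [h]; exact Subgroup.card_bot
      rw [hScard, hfac] at this
      have h3 : 1 ≤ (Nat.card T).factorization u := le_trans (Nat.one_le_iff_ne_zero.mpr hk) hkle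
      have h4 : u ^ 1 ∣ u ^ (Nat.card T).factorization u := pow_dvd_pow u h3
      rw [this, pow_one] at h4
      exact hu.one_lt.ne' (Nat.dvd_one.mp h4)
    have hSc : IsCyclic (S : Subgroup E) := by
      have e1 : (S : Subgroup E) ≃* QG := by
        rw [← hSeq]; exact subgroupOfEquivOfLe hQGE
      have e2 : QG ≃* (Q : Subgroup T) := by
        rw [hQG]
        exact ((Q : Subgroup T).equivMapOfInjective T.subtype T.subtype_injective).symm
      haveI := hTcyc
      haveI : IsCyclic (Q : Subgroup T) := inferInstance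
      exact isCyclic_of_surjective (e1.trans e2).symm (e1.trans e2).symm.surjective
    have h27 := Cfsg.Agent.S1427.result hG M hM E hE u S hS1 hSc
    rw [hSmap] at h27
    -- an element of order `u` in `QG`
    have hQGp : IsPGroup u QG := IsPGroup.of_card hQGcard
    have hQG1 : QG ≠ ⊥ := by
      intro h
      apply hS1
      rw [← hSeq, h]
      simp
    obtain ⟨y', hy'o⟩ : ∃ y' : QG, orderOf y' = u := by
      apply exists_prime_orderOf_dvd_card' (G := QG) u
      rcases hQGp.card_eq_or_dvd with h | h
      · exact absurd (Subgroup.card_eq_one.mp h) hQG1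
      · exact h
    have hy'Q : (y' : G) ∈ QG := y'.2
    have hy'oG : orderOf (y' : G) = u := by rw [← hy'o]; exact (Subgroup.orderOf_coe y')
    have hy'1 : (y' : G) ≠ 1 := by
      intro h
      rw [h, orderOf_one] at hy'oG
      exact hu.one_lt.ne hy'oG
    set R : Subgroup G := zpowers (y' : G) with hR
    have hRc : Nat.card R = u := by rw [hR, Nat.card_zpowers, hy'oG]
    have hRle : R ≤ E ⊓ centralizer (P : Set G) := by
      rw [hR, zpowers_le]
      refine ⟨hQGE hy'Q, ?_⟩
      show (y' : G) ∈ centralizer (P : Set G)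
      rw [hP, centralizer_zpowers_eq, mem_centralizer_iff]
      intro z hz
      rw [Set.mem_singleton_iff] at hz
      subst hz
      exact hTcomm _ hyT _ (hQGT hy'Q)
    have h28 := h1428 M hM E hE t htτ P (hPT.trans hTE) hPc R hRle (by rw [hRc]; exact hu)
    have hcR := h28 hcP
    have hcy' : c ∈ sigmaCore M ⊓ centralizer ({(y' : G)} : Set G) := by
      refine ⟨hcσ, ?_⟩
      show c ∈ centralizer ({(y' : G)} : Set G)
      rw [← centralizer_zpowers_eq]
      exact hcR.2
    rw [h27 (y' : G) hy'Q hy'1] at hcy'
    -- so `QG ≤ T'`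
    have hQGT' : QG ≤ T' := by
      intro z hz
      refine ⟨hQGT hz, ?_⟩
      show z ∈ centralizer ({c} : Set G)
      rw [mem_centralizer_iff]
      intro w hw
      rw [Set.mem_singleton_iff] at hw
      subst hw
      have : w ∈ centralizer (QG : Set G) := hcy'.2
      rw [mem_centralizer_iff] at this
      exact (this z hz).symm
    calc u ^ k ∣ u ^ (Nat.card T).factorization u := pow_dvd_pow u hkle
      _ = Nat.card QG := hQGcard.symm
      _ ∣ Nat.card T' := Subgroup.card_dvd_of_le hQGT'
  have hle : T' ≤ T := inf_le_left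
  have : T' = T := Subgroup.eq_of_le_of_card_ge hle (Nat.le_of_dvd Nat.card_pos hcard)
  rw [this]

end Cfsg.Agent.Lib.Helper60.BG139
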