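import Cfsg.Agent.Lib.Helper63.BG13b
import Cfsg.Agent.Lib.Helper47.BG139T7
import Cfsg.Agent.Lib.Helper23.TypeP
import Cfsg.Agent.S1415

/-!
# Bender–Glauberman Lemma 13.1(a), strong form, for arbitrary `r`-subgroups

`stmt131a hG : Stmt131a G`: for non-conjugate maximal subgroups `M`, `H` and a prime `r ∉ σ(M)`,
`r ∉ τ₁(H)`, every `r`-subgroup of `M ∩ H` centralizes `M_σ ∩ H`.  This is helper63's
`cent_of_not_tau1` with the hypothesis `|T| = t` weakened to `T` a `t`-group; the only new point is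
that a `t`-subgroup of `H` lies in `H'` when `t ∈ τ₃(H)` (from S1415: a Hall `τ₃(H)`-subgroup of a
complement `E` of `H_σ` lies in `E'`).
-/

set_option autoImplicit false
set_option linter.style.haveILetI false
set_option linter.unusedSectionVars false

namespace Cfsg.Agent.Lib.Helper60.BG131a

open Subgroup Cfsg Cfsg.Agent.Lib.Helper33 Cfsg.Agent.Lib.Helper63.BG13
open Cfsg.Agent.Lib.Helper21.BG139

universe u

variable {G : Type u} [Group G] [Finite G]

theorem commutator_self_le (H : Subgroup G) : ⁅H, H⁆ ≤ H :=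
  Subgroup.commutator_le.mpr (fun _ ha _ hb =>
    H.mul_mem (H.mul_mem (H.mul_mem ha hb) (H.inv_mem ha)) (H.inv_mem hb))

theorem le_normalizer_commutator_self (H : Subgroup G) :
    H ≤ normalizer ((⁅H, H⁆ : Subgroup G) : Set G) := fun _ hh =>
  Cfsg.Agent.Lib.Helper47.BG12.mem_normalizer_commutator (le_normalizer hh) (le_normalizer hh)

/-- for `t ∈ τ₃(H)`, the index `|H : H'|` is prime to `t` -/
theorem not_dvd_relIndex_commutator_of_tau3 (hG : IsMinSimpleOddOrder G) {H : Subgroup G}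
    (hH : IsCoatom H) {t : ℕ} (ht3 : t ∈ tau3 H) :
    ¬ t ∣ (⁅H, H⁆ : Subgroup G).relIndex H := by
  have htp : t.Prime := ht3.1
  have hσH := hallStmt hG H hH
  obtain ⟨E, hE, -⟩ := exists_compl_ge hG hH.1 hσH (bot_le : (⊥ : Subgroup G) ≤ H)
    (by rw [Subgroup.card_bot]; exact Nat.coprime_one_left _)
  have hEH : E ≤ H := hE.1
  have hEtop : E ≠ ⊤ := fun h => hH.1 (top_le_iff.mp (h ▸ hEH))
  obtain ⟨E₃, hE₃⟩ := Cfsg.Agent.Lib.Helper47.BG139.exists_isPiHallOf hG (tau3 H) hEtop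
  have h15 := ((Cfsg.Agent.S1415.result hG H hH E hE).2.2 E₃ hE₃).2.1
  have hE₃K : E₃ ≤ ⁅H, H⁆ := h15.trans (Subgroup.commutator_mono hEH hEH)
  have hKH : ⁅H, H⁆ ≤ H := commutator_self_le H
  intro hdvd
  have h1 : t ∣ E₃.relIndex H := by
    rw [← Subgroup.relIndex_mul_relIndex E₃ ⁅H, H⁆ H hE₃K hKH]
    exact dvd_mul_of_dvd_right hdvd _
  rw [← Subgroup.relIndex_mul_relIndex E₃ E H hE₃.1 hEH] at h1
  rcases (Nat.Prime.dvd_mul htp).mp h1 with h2 | h2
  · exact hE₃.2.2 t htp ht3 h2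
  · have hc := Cfsg.Agent.Lib.Helper23.card_isComplIn hE
    have h3 : E.relIndex H * Nat.card E = Nat.card H := Cfsg.Agent.Lib.Helper24.relIndex_mul_card' hEH
    have h4 : E.relIndex H = Nat.card (sigmaCore H) := by
      have hpos : 0 < Nat.card E := Nat.card_pos
      apply Nat.eq_of_mul_eq_mul_right hpos
      rw [h3, ← hc, mul_comm]
    rw [h4] at h2
    exact ht3.2.1 (Cfsg.Agent.Lib.Helper24.BG.mem_sigma_of_dvd_card_sigmaCore H htp h2)

/-- a `t`-subgroup of `H` lies in `H'` when `t ∈ τ₃(H)` -/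
theorem le_commutator_of_tau3 (hG : IsMinSimpleOddOrder G) {H : Subgroup G} (hH : IsCoatom H)
    {t : ℕ} [ht : Fact t.Prime] (ht3 : t ∈ tau3 H) {T : Subgroup G} (hT : IsPGroup t T)
    (hTH : T ≤ H) : T ≤ ⁅H, H⁆ := by
  have hidx := not_dvd_relIndex_commutator_of_tau3 hG hH ht3
  have hHK := le_normalizer_commutator_self H
  haveI : ((⁅H, H⁆ : Subgroup G).subgroupOf H).Normal := normal_subgroupOf_of_le_normalizer hHK
  intro x hx
  have hxo : ∃ k : ℕ, orderOf (⟨x, hTH hx⟩ : ↥H) = t ^ k := by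
    obtain ⟨k, hk⟩ := (IsPGroup.iff_orderOf.mp hT) ⟨x, hx⟩
    refine ⟨k, ?_⟩
    rw [← hk, ← Subgroup.orderOf_coe, ← Subgroup.orderOf_coe]
  have hmem := Cfsg.Agent.Lib.Helper47.BG11.mem_of_not_dvd_index
    ((⁅H, H⁆ : Subgroup G).subgroupOf H) (q := t) hidx hxo
  exact hmem

/-- **BG Lemma 13.1(a)**, strong form for `t`-subgroups: `M`, `H` non-conjugate maximal subgroups,
`t ∉ σ(M)`, `t ∉ τ₁(H)`; a `t`-subgroup `T ≤ H` normalizing `C ≤ M_σ ∩ H` centralizes it. -/
theorem cent_of_not_tau1_pgroup (hG : IsMinSimpleOddOrder G) {M H : Subgroup G} (hM : IsCoatom M)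
    (hH : IsCoatom H) (hnc : ∀ g : G, H ≠ cj g M) {t : ℕ} [ht : Fact t.Prime] (htM : t ∉ sigma M)
    (htH : t ∉ tau1 H) {T C : Subgroup G} (hTp : IsPGroup t T) (hTH : T ≤ H) (hCH : C ≤ H)
    (hCσ : C ≤ sigmaCore M) (hTC : T ≤ normalizer (C : Set G)) :
    C ≤ centralizer (T : Set G) := by
  have hU := uniqStmt hG
  have hHall := hallStmt hG
  have h14 := npcStmt hG
  have htp : t.Prime := ht.out
  by_cases hTbot : T = ⊥
  · subst hTbot
    intro c _
    rw [mem_centralizer_iff]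
    intro x hx
    have : x = 1 := by simpa using hx
    rw [this, one_mul, mul_one]
  have htdT : t ∣ Nat.card T := by
    rcases hTp.card_eq_or_dvd with h | h
    · exact absurd (Subgroup.card_eq_one.mp h) hTbot
    · exact h
  have htdH : t ∣ Nat.card H := htdT.trans (Subgroup.card_dvd_of_le hTH)
  by_cases hσ : t ∈ sigma H
  · exact lemmaZ hU h14 hM hH (hHall H hH) hσ htM hTp hTH hCH hCσ hTC
  have htC : ¬ t ∣ Nat.card C := fun h =>
    htM (Cfsg.Agent.Lib.Helper47.BG11.mem_sigma_of_dvd_card_le hCσ htp h)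
  by_cases hr1 : PRankLE t 1 ↥H
  · -- `t ∈ τ₃(H)`
    have hdvd : t ∣ Nat.card ↥⁅H, H⁆ := by
      by_contra h
      exact htH ⟨htp, hσ, htdH, h, hr1⟩
    have hHK := le_normalizer_commutator_self H
    have hTK : T ≤ ⁅H, H⁆ := le_commutator_of_tau3 hG hH ⟨htp, hσ, hdvd, hr1⟩ hTp hTH
    refine lemmaZ' hTp hTK (hCH.trans hHK) hTC htC ?_
    intro q hq hqC
    have hqσM : q ∈ sigma M := Cfsg.Agent.Lib.Helper47.BG11.mem_sigma_of_dvd_card_le hCσ hq hqC
    have hqH : q ∣ Nat.card H := hqC.trans (Subgroup.card_dvd_of_le hCH)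
    have hqβ : q ∉ beta H := by
      intro hβ
      obtain ⟨g, hg⟩ := conj_of_sigma_alpha hU hH hM hqσM hβ.1
      exact hnc g hg
    exact ((Cfsg.Agent.S1414.result hG H hH).2.2.2.2 q hq hqH hqβ).1
  · -- `t ∈ τ₂(H)`
    have hr2 : PRankLE t 2 ↥H := by
      by_contra h
      exact hσ (Cfsg.Agent.Lib.Helper23.alpha_subset_sigma hG hU hH ⟨htp, h⟩)
    have hτ : t ∈ tau2 H := ⟨htp, hσ, hr2, hr1⟩
    have hnil := nilpotent_sigmaCore_of_tau2 hG hH hτ
    have hcopT : (Nat.card T).Coprime (Nat.card (sigmaCore H)) := by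
      obtain ⟨k, hk⟩ := IsPGroup.iff_card.mp hTp
      rw [hk]
      exact Nat.Coprime.pow_left k ((Nat.Prime.coprime_iff_not_dvd htp).mpr
        (fun h => hσ (Cfsg.Agent.Lib.Helper24.BG.mem_sigma_of_dvd_card_sigmaCore H htp h)))
    have hcopC : (Nat.card C).Coprime (Nat.card (sigmaCore H)) := by
      apply Nat.coprime_of_dvd
      intro q hq hqC hqL
      exact not_mem_sigma_of_nilpotent hG hM hH hnc hnil hq
        (Cfsg.Agent.Lib.Helper47.BG11.mem_sigma_of_dvd_card_le hCσ hq hqC)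
        (Cfsg.Agent.Lib.Helper24.BG.mem_sigma_of_dvd_card_sigmaCore H hq hqL)
    have hcopW : (Nat.card ↥(T ⊔ C)).Coprime (Nat.card (sigmaCore H)) :=
      Nat.Coprime.coprime_dvd_left
        (Cfsg.Agent.Lib.Helper23.card_sup_dvd_of_le_normalizer T C hTC)
        (Nat.Coprime.mul_left hcopT hcopC)
    obtain ⟨Ms, hMs, hWMs, htMs⟩ := tau2_detour hG hH hτ (sup_le hTH hCH) hcopW
    exact lemmaZ hU h14 hM hMs (hHall Ms hMs) htMs htM hTp (le_sup_left.trans hWMs)
      (le_sup_right.trans hWMs) hCσ hTC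

/-- **`Stmt131a G` holds** (BG 13.1(a) in the strong form used in the proof of BG 13.9). -/
theorem stmt131a (hG : IsMinSimpleOddOrder G) : Stmt131a G := by
  intro M H hM hH hnc r hr hrM hrH R hR hRle
  haveI : Fact r.Prime := ⟨hr⟩
  have hRM : R ≤ M := hRle.trans inf_le_left
  have hRH : R ≤ H := hRle.trans inf_le_right
  refine cent_of_not_tau1_pgroup hG hM hH (fun g => hnc g) hrM hrH hR hRH inf_le_right inf_le_left ?_
  exact Cfsg.Agent.Lib.Helper47.BG11.le_normalizer_inf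
    (hRM.trans (Cfsg.Agent.Lib.Helper24.BG.le_normalizer_sigmaCore M)) (hRH.trans le_normalizer)

end Cfsg.Agent.Lib.Helper60.BG131a
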