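import Cfsg.Agent.S3639
import Cfsg.Agent.Lib.Helper6.SzForm
import Cfsg.Agent.Lib.Helper6.SzBridge

set_option autoImplicit false

/-! # `Cfsg.Lie.Sz F (2^(m+1))` (elements of `Sp₄` with `g* = g^θ`) is the stabilizer of the Suzuki–Tits ovoid

We connect the description of the Suzuki group used in `Cfsg.Lie.Sz` with the ovoid stabilizer
`Cfsg.Agent.Lib.Helper6.Sz.G` studied in helper6's library.
-/

namespace Cfsg.Agent.Lib.Helper60.SzLie

open Matrix Cfsg.Agent.S3639 Cfsg.Agent.Lib.Helper6.Sz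

section general
variable {F : Type*} [Field F]

theorem altForm4_eq_dot (u v : Fin 4 → F) :
    Cfsg.Lie.altForm4 u v = u ⬝ᵥ ((Wm : Matrix (Fin 4) (Fin 4) F) *ᵥ v) := by
  simp [Cfsg.Lie.altForm4, dotProduct, Matrix.mulVec, Wm, Fin.sum_univ_four]

theorem isSp_of_form {M : Matrix (Fin 4) (Fin 4) F}
    (h : Mᵀ * (Wm : Matrix (Fin 4) (Fin 4) F) * M = Wm) : IsSp M := by
  intro u v
  rw [altForm4_eq_dot, altForm4_eq_dot]
  calc (M *ᵥ u) ⬝ᵥ ((Wm : Matrix (Fin 4) (Fin 4) F) *ᵥ (M *ᵥ v))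
      = ((Wm : Matrix (Fin 4) (Fin 4) F) *ᵥ (M *ᵥ v)) ⬝ᵥ (M *ᵥ u) := dotProduct_comm _ _
    _ = (((Wm : Matrix (Fin 4) (Fin 4) F) *ᵥ (M *ᵥ v)) ᵥ* M) ⬝ᵥ u := Matrix.dotProduct_mulVec _ _ _
    _ = (Mᵀ *ᵥ ((Wm : Matrix (Fin 4) (Fin 4) F) *ᵥ (M *ᵥ v))) ⬝ᵥ u := by
        rw [Matrix.mulVec_transpose]
    _ = ((Mᵀ * Wm * M) *ᵥ v) ⬝ᵥ u := by rw [Matrix.mulVec_mulVec, Matrix.mulVec_mulVec]
    _ = u ⬝ᵥ ((Wm : Matrix (Fin 4) (Fin 4) F) *ᵥ v) := by rw [h, dotProduct_comm]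

theorem isSp_mul {A B : Matrix (Fin 4) (Fin 4) F} (hA : IsSp A) (hB : IsSp B) : IsSp (A * B) := by
  intro u v
  rw [← Matrix.mulVec_mulVec, ← Matrix.mulVec_mulVec, hA, hB]

omit [Field F] in
theorem adj4_eq (M : Matrix (Fin 4) (Fin 4) F) :
    adj4 M = (Mᵀ).submatrix (Fin.revPerm : Equiv.Perm (Fin 4)) (Fin.revPerm : Equiv.Perm (Fin 4)) := by
  ext i j
  fin_cases i <;> fin_cases j <;> rfl

theorem det_eq_one_of_isSp (h2 : (2 : F) = 0) {M : Matrix (Fin 4) (Fin 4) F} (hM : IsSp M) :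
    M.det = 1 := by
  have h1 : (adj4 M).det * M.det = 1 := by
    rw [← Matrix.det_mul, adj4_mul hM, Matrix.det_one]
  have h3 : (adj4 M).det = M.det := by
    rw [adj4_eq, Matrix.det_submatrix_equiv_self, Matrix.det_transpose]
  rw [h3] at h1
  have h4 : (M.det - 1) ^ 2 = 0 := by
    linear_combination h1 + (1 - M.det) * h2
  exact sub_eq_zero.mp (pow_eq_zero_iff (two_ne_zero) |>.mp h4)

/-- the matrices of the Suzuki group: isometries with `g* = g^s`. -/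
def IsSzMat (s : F →+* F) (M : Matrix (Fin 4) (Fin 4) F) : Prop :=
  IsSp M ∧ Cfsg.Lie.star4 M = M.map s

theorem IsSzMat.mul (h2 : (2 : F) = 0) {s : F →+* F} {A B : Matrix (Fin 4) (Fin 4) F}
    (hA : IsSzMat s A) (hB : IsSzMat s B) : IsSzMat s (A * B) :=
  ⟨isSp_mul hA.1 hB.1, by rw [star4_mul h2 hA.1 hB.1, hA.2, hB.2, Matrix.map_mul]⟩

theorem mulVec_e0 (M : Matrix (Fin 4) (Fin 4) F) (i : Fin 4) :
    (M *ᵥ (e0 : Fin 4 → F)) i = M i 0 := by
  simp [Matrix.mulVec, dotProduct, Fin.sum_univ_four]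

end general

section main
variable {F : Type*} [Field F] [CharP F 2] (s : F →+* F) (hs : ∀ x, s (s x) = x ^ 2)

include hs in
theorem isSzMat_Tm (a b : F) : IsSzMat s (Tm s a b) := by
  have h2 : (2 : F) = 0 := CharTwo.two_eq_zero
  refine ⟨isSp_of_form (form_Tm s a b), ?_⟩
  ext p r
  rw [star4_apply, Matrix.map_apply]
  fin_cases p <;> fin_cases r <;>
    simp [Cfsg.Lie.pairOf, Tm, ff, hs, map_add, map_mul, map_pow] <;>
    first
    | ring1
    | linear_combination (-(s a * a ^ 2 + s b)) * h2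
    | linear_combination (s a * a ^ 2 + s b) * h2
    | linear_combination (-(s a ^ 2 * a ^ 2 + s a * s b)) * h2
    | linear_combination (s a ^ 2 * a ^ 2 + s a * s b) * h2
    | linear_combination (-(s b)) * h2
    | linear_combination (s b) * h2

include hs in
theorem isSzMat_Dm {t : F} (ht : t ≠ 0) : IsSzMat s (Dm s t) := by
  have hst : s t ≠ 0 := (map_ne_zero s).mpr ht
  refine ⟨isSp_of_form (form_Dm s ht), ?_⟩
  ext p r
  rw [star4_apply, Matrix.map_apply]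
  fin_cases p <;> fin_cases r <;>
    simp [Cfsg.Lie.pairOf, Dm, hs, map_mul, map_inv₀] <;>
    first
    | (field_simp; ring1)
    | field_simp
    | ring1

theorem isSzMat_Wm : IsSzMat s (Wm : Matrix (Fin 4) (Fin 4) F) := by
  have h2 : (2 : F) = 0 := CharTwo.two_eq_zero
  refine ⟨isSp_of_form (form_Wm (F := F)), ?_⟩
  ext p r
  rw [star4_apply, Matrix.map_apply]
  fin_cases p <;> fin_cases r <;>
    simp [Cfsg.Lie.pairOf, Wm] <;>
    linear_combination (-1 : F) * h2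

/-- The first column of a Suzuki matrix spans a point of the ovoid. -/
theorem onO_col {M : Matrix (Fin 4) (Fin 4) F} (hM : IsSzMat s M) :
    OnO s (M *ᵥ (e0 : Fin 4 → F)) := by
  have h2 : (2 : F) = 0 := CharTwo.two_eq_zero
  obtain ⟨hSp, hst⟩ := hM
  have E1 : M 0 0 * M 2 1 - M 2 0 * M 0 1 = s (M 1 0) :=
    (by rw [hst]; rfl : Cfsg.Lie.star4 M 1 0 = s (M 1 0))
  have E2 : M 1 0 * M 3 1 - M 3 0 * M 1 1 = s (M 2 0) :=
    (by rw [hst]; rfl : Cfsg.Lie.star4 M 2 0 = s (M 2 0))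
  have E3 : M 2 0 * M 3 1 - M 3 0 * M 2 1 = s (M 3 0) :=
    (by rw [hst]; rfl : Cfsg.Lie.star4 M 3 0 = s (M 3 0))
  have E4 : M 0 0 * M 3 1 + M 1 0 * M 2 1 + M 2 0 * M 1 1 + M 3 0 * M 0 1 = 0 := by
    have := col_rel hSp 0 1
    rw [this]
    simp [Cfsg.Lie.altForm4]
  have hne : M *ᵥ (e0 : Fin 4 → F) ≠ 0 := by
    intro h0
    have : (adj4 M * M) *ᵥ (e0 : Fin 4 → F) = 0 := by
      rw [← Matrix.mulVec_mulVec, h0, Matrix.mulVec_zero]
    rw [adj4_mul hSp, Matrix.one_mulVec] at this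
    exact e0_ne_zero this
  by_cases h3 : M 3 0 = 0
  · have hs3 : s (M 3 0) = 0 := by rw [h3, map_zero]
    have c1 : s (M 2 0) * M 2 0 = 0 := by
      linear_combination (-(M 2 0)) * E2 + (M 1 0) * E3 +
        (M 1 0 * M 2 1 - M 2 0 * M 1 1) * h3 + (M 1 0) * hs3
    have h2' : M 2 0 = 0 := by
      rcases mul_eq_zero.mp c1 with h | h
      · exact (map_eq_zero s).mp h
      · exact h
    have hs2 : s (M 2 0) = 0 := by rw [h2', map_zero]
    have c2 : s (M 1 0) * M 1 0 ^ 2 = 0 := by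
      linear_combination (-(M 1 0 ^ 2)) * E1 + (-(M 0 0 ^ 2)) * E2 + (M 0 0 * M 1 0) * E4 +
        (-(M 0 0 ^ 2 * M 1 1) - M 0 0 * M 1 0 * M 0 1) * h3 + (-(M 0 0 ^ 2)) * hs2 +
        (-(M 0 0 * M 1 0 * M 1 1) - M 1 0 ^ 2 * M 0 1) * h2'
    have h1' : M 1 0 = 0 := by
      rcases mul_eq_zero.mp c2 with h | h
      · exact (map_eq_zero s).mp h
      · exact pow_eq_zero_iff (two_ne_zero) |>.mp h
    have hv : M *ᵥ (e0 : Fin 4 → F) = M 0 0 • (e0 : Fin 4 → F) := by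
      apply vec4_ext <;> simp [mulVec_e0, h1', h2', h3]
    have h0' : M 0 0 ≠ 0 := by
      intro h0
      apply hne
      rw [hv, h0, zero_smul]
    exact ⟨M 0 0, h0', Or.inl hv⟩
  · have hstar : M 0 0 * (M 3 0 * s (M 3 0)) =
        M 1 0 * M 2 0 * s (M 3 0) + s (M 2 0) * M 2 0 ^ 2 + s (M 1 0) * M 3 0 ^ 2 := by
      linear_combination (M 3 0 ^ 2) * E1 + (M 2 0 ^ 2) * E2 +
        (M 1 0 * M 2 0 - M 0 0 * M 3 0) * E3 + (M 3 0 * M 2 0) * E4 +
        (-(M 1 0 * M 2 0 ^ 2 * M 3 1) - M 3 0 ^ 2 * M 0 0 * M 2 1) * h2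
    refine ⟨M 3 0, h3, Or.inr ⟨M 2 0 / M 3 0, M 1 0 / M 3 0, ?_⟩⟩
    have hs3 : s (M 3 0) ≠ 0 := (map_ne_zero s).mpr h3
    apply vec4_ext
    · rw [mulVec_e0]
      simp only [Pi.smul_apply, Pv_apply_zero, smul_eq_mul, ff, map_div₀]
      field_simp
      linear_combination hstar
    · rw [mulVec_e0]
      simp only [Pi.smul_apply, Pv_apply_one, smul_eq_mul]
      field_simp
    · rw [mulVec_e0]
      simp only [Pi.smul_apply, Pv_apply_two, smul_eq_mul]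
      field_simp
    · rw [mulVec_e0]
      simp only [Pi.smul_apply, Pv_apply_three, smul_eq_mul, mul_one]

include hs in
/-- Suzuki matrices preserve the ovoid. -/
theorem onO_mulVec {M : Matrix (Fin 4) (Fin 4) F} (hM : IsSzMat s M) {v : Fin 4 → F}
    (hv : OnO s v) : OnO s (M *ᵥ v) := by
  have h2 : (2 : F) = 0 := CharTwo.two_eq_zero
  obtain ⟨c, hc, h | ⟨x, y, h⟩⟩ := hv
  · rw [h, Matrix.mulVec_smul]
    exact (onO_col s hM).smul hc
  · have hP : Pv s x y = (Tm s x y * Wm) *ᵥ (e0 : Fin 4 → F) := by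
      rw [← Matrix.mulVec_mulVec, Wm_e0 s, Tm_Pv s hs]
      simp
    rw [h, Matrix.mulVec_smul, hP, Matrix.mulVec_mulVec]
    exact (onO_col s (hM.mul h2 ((isSzMat_Tm s hs x y).mul h2 (isSzMat_Wm s)))).smul hc

include hs in
/-- Elements of the ovoid stabilizer are Suzuki matrices. -/
theorem isSzMat_of_mem_G [Finite F] (hnt : ∃ y : F, s y ≠ y ^ 2)
    {g : Matrix.SpecialLinearGroup (Fin 4) F} (hg : g ∈ G s) :
    IsSzMat s (g : Matrix (Fin 4) (Fin 4) F) := by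
  have h2 : (2 : F) = 0 := CharTwo.two_eq_zero
  have hT : ∀ a b : F, IsSzMat s
      ((T s a b : Matrix.SpecialLinearGroup (Fin 4) F) : Matrix (Fin 4) (Fin 4) F) :=
    fun a b => isSzMat_Tm s hs a b
  have hD : ∀ t : Fˣ, IsSzMat s
      ((D s t : Matrix.SpecialLinearGroup (Fin 4) F) : Matrix (Fin 4) (Fin 4) F) :=
    fun t => isSzMat_Dm s hs t.ne_zero
  have hW : IsSzMat s
      ((W : Matrix.SpecialLinearGroup (Fin 4) F) : Matrix (Fin 4) (Fin 4) F) := isSzMat_Wm s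
  rcases exists_decomp s hs hnt hg with ⟨a, b, t, rfl⟩ | ⟨a, b, a', b', t, rfl⟩
  · rw [Matrix.SpecialLinearGroup.coe_mul]
    exact (hT a b).mul h2 (hD t)
  · rw [Matrix.SpecialLinearGroup.coe_mul, Matrix.SpecialLinearGroup.coe_mul,
      Matrix.SpecialLinearGroup.coe_mul]
    exact ((hT a b).mul h2 hW).mul h2 ((hT a' b').mul h2 (hD t))

end main

section bridge
variable {F : Type*} [Field F] [CharP F 2] (m : ℕ)

theorem mem_props {g : GL (Fin 4) F} (hg : g ∈ Cfsg.Lie.Sz F (2 ^ (m + 1))) :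
    IsSzMat (sig F m) (g : Matrix (Fin 4) (Fin 4) F) := by
  have h2 : (2 : F) = 0 := CharTwo.two_eq_zero
  obtain ⟨h1, h3⟩ := sz_prop h2 (2 ^ (m + 1)) (sig F m) (sig_apply m) g hg
  exact ⟨isSp_of_mem h1, h3⟩

/-- the inclusion of `Cfsg.Lie.Sz` into `SL₄`. -/
noncomputable def toSL :
    ↥(Cfsg.Lie.Sz F (2 ^ (m + 1))) →* Matrix.SpecialLinearGroup (Fin 4) F where
  toFun g := ⟨((g : GL (Fin 4) F) : Matrix (Fin 4) (Fin 4) F),
    det_eq_one_of_isSp CharTwo.two_eq_zero (mem_props m g.2).1⟩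
  map_one' := Subtype.ext rfl
  map_mul' _ _ := Subtype.ext rfl

theorem toSL_coe (g : ↥(Cfsg.Lie.Sz F (2 ^ (m + 1)))) :
    ((toSL m g : Matrix.SpecialLinearGroup (Fin 4) F) : Matrix (Fin 4) (Fin 4) F) =
      ((g : GL (Fin 4) F) : Matrix (Fin 4) (Fin 4) F) := rfl

theorem toSL_injective : Function.Injective (toSL (F := F) m) := by
  intro g h hgh
  have := congrArg
    (fun A : Matrix.SpecialLinearGroup (Fin 4) F => (A : Matrix (Fin 4) (Fin 4) F)) hgh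
  exact Subtype.ext (Units.ext this)

variable [Fintype F] {m}

theorem toSL_mem (hF : Fintype.card F = 2 ^ (2 * m + 1)) (g : ↥(Cfsg.Lie.Sz F (2 ^ (m + 1)))) :
    toSL m g ∈ G (sig F m) := by
  rw [mem_G_iff]
  intro v hv
  exact onO_mulVec (sig F m) (sig_sig hF) (mem_props m g.2) hv

theorem exists_toSL_eq (hm : 1 ≤ m) (hF : Fintype.card F = 2 ^ (2 * m + 1))
    {y : Matrix.SpecialLinearGroup (Fin 4) F} (hy : y ∈ G (sig F m)) :
    ∃ g : ↥(Cfsg.Lie.Sz F (2 ^ (m + 1))), toSL m g = y := by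
  have hy' := isSzMat_of_mem_G (sig F m) (sig_sig hF) (sig_nt hm hF) hy
  let gl : GL (Fin 4) F := ⟨y.1, adj4 y.1, mul_adj4 hy'.1, adj4_mul hy'.1⟩
  have hmem : gl ∈ Cfsg.Lie.Sz F (2 ^ (m + 1)) := by
    apply Subgroup.subset_closure
    refine ⟨fun u v => hy'.1 u v, ?_⟩
    have hfun : (fun x : F => x ^ 2 ^ (m + 1)) = (sig F m : F → F) := by
      funext x
      exact (sig_apply m x).symm
    show Cfsg.Lie.star4 (y : Matrix (Fin 4) (Fin 4) F) =
      (y : Matrix (Fin 4) (Fin 4) F).map (fun x => x ^ 2 ^ (m + 1))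
    rw [hfun]
    exact hy'.2
  exact ⟨⟨gl, hmem⟩, Subtype.ext rfl⟩

/-- **The bridge**: `Cfsg.Lie.Sz F (2^(m+1))` is isomorphic to the stabilizer of the
Suzuki–Tits ovoid. -/
noncomputable def szEquiv (hm : 1 ≤ m) (hF : Fintype.card F = 2 ^ (2 * m + 1)) :
    ↥(Cfsg.Lie.Sz F (2 ^ (m + 1))) ≃* ↥(G (sig F m)) :=
  MulEquiv.ofBijective ((toSL m).codRestrict (G (sig F m)) (toSL_mem hF))
    ⟨fun _ _ hgh => toSL_injective m (congrArg Subtype.val hgh),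
     fun y => by
       obtain ⟨g, hg⟩ := exists_toSL_eq hm hF y.2
       exact ⟨g, Subtype.ext hg⟩⟩

theorem szEquiv_coe (hm : 1 ≤ m) (hF : Fintype.card F = 2 ^ (2 * m + 1))
    (g : ↥(Cfsg.Lie.Sz F (2 ^ (m + 1)))) :
    ((szEquiv hm hF g : ↥(G (sig F m))) : Matrix.SpecialLinearGroup (Fin 4) F) = toSL m g := rfl

end bridge

end Cfsg.Agent.Lib.Helper60.SzLie
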