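import Cfsg.Agent.Lib.Helper15.HsBasic

set_option autoImplicit false

/-!
# `Ha` hive (S2534) leaf HA-FPF: a fixed-point-free `π`-subgroup of `A_n` (the stabilizer of `{0,1}`)
-/

namespace Cfsg.Agent.Lib.Helper14.Ha

open Cfsg Cfsg.Agent.Lib.Helper15.Hs

/-- the permutations of `Fin n` preserving the set of points `< 2` -/
def fpf_Y (n : ℕ) : Subgroup (Equiv.Perm (Fin n)) where
  carrier := {g | ∀ x : Fin n, (g x).val < 2 ↔ x.val < 2}
  one_mem' := fun x => Iff.rfl
  mul_mem' := by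
    intro a b ha hb x
    rw [Equiv.Perm.mul_apply]
    exact (ha (b x)).trans (hb x)
  inv_mem' := by
    intro a ha x
    have e : a (a⁻¹ x) = x := by
      rw [← Equiv.Perm.mul_apply, mul_inv_cancel, Equiv.Perm.one_apply]
    have := ha (a⁻¹ x)
    rw [e] at this
    exact this.symm

theorem fpf_mem_Y (n : ℕ) (g : Equiv.Perm (Fin n)) :
    g ∈ fpf_Y n ↔ ∀ x : Fin n, (g x).val < 2 ↔ x.val < 2 := Iff.rfl

theorem fpf_swap_mem (n : ℕ) (c d : Fin n) (h : c.val < 2 ↔ d.val < 2) :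
    Equiv.swap c d ∈ fpf_Y n := by
  intro y
  rw [Equiv.swap_apply_def]
  split_ifs with h1 h2
  · subst h1; exact h.symm
  · subst h2; exact h
  · exact Iff.rfl

theorem fpf_prod_mem (n : ℕ) (z o a b : Fin n) (hz : z.val = 0) (ho : o.val = 1) (ha : 2 ≤ a.val)
    (hb : 2 ≤ b.val) (hab : a ≠ b) :
    Equiv.swap z o * Equiv.swap a b ∈ fpf_Y n ∧
      Equiv.swap z o * Equiv.swap a b ∈ alternatingGroup (Fin n) := by
  have hzo : z ≠ o := fun h => by rw [h] at hz; omega
  refine ⟨mul_mem (fpf_swap_mem n z o (by omega)) (fpf_swap_mem n a b (by omega)), ?_⟩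
  rw [Equiv.Perm.mem_alternatingGroup, map_mul, Equiv.Perm.sign_swap hzo, Equiv.Perm.sign_swap hab]
  rfl

theorem fpf_moves (n : ℕ) (z o a b : Fin n) (hz : z.val = 0) (ho : o.val = 1) (ha : 2 ≤ a.val)
    (hb : 2 ≤ b.val) (hab : a ≠ b) :
    (Equiv.swap z o * Equiv.swap a b) z ≠ z ∧ (Equiv.swap z o * Equiv.swap a b) o ≠ o ∧
      (Equiv.swap z o * Equiv.swap a b) a ≠ a := by
  have hzo : z ≠ o := fun h => by rw [h] at hz; omega
  have hza : z ≠ a := fun h => by rw [h] at hz; omega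
  have hzb : z ≠ b := fun h => by rw [h] at hz; omega
  have hoa : o ≠ a := fun h => by rw [h] at ho; omega
  have hob : o ≠ b := fun h => by rw [h] at ho; omega
  refine ⟨?_, ?_, ?_⟩
  · rw [Equiv.Perm.mul_apply, Equiv.swap_apply_of_ne_of_ne hza hzb, Equiv.swap_apply_left]
    exact hzo.symm
  · rw [Equiv.Perm.mul_apply, Equiv.swap_apply_of_ne_of_ne hoa hob, Equiv.swap_apply_right]
    exact hzo
  · rw [Equiv.Perm.mul_apply, Equiv.swap_apply_left,
      Equiv.swap_apply_of_ne_of_ne hzb.symm hob.symm]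
    exact hab.symm

theorem fpf_prime_lt (n : ℕ) (hn : 5 ≤ n) (σ : Equiv.Perm (Fin n)) (p : ℕ) (hp : p.Prime)
    (hord : orderOf σ = p) (hY : ∀ i : ℤ, σ ^ i ∈ fpf_Y n) : p < n := by
  obtain ⟨k, hk⟩ := Equiv.Perm.cycleType_prime_order (σ := σ) (by rw [hord]; exact hp)
  rw [hord] at hk
  have hsum := Equiv.Perm.sum_cycleType σ
  rw [hk, Multiset.sum_replicate, smul_eq_mul] at hsum
  have hle : σ.support.card ≤ n := by
    have := Finset.card_le_univ σ.support
    rwa [Fintype.card_fin] at this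
  have hp2 := hp.two_le
  rcases Nat.eq_zero_or_pos k with hk0 | hk0
  · subst hk0
    rw [zero_add, one_mul] at hsum
    by_contra hlt
    have hpn : p = n := by omega
    have hcyc : σ.IsCycle := by
      rw [← Equiv.Perm.card_cycleType_eq_one, hk]
      simp
    have huniv : σ.support = Finset.univ := by
      rw [← Finset.card_eq_iff_eq_univ, Fintype.card_fin, ← hsum, hpn]
    have h0 : σ ⟨0, by omega⟩ ≠ ⟨0, by omega⟩ := by
      rw [← Equiv.Perm.mem_support, huniv]; exact Finset.mem_univ _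
    have h2 : σ ⟨2, by omega⟩ ≠ ⟨2, by omega⟩ := by
      rw [← Equiv.Perm.mem_support, huniv]; exact Finset.mem_univ _
    obtain ⟨i, hi⟩ := hcyc.exists_zpow_eq h0 h2
    have := (hY i) ⟨0, by omega⟩
    rw [hi] at this
    simp at this
  · have : 2 * p ≤ (k + 1) * p := Nat.mul_le_mul_right p (by omega)
    omega

theorem exists_fpf_pi_subgroup (n : ℕ) (hn : 5 ≤ n) (π : Set ℕ)
    (hπ : ∀ r : ℕ, r.Prime → r < n → r ∈ π) :
    ∃ X : Subgroup ↥(alternatingGroup (Fin n)), IsPiSubgroup π X ∧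
      ∀ i : Fin n, ∃ g ∈ X, (g : Equiv.Perm (Fin n)) i ≠ i := by
  refine ⟨(fpf_Y n).comap (alternatingGroup (Fin n)).subtype, ?_, ?_⟩
  · intro p hp hdvd
    apply hπ p hp
    haveI : Fact p.Prime := ⟨hp⟩
    obtain ⟨x, hx⟩ := exists_prime_orderOf_dvd_card' p hdvd
    apply fpf_prime_lt n hn (((x : ↥(alternatingGroup (Fin n))) : Equiv.Perm (Fin n))) p hp
    · rw [Subgroup.orderOf_coe, Subgroup.orderOf_coe, hx]
    · intro i
      have := (x ^ i).2
      rw [Subgroup.mem_comap] at this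
      have h3 : (((x ^ i : _) : ↥(alternatingGroup (Fin n))) : Equiv.Perm (Fin n)) =
          ((x : ↥(alternatingGroup (Fin n))) : Equiv.Perm (Fin n)) ^ i := by
        rw [Subgroup.coe_zpow, Subgroup.coe_zpow]
      rw [← h3]
      exact this
  · intro i
    let z : Fin n := ⟨0, by omega⟩
    let o : Fin n := ⟨1, by omega⟩
    have hmk : ∀ a b : Fin n, 2 ≤ a.val → 2 ≤ b.val → a ≠ b →
        ∃ g ∈ (fpf_Y n).comap (alternatingGroup (Fin n)).subtype,
          (g : Equiv.Perm (Fin n)) = Equiv.swap z o * Equiv.swap a b := by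
      intro a b ha hb hab
      obtain ⟨h1, h2⟩ := fpf_prod_mem n z o a b rfl rfl ha hb hab
      exact ⟨⟨_, h2⟩, by rw [Subgroup.mem_comap]; exact h1, rfl⟩
    by_cases hi : i.val < 2
    · have h23 : (⟨2, by omega⟩ : Fin n) ≠ ⟨3, by omega⟩ := by
        intro h; simp [Fin.ext_iff] at h
      obtain ⟨g, hg, hge⟩ := hmk ⟨2, by omega⟩ ⟨3, by omega⟩ (le_refl 2) (by simp) h23
      obtain ⟨m1, m2, -⟩ := fpf_moves n z o ⟨2, by omega⟩ ⟨3, by omega⟩ rfl rfl (le_refl 2)
        (by simp) h23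
      refine ⟨g, hg, ?_⟩
      rw [hge]
      have hi01 : i = z ∨ i = o := by
        rcases Nat.lt_or_ge i.val 1 with h | h
        · left; apply Fin.ext; show i.val = 0; omega
        · right; apply Fin.ext; show i.val = 1; omega
      rcases hi01 with rfl | rfl
      · exact m1
      · exact m2
    · have hi2 : 2 ≤ i.val := by omega
      obtain ⟨b, hb2, hbi⟩ : ∃ b : Fin n, 2 ≤ b.val ∧ i ≠ b := by
        by_cases h2 : i.val = 2
        · exact ⟨⟨3, by omega⟩, by simp, fun h => by rw [h] at h2; simp at h2⟩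
        · exact ⟨⟨2, by omega⟩, le_refl 2, fun h => by rw [h] at h2; simp at h2⟩
      obtain ⟨g, hg, hge⟩ := hmk i b hi2 hb2 hbi
      obtain ⟨-, -, m3⟩ := fpf_moves n z o i b rfl rfl hi2 hb2 hbi
      refine ⟨g, hg, ?_⟩
      rw [hge]
      exact m3

end Cfsg.Agent.Lib.Helper14.Ha
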