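import Mathlib
import Cfsg.Agent.Lib.Helper14.P4Defs
import Cfsg.Agent.S3762
import Cfsg.Agent.Lib.Helper2.PGroup

/-! # S6000 hive (helper14), leaf P4-A1A: abstract structure of the symplectic-type group of
order 64, exponent 4, centre of order 4 -/

set_option autoImplicit false
set_option linter.style.haveILetI false

namespace Cfsg.Agent.Lib.Helper14.P4

open scoped commutatorElement

/-- the second factor of P. Hall's decomposition is cyclic when the exponent is `4` -/
theorem a1a_cyclic {G : Type*} [Group G] [Finite G] (hexp : ∀ g : G, g ^ 4 = 1) (R : Subgroup G)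
    (h : IsCyclic R ∨ (2 = 2 ∧ 16 ≤ Nat.card R ∧ ((∃ m : ℕ, Nonempty (↥R ≃* DihedralGroup m)) ∨
      (∃ m : ℕ, Nonempty (↥R ≃* QuaternionGroup m)) ∨ Cfsg.IsQuasiDihedral ↥R))) : IsCyclic R := by
  rcases h with h | ⟨-, h16, h⟩
  · exact h
  exfalso
  have hexpR : ∀ x : ↥R, x ^ 4 = 1 := fun x => Subtype.ext (by simpa using hexp (x : G))
  rcases h with ⟨m, ⟨e⟩⟩ | ⟨m, ⟨e⟩⟩ | ⟨n, hn, -, x, y, hx, -, -⟩
  · -- dihedral
    have hord : orderOf (e.symm (DihedralGroup.r 1)) = m := by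
      rw [MulEquiv.orderOf_eq, DihedralGroup.orderOf_r_one]
    have hdvd : m ∣ 4 := by
      rw [← hord]; exact orderOf_dvd_of_pow_eq_one (hexpR _)
    have hle : m ≤ 4 := Nat.le_of_dvd (by norm_num) hdvd
    have hcard : Nat.card ↥R = 2 * m := by
      rw [Nat.card_congr e.toEquiv, DihedralGroup.nat_card]
    omega
  · -- quaternion
    have hord : orderOf (e.symm (QuaternionGroup.a 1)) = 2 * m := by
      rw [MulEquiv.orderOf_eq, QuaternionGroup.orderOf_a_one]
    have hdvd : 2 * m ∣ 4 := by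
      rw [← hord]; exact orderOf_dvd_of_pow_eq_one (hexpR _)
    have hle : 2 * m ≤ 4 := Nat.le_of_dvd (by norm_num) hdvd
    have hm0 : m ≠ 0 := by
      rintro rfl
      simp at hdvd
    haveI : NeZero m := ⟨hm0⟩
    have hcard : Nat.card ↥R = 4 * m := by
      rw [Nat.card_congr e.toEquiv, Nat.card_eq_fintype_card, QuaternionGroup.card]
    omega
  · -- quasidihedral
    have hdvd : 2 ^ n ∣ 4 := by
      rw [← hx]; exact orderOf_dvd_of_pow_eq_one (hexpR _)
    have hle : 2 ^ n ≤ 4 := Nat.le_of_dvd (by norm_num) hdvd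
    have : 2 ^ 3 ≤ 2 ^ n := Nat.pow_le_pow_right (by norm_num) hn
    omega

/-- P4-A1A. -/
theorem abstract_structure {G : Type*} [Group G] [Finite G] (hG : IsPGroup 2 G)
    (hsymp : ∀ A : Subgroup G, A.Characteristic → IsMulCommutative A → IsCyclic A)
    (hexp : Monoid.exponent G = 4) (hcard : Nat.card G = 64)
    (hZ : Nat.card (Subgroup.center G) = 4) (g h : G) :
    g * h * g⁻¹ * h⁻¹ ∈ Subgroup.center G ∧ (g * h * g⁻¹ * h⁻¹) ^ 2 = 1 ∧
      g ^ 2 ∈ Subgroup.center G := by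
  haveI : Fact (Nat.Prime 2) := ⟨Nat.prime_two⟩
  have hexp4 : ∀ g : G, g ^ 4 = 1 := fun g => by
    rw [← hexp]; exact Monoid.pow_exponent_eq_one g
  obtain ⟨E, R, hcomm, hsup, hE, hR⟩ := Cfsg.Agent.S3762.result hG hsymp
  have hRc : IsCyclic R := a1a_cyclic hexp4 R hR
  -- `R` is central
  have hRZ : R ≤ Subgroup.center G := by
    intro r hr
    rw [Subgroup.mem_center_iff]
    have hle : E ⊔ R ≤ Subgroup.centralizer ({r} : Set G) := by
      apply sup_le
      · intro e he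
        rw [Subgroup.mem_centralizer_iff]
        intro x hx
        rw [Set.mem_singleton_iff.mp hx]
        exact (hcomm e he r hr).symm
      · intro s hs
        rw [Subgroup.mem_centralizer_iff]
        intro x hx
        rw [Set.mem_singleton_iff.mp hx]
        obtain ⟨t, ht⟩ := hRc.exists_generator
        obtain ⟨a, ha⟩ := Subgroup.mem_zpowers_iff.mp (ht ⟨r, hr⟩)
        obtain ⟨b, hb⟩ := Subgroup.mem_zpowers_iff.mp (ht ⟨s, hs⟩)
        have h1 : r = (t : G) ^ a := by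
          have := congrArg Subtype.val ha
          simpa using this.symm
        have h2 : s = (t : G) ^ b := by
          have := congrArg Subtype.val hb
          simpa using this.symm
        rw [h1, h2]
        exact ((Commute.refl (t : G)).zpow_zpow a b).eq
    intro x
    have hx : x ∈ Subgroup.centralizer ({r} : Set G) := hle (hsup ▸ Subgroup.mem_top x)
    exact (Subgroup.mem_centralizer_iff.mp hx r rfl).symm
  haveI hRn : R.Normal := by
    refine ⟨fun n hn g => ?_⟩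
    have h1 : g * n = n * g := Subgroup.mem_center_iff.mp (hRZ hn) g
    have h2 : g * n * g⁻¹ = n := by rw [h1, mul_inv_cancel_right]
    rw [h2]; exact hn
  -- `E` is not trivial
  have hE1 : E ≠ ⊥ := by
    rintro rfl
    rw [bot_sup_eq] at hsup
    have : Subgroup.center G = ⊤ := top_le_iff.mp (hsup ▸ hRZ)
    rw [this, Subgroup.card_top, hcard] at hZ
    omega
  obtain ⟨⟨-, hfr, hco⟩, hcE⟩ := hE.resolve_left hE1
  -- the centre of `E` is central in `G` and has exponent `2`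
  have hZE : ∀ z : ↥E, z ∈ Subgroup.center ↥E → (z : G) ∈ Subgroup.center G ∧ (z : G) ^ 2 = 1 := by
    intro z hz
    constructor
    · rw [Subgroup.mem_center_iff]
      intro x
      obtain ⟨e, he, r, hr, rfl⟩ := Subgroup.mem_sup_of_normal_right.mp
        (show x ∈ E ⊔ R from hsup ▸ Subgroup.mem_top x)
      have h1 : e * (z : G) = (z : G) * e := by
        have := Subgroup.mem_center_iff.mp hz ⟨e, he⟩
        simpa using congrArg Subtype.val this
      have h2 : r * (z : G) = (z : G) * r := (hcomm z z.2 r hr).symm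
      calc e * r * (z : G) = e * ((z : G) * r) := by rw [mul_assoc, h2]
        _ = (e * (z : G)) * r := by rw [mul_assoc]
        _ = (z : G) * (e * r) := by rw [h1, mul_assoc]
    · have h1 : (⟨z, hz⟩ : ↥(Subgroup.center ↥E)) ^ Nat.card ↥(Subgroup.center ↥E) = 1 :=
        pow_card_eq_one'
      rw [hcE] at h1
      have := congrArg (fun w : ↥(Subgroup.center ↥E) => ((w : ↥E) : G)) h1
      simpa using this
  -- decompose `g` and `h`
  obtain ⟨e, he, r, hr, rfl⟩ := Subgroup.mem_sup_of_normal_right.mp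
    (show g ∈ E ⊔ R from hsup ▸ Subgroup.mem_top g)
  obtain ⟨e', he', r', hr', rfl⟩ := Subgroup.mem_sup_of_normal_right.mp
    (show h ∈ E ⊔ R from hsup ▸ Subgroup.mem_top h)
  have hrc : ∀ x : G, r * x = x * r := fun x => (Subgroup.mem_center_iff.mp (hRZ hr) x).symm
  have hrc' : ∀ x : G, r' * x = x * r' := fun x => (Subgroup.mem_center_iff.mp (hRZ hr') x).symm
  have hcommEq : e * r * (e' * r') * (e * r)⁻¹ * (e' * r')⁻¹ = e * e' * e⁻¹ * e'⁻¹ := by
    have h1 : e * r * (e' * r') = e * e' * (r * r') := by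
      rw [mul_assoc e r, ← mul_assoc r e' r', hrc e', mul_assoc e' r r', ← mul_assoc e e']
    have h2 : (e * r)⁻¹ = r⁻¹ * e⁻¹ := mul_inv_rev e r
    have h3 : (e' * r')⁻¹ = r'⁻¹ * e'⁻¹ := mul_inv_rev e' r'
    have hri : ∀ x : G, r⁻¹ * x = x * r⁻¹ := fun x =>
      (Subgroup.mem_center_iff.mp (Subgroup.inv_mem _ (hRZ hr)) x).symm
    have hri' : ∀ x : G, r'⁻¹ * x = x * r'⁻¹ := fun x =>
      (Subgroup.mem_center_iff.mp (Subgroup.inv_mem _ (hRZ hr')) x).symm
    rw [h1, h2, h3]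
    calc e * e' * (r * r') * (r⁻¹ * e⁻¹) * (r'⁻¹ * e'⁻¹)
        = e * e' * (r * r' * r⁻¹) * e⁻¹ * (r'⁻¹ * e'⁻¹) := by group
      _ = e * e' * r' * e⁻¹ * (r'⁻¹ * e'⁻¹) := by rw [hrc r']; group
      _ = e * e' * e⁻¹ * (r' * r'⁻¹) * e'⁻¹ := by rw [mul_assoc (e * e') r' e⁻¹, hrc' e⁻¹]; group
      _ = e * e' * e⁻¹ * e'⁻¹ := by group
  have hcE' : (⁅(⟨e, he⟩ : ↥E), ⟨e', he'⟩⁆ : ↥E) ∈ Subgroup.center ↥E := by
    rw [← hco, commutator_def]
    exact Subgroup.commutator_mem_commutator (Subgroup.mem_top _) (Subgroup.mem_top _)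
  have hval : ((⁅(⟨e, he⟩ : ↥E), ⟨e', he'⟩⁆ : ↥E) : G) = e * e' * e⁻¹ * e'⁻¹ := by
    rw [commutatorElement_def]
    simp
  obtain ⟨hc1, hc2⟩ := hZE _ hcE'
  rw [hval] at hc1 hc2
  refine ⟨by rw [hcommEq]; exact hc1, by rw [hcommEq]; exact hc2, ?_⟩
  -- squares
  have hsq : (e * r) ^ 2 = e ^ 2 * r ^ 2 := by
    rw [pow_two, pow_two, pow_two, mul_assoc e r, ← mul_assoc r e r, hrc e]; group
  rw [hsq]
  apply Subgroup.mul_mem
  · have h1 : (⟨e, he⟩ : ↥E) ^ 2 ∈ frattini ↥E :=
      Cfsg.Agent.Lib.Helper2.pow_mem_frattini (hG.to_subgroup E) ⟨e, he⟩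
    rw [hfr] at h1
    have := (hZE _ h1).1
    simpa using this
  · exact Subgroup.pow_mem _ (hRZ hr) 2

end Cfsg.Agent.Lib.Helper14.P4
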