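import Cfsg.Agent.Lib.Helper14.WeDefs

/-! # We hive (S2347), leaf WE-PAR: the parity operator. -/

set_option autoImplicit false

namespace Cfsg.Agent.Lib.Helper14.We

open Matrix Cfsg
open scoped ComplexConjugate

section Concrete

variable {F : Type*} [Field F] {n : ℕ}

/-- WE-PAR (a). -/
theorem Pop_mul_Rop (ψ : AddChar F ℂ) (v : VV F n) :
    (Pop : Module.End ℂ (WW F n)) * Rop ψ v = Rop ψ (-v) * Pop := by
  apply LinearMap.ext
  intro f
  funext x
  rw [Module.End.mul_apply, Module.End.mul_apply, Pop_apply, Rop_apply, Rop_apply, Pop_apply]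
  have h1 : (-v) ∘ Sum.inl = -(v ∘ Sum.inl) := rfl
  have h2 : (-v) ∘ Sum.inr = -(v ∘ Sum.inr) := rfl
  rw [h1, h2, neg_dotProduct_neg, dotProduct_neg, neg_dotProduct, neg_add, neg_neg]

/-- WE-PAR (b). -/
theorem Pop_mul_Pop : (Pop : Module.End ℂ (WW F n)) * Pop = 1 := by
  apply LinearMap.ext
  intro f
  funext x
  rw [Module.End.mul_apply, Pop_apply, Pop_apply, neg_neg]
  rfl

/-- WE-PAR (c). -/
theorem trace_Pop [Fintype F] (h2 : (2 : F) ≠ 0) :
    LinearMap.trace ℂ (WW F n) (Pop : Module.End ℂ (WW F n)) = 1 := by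
  classical
  rw [LinearMap.trace_eq_matrix_trace ℂ (Pi.basisFun ℂ (Fin n → F)), Matrix.trace]
  have hd : ∀ x : Fin n → F,
      (LinearMap.toMatrix (Pi.basisFun ℂ (Fin n → F)) (Pi.basisFun ℂ (Fin n → F))
        (Pop : Module.End ℂ (WW F n))).diag x = if x = 0 then 1 else 0 := by
    intro x
    rw [Matrix.diag_apply, LinearMap.toMatrix_apply, Pi.basisFun_repr, Pi.basisFun_apply, Pop_apply,
      Pi.single_apply]
    by_cases hx : x = 0
    · subst hx; simp
    · rw [if_neg hx, if_neg]
      intro h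
      apply hx
      funext i
      have hi := congrFun h i
      rw [Pi.neg_apply] at hi
      have : (2 : F) * x i = 0 := by linear_combination -hi
      rcases mul_eq_zero.mp this with h' | h'
      · exact absurd h' h2
      · exact h'
  rw [Finset.sum_congr rfl (fun x _ => hd x), Finset.sum_ite_eq' Finset.univ (0 : Fin n → F)]
  simp

end Concrete

end Cfsg.Agent.Lib.Helper14.We
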