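import Mathlib
import Cfsg.Agent.Lib.Helper16.PSLDefs
import Cfsg.Agent.Lib.Helper79.Basic

/-!
# S4472 hive (helper16), leaf PSL-B2 (core): transfer of `bound_npc` to a pair of subgroups

`b2_of_npc` is the leaf `bound_pair` with `bound_npc` (leaf B1) as an explicit hypothesis.
-/

set_option autoImplicit false

namespace Cfsg.Agent.Lib.Helper16.PSL

open Cfsg

universe u

theorem b2_centralizer_subgroupOf {G : Type u} [Group G] (Q P K : Subgroup G) (hQK : Q ≤ K) :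
    P.subgroupOf K ⊓ Subgroup.centralizer ((Q.subgroupOf K : Subgroup K) : Set K) =
      (P ⊓ Subgroup.centralizer (Q : Set G)).subgroupOf K := by
  ext x
  simp only [Subgroup.mem_inf, Subgroup.mem_subgroupOf, Subgroup.mem_centralizer_iff,
    SetLike.mem_coe]
  constructor
  · rintro ⟨hxP, hx⟩
    refine ⟨hxP, ?_⟩
    intro q hq
    have := hx ⟨q, hQK hq⟩ hq
    have h2 := congrArg (fun z : K => (z : G)) this
    simpa using h2
  · rintro ⟨hxP, hx⟩
    refine ⟨hxP, ?_⟩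
    intro q hq
    apply Subtype.ext
    simpa using hx (q : G) hq

theorem b2_of_npc {G : Type u} [Group G] [Finite G] (p : ℕ) (hp : p.Prime)
    (hnpc : ∀ {L : Type u} [Group L] [Finite L] (Q P : Subgroup L) [Q.Normal],
      (Nat.card Q).Coprime p → IsPGroup p P → Q ⊔ P = ⊤ →
      ∀ (χ : L → ℂ), IsCharacter L χ → (∀ g : L, χ g = χ 1 → g = 1) → ∀ n : ℕ,
      charDegree χ = n →
      ((P ⊓ Subgroup.centralizer (Q : Set L)).relIndex P).factorization p ≤ lam p n)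
    (Q P : Subgroup G)
    (hQ : (Nat.card Q).Coprime p) (hP : IsPGroup p P)
    (hPQ : P ≤ Subgroup.normalizer (Q : Set G))
    (χ : G → ℂ) (hχ : IsCharacter G χ) (hfaith : ∀ g : G, χ g = χ 1 → g = 1) (n : ℕ)
    (hn : charDegree χ = n) :
    ((P ⊓ Subgroup.centralizer (Q : Set G)).relIndex P).factorization p ≤ lam p n := by
  have hQK : Q ≤ Q ⊔ P := le_sup_left
  have hPK : P ≤ Q ⊔ P := le_sup_right
  have hKN : Q ⊔ P ≤ Subgroup.normalizer (Q : Set G) := sup_le Subgroup.le_normalizer hPQ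
  haveI : (Q.subgroupOf (Q ⊔ P)).Normal :=
    (Subgroup.normal_subgroupOf_iff_le_normalizer hQK).mpr hKN
  have hcard : Nat.card (Q.subgroupOf (Q ⊔ P)) = Nat.card Q :=
    Nat.card_congr (Subgroup.subgroupOfEquivOfLe hQK).toEquiv
  have hsup : Q.subgroupOf (Q ⊔ P) ⊔ P.subgroupOf (Q ⊔ P) = ⊤ := by
    rw [← Subgroup.subgroupOf_sup hQK hPK, Subgroup.subgroupOf_self]
  have hχ' : IsCharacter (↥(Q ⊔ P)) (fun x : ↥(Q ⊔ P) => χ x) :=
    Cfsg.Agent.Lib.Helper79.isCharacter_restrict hχ (Q ⊔ P)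
  have hfaith' : ∀ g : ↥(Q ⊔ P), (fun x : ↥(Q ⊔ P) => χ x) g = (fun x : ↥(Q ⊔ P) => χ x) 1 →
      g = 1 := by
    intro g hg
    apply Subtype.ext
    exact hfaith g hg
  have hn' : charDegree (fun x : ↥(Q ⊔ P) => χ x) = n := hn
  have key := hnpc (Q.subgroupOf (Q ⊔ P)) (P.subgroupOf (Q ⊔ P)) (by rw [hcard]; exact hQ)
    hP.comap_subtype hsup _ hχ' hfaith' n hn'
  rw [b2_centralizer_subgroupOf Q P (Q ⊔ P) hQK, Subgroup.relIndex_subgroupOf hPK] at key
  exact key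

end Cfsg.Agent.Lib.Helper16.PSL
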