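import Mathlib
import Cfsg.Agent.Lib.Helper20.SuTorusDefs
import Cfsg.Agent.Lib.Helper91.SuI

/-! # S5172 (helper20's SU hive), leaf SU-H1: Eichler elements have `p`-power order -/

set_option autoImplicit false

namespace Cfsg.Agent.Lib.Helper20.SuF

open Matrix Subgroup Cfsg.Agent.Lib.Helper20.PslF

variable {n : ℕ} {K : Type*} [Field K] [Fintype K] (F : Inv K)

theorem h1_pow_smul {u w : Fin n → K} (c : K) (h1 : hf F u u = 0) (h2 : hf F w u = 0) (k : ℕ) :
    ∃ c' : K, SgT F u w c ^ k = SgT F u ((k : K) • w) c' := by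
  induction k with
  | zero =>
    refine ⟨0, ?_⟩
    rw [pow_zero, Nat.cast_zero, zero_smul, SgT_zero]
  | succ k ih =>
    obtain ⟨c', hc'⟩ := ih
    have h3 : hf F ((k : K) • w) u = 0 := by rw [hf_smul_left, h2, mul_zero]
    refine ⟨c' + c - hf F w ((k : K) • w), ?_⟩
    rw [pow_succ, hc', SgT_mul F c' c h1 h3 h2]
    congr 1
    rw [Nat.cast_succ, add_smul, one_smul]

theorem h1_pow_zero {u : Fin n → K} (γ : K) (h1 : hf F u u = 0) (k : ℕ) :
    SgT F u (0 : Fin n → K) γ ^ k = SgT F u 0 ((k : K) * γ) := by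
  have h0 : hf F (0 : Fin n → K) u = 0 := hf_zero_left F u
  induction k with
  | zero => rw [pow_zero, Nat.cast_zero, zero_mul, SgT_zero]
  | succ k ih =>
    rw [pow_succ, ih, SgT_mul F _ _ h1 h0 h0, add_zero, hf_zero_left, sub_zero]
    congr 1
    rw [Nat.cast_succ]; ring

/-- SU-H1: Eichler elements have `p`-power order. -/
theorem SgT_orderOf (p : ℕ) [Fact p.Prime] [CharP K p] (u w : Fin n → K) (c : K) :
    ∃ m : ℕ, orderOf (SgT F u w c) = p ^ m := by
  have hp : p.Prime := Fact.out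
  by_cases h : hf F u u = 0 ∧ hf F w u = 0
  · obtain ⟨h1, h2⟩ := h
    obtain ⟨c', hc'⟩ := h1_pow_smul F c h1 h2 p
    have hpow : SgT F u w c ^ (p ^ 2) = 1 := by
      rw [pow_two, pow_mul, hc', CharP.cast_eq_zero, zero_smul, h1_pow_zero F c' h1,
        CharP.cast_eq_zero, zero_mul, SgT_zero]
    obtain ⟨m, -, hm⟩ := (Nat.dvd_prime_pow hp).1 (orderOf_dvd_of_pow_eq_one hpow)
    exact ⟨m, hm⟩
  · refine ⟨0, ?_⟩
    have : SgT F u w c = 1 := by
      unfold SgT
      rw [dif_neg h]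
    rw [this, orderOf_one, pow_zero]

end Cfsg.Agent.Lib.Helper20.SuF
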