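import Mathlib
import Cfsg.Agent.Lib.Helper20.SuTorusDefs
import Cfsg.Agent.Lib.Helper91.SuI
import Cfsg.Agent.Lib.Helper14.SuE
import Cfsg.Agent.Lib.Helper60.SuH1

/-! # S5172 (helper20's SU hive), leaf SU-H4: the `SU_3` torus lies in `GenP 1` -/

set_option autoImplicit false

namespace Cfsg.Agent.Lib.Helper20.SuF

open Matrix Subgroup Cfsg.Agent.Lib.Helper20.PslF

variable {n : ℕ} {K : Type*} [Field K] [Fintype K] (F : Inv K)

theorem h4_b3_mid {x : Fin n} (h1 : 0 < (x : ℕ)) (h2 : (x : ℕ) + 1 < n) : b3 1 x = 1 := by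
  unfold b3
  split_ifs <;> omega

/-- SU-H4: the `SU_3` torus (last node for `n` odd), from `su3_torus` (Helper91) and SU-H1. -/
theorem su3_mem (p : ℕ) [Fact p.Prime] [CharP K p] {a mu : Fin n} (hmu : Fin.rev mu = mu)
    (ha : a ≠ mu) (ha1 : 0 < (a : ℕ)) (ha2 : (a : ℕ) + 1 < n)
    (hr1 : 0 < ((Fin.rev a : Fin n) : ℕ)) (hr2 : ((Fin.rev a : Fin n) : ℕ) + 1 < n) (t : K)
    (ht : t ≠ 0) (d : SLn n K)
    (hd : mt d = Matrix.diagonal (fun x => if x = a then t else if x = mu then F.sg t / t else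
      if x = Fin.rev a then (F.sg t)⁻¹ else 1)) : d ∈ GenP F p 1 := by
  have hcl := su3_torus F hmu ha t ht d hd
  have hmu1 : b3 1 mu = 1 := by
    have h1 : (n : ℕ) - ((mu : ℕ) + 1) = (mu : ℕ) := by
      have := congrArg Fin.val hmu
      rwa [Fin.val_rev] at this
    have h3 := mu.isLt
    apply h4_b3_mid <;> omega
  have hba : b3 1 a = 1 := h4_b3_mid ha1 ha2
  have hbr : b3 1 (Fin.rev a) = 1 := h4_b3_mid hr1 hr2
  refine (closure_le _).2 ?_ hcl
  rintro g ⟨e, b, c, h1, h2, he, hc, rfl⟩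
  have hbe : b3 1 e = 1 := by
    rcases he with rfl | rfl
    · exact hba
    · exact hbr
  have hbre : b3 1 (Fin.rev e) = 1 := by
    rcases he with rfl | rfl
    · exact hbr
    · rw [Fin.rev_rev]; exact hba
  apply mem_GenP_of
  · apply e_Sg_mem_PJ
    · rw [hmu1, hbre]
    · rw [hbe, hmu, hmu1]
    · right
      rw [hbe, hbre]
  · apply Sg_mem_SUJ F h1 h2
    rw [hf_smul_left, hf_smul_right, hf_eb_eb, if_pos hmu.symm, mul_one]
    exact hc
  · rw [← SgT_eq F c h1 h2]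
    exact SgT_orderOf F p _ _ _

end Cfsg.Agent.Lib.Helper20.SuF
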