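import Mathlib
import Cfsg.Agent.Lib.Helper91.BG152Defs
import Cfsg.Agent.Lib.Helper22.Fitting

/-! # BG 15.2 (helper91 hive), leaf B7: the core, from B6 and B3 as hypotheses -/

set_option autoImplicit false
set_option linter.style.haveILetI false
set_option linter.unusedSectionVars false

namespace Cfsg.Agent.Lib.Helper91.BG152

open Subgroup

universe u
variable {M : Type u} [Group M] [Finite M] {H K Q : Subgroup M} {q : ℕ}

/-- a subgroup of a nilpotent subgroup is nilpotent -/
theorem B7_nilpotent_of_le {A B : Subgroup M} (hAB : A ≤ B) (hB : Group.IsNilpotent ↥B) :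
    Group.IsNilpotent ↥A := by
  haveI := hB
  refine Subgroup.isNilpotent_of_ker_le_center (Subgroup.inclusion hAB) ?_
  rw [(MonoidHom.ker_eq_bot_iff _).2 (Subgroup.inclusion_injective hAB)]
  exact bot_le

/-- the core of B7, from B6 and B3 as hypotheses -/
theorem B7_core [H.Normal] [Q.Normal] (hq : q.Prime) (pQ : IsPGroup q Q)
    (hC : centralizer (Q : Set M) ≤ H)
    (hnil : Group.IsNilpotent ↥(H.map (QuotientGroup.mk' Q))) :
    Group.IsNilpotent ↥(Q ⊔ centralizer (Q : Set M)) := by
  haveI : Fact q.Prime := ⟨hq⟩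
  set C := centralizer (Q : Set M) with hCdef
  haveI hCn : C.Normal := Subgroup.normal_centralizer
  -- `C` is nilpotent
  have hCnil : Group.IsNilpotent ↥C := by
    let f0 : ↥C →* M ⧸ Q := (QuotientGroup.mk' Q).comp C.subtype
    have hf0 : ∀ c : ↥C, f0 c ∈ H.map (QuotientGroup.mk' Q) :=
      fun c => Subgroup.mem_map_of_mem _ (hC c.2)
    let f : ↥C →* ↥(H.map (QuotientGroup.mk' Q)) := f0.codRestrict _ hf0
    haveI := hnil
    refine Subgroup.isNilpotent_of_ker_le_center f ?_
    intro c hc
    rw [MonoidHom.mem_ker] at hc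
    have hcQ : (c : M) ∈ Q := by
      have h1 : f0 c = 1 := by
        have := congrArg Subtype.val hc
        simpa [f] using this
      have h2 : ((c : M) : M ⧸ Q) = 1 := h1
      exact (QuotientGroup.eq_one_iff _).mp h2
    rw [Subgroup.mem_center_iff]
    intro d
    apply Subtype.ext
    rw [Subgroup.coe_mul, Subgroup.coe_mul]
    exact (Subgroup.mem_centralizer_iff.mp d.2 (c : M) hcQ).symm
  have hQnil : Group.IsNilpotent ↥Q := pQ.isNilpotent
  have h1 : Q ≤ Cfsg.fittingSubgroup M :=
    Cfsg.Agent.Lib.Helper22.le_fittingSubgroup inferInstance hQnil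
  have h2 : C ≤ Cfsg.fittingSubgroup M :=
    Cfsg.Agent.Lib.Helper22.le_fittingSubgroup hCn hCnil
  exact B7_nilpotent_of_le (sup_le h1 h2) Cfsg.Agent.Lib.Helper22.fittingSubgroup_isNilpotent

end Cfsg.Agent.Lib.Helper91.BG152
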