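import Cfsg.Agent.Lib.Helper60.U3ConjDefs
import Cfsg.Agent.Lib.Helper53.U3CjGRAM
import Cfsg.Agent.Lib.Helper53.U3CjADJ
import Cfsg.Agent.Lib.Helper49.U3CjGEN
import Cfsg.Agent.Lib.Helper90.U3CjINV1
import Cfsg.Agent.Lib.Helper90.U3CjINV2b
import Cfsg.Agent.Lib.Helper90.U3CjNE
import Cfsg.Agent.Lib.Helper61.U3CjINV2
import Cfsg.Agent.Lib.Helper61.U3CjMEM

/-!
# U3 hive (S2283, owner helper23), leaf U3-CONJ: `u1` and `u2` are conjugate in `SU_3(q)`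

Assembly of the U3-CONJ sub-hive (sub-architect helper60; sub-leaves by helper43, helper49, helper53, helper54, helper61,
helper84, helper90).  Paper proof: `tools/helper60/U3ConjSkel.lean.txt`.
-/

set_option autoImplicit false

namespace Cfsg.Agent.Lib.Helper23.U3

open Matrix Cfsg.Agent.Lib.Helper99 Cfsg.Agent.Lib.Helper13 Cfsg.Agent.Lib.Helper90.Psu

variable {F : Type*} [Field F] [Fintype F] {q : ℕ}

local notation "hh" => Cfsg.hermForm 3 F q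

theorem conj_of_invariants (hF : Fintype.card F = q ^ 2) (u u' : GL (Fin 3) F)
    (hu : u ∈ Cfsg.GU 3 F q) (hu' : u' ∈ Cfsg.GU 3 F q) (x x' : Fin 3 → F)
    (h3 : nilp u *ᵥ (nilp u *ᵥ (nilp u *ᵥ x)) = 0)
    (h3' : nilp u' *ᵥ (nilp u' *ᵥ (nilp u' *ᵥ x')) = 0)
    (hρ0 : hh (tri u x 1) (tri u x 1) ≠ 0)
    (hρ : hh (tri u' x' 1) (tri u' x' 1) = hh (tri u x 1) (tri u x 1))
    (hdet0 : (tri u x).det ≠ 0) (hdet : (tri u' x').det = (tri u x).det) :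
    ∃ g : GL (Fin 3) F, g ∈ suGL (F := F) 3 q ∧ g * u * g⁻¹ = u' := by
  have hq0 : q ≠ 0 := by have := Helper99.q_ge_two hF; omega
  have hρq : (hh (tri u x 1) (tri u x 1)) ^ q = hh (tri u x 1) (tri u x 1) :=
    Helper13.hermForm_conj hF 3 _ _
  obtain ⟨θ, hθ⟩ := Helper99.exists_trace_eq' hF (1 : F) (one_pow q)
  have h01 : -(hh (tri u x 1) (tri u x 1) * θ) + (-(hh (tri u x 1) (tri u x 1) * θ)) ^ q =
      - hh (tri u x 1) (tri u x 1) := by
    rw [Helper99.frob_neg hF, mul_pow, hρq]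
    linear_combination (-(hh (tri u x 1) (tri u x 1))) * hθ
  obtain ⟨y, hy3, hyρ, hy01, hy00, hydet⟩ :=
    exists_adjust hF u hu x h3 hρ0 (-(hh (tri u x 1) (tri u x 1) * θ)) 0 h01 (zero_pow hq0)
  obtain ⟨y', hy3', hyρ', hy01', hy00', hydet'⟩ :=
    exists_adjust hF u' hu' x' h3' (by rw [hρ]; exact hρ0) (-(hh (tri u x 1) (tri u x 1) * θ)) 0
      (by rw [hρ]; exact h01) (zero_pow hq0)
  refine conj_of_gram hF u u' y y' hy3 hy3' (by rw [hydet]; exact hdet0)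
    (by rw [hydet, hydet', hdet]) ?_
  obtain ⟨a22, a12, a21, a02, a20, a0110⟩ := gram_rel hF u hu y hy3
  obtain ⟨b22, b12, b21, b02, b20, b0110⟩ := gram_rel hF u' hu' y' hy3'
  have h11 : hh (tri u' y' 1) (tri u' y' 1) = hh (tri u y 1) (tri u y 1) := by
    rw [hyρ', hyρ, hρ]
  have a10 : hh (tri u y 1) (tri u y 0) = - hh (tri u y 1) (tri u y 1) - hh (tri u y 0) (tri u y 1) := by
    linear_combination a0110
  have b10 : hh (tri u' y' 1) (tri u' y' 0) =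
      - hh (tri u' y' 1) (tri u' y' 1) - hh (tri u' y' 0) (tri u' y' 1) := by
    linear_combination b0110
  intro i j
  fin_cases i <;> fin_cases j
  · show hh (tri u' y' 0) (tri u' y' 0) = hh (tri u y 0) (tri u y 0)
    rw [hy00', hy00]
  · show hh (tri u' y' 0) (tri u' y' 1) = hh (tri u y 0) (tri u y 1)
    rw [hy01', hy01]
  · show hh (tri u' y' 0) (tri u' y' 2) = hh (tri u y 0) (tri u y 2)
    rw [b02, a02, h11]
  · show hh (tri u' y' 1) (tri u' y' 0) = hh (tri u y 1) (tri u y 0)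
    rw [b10, a10, h11, hy01', hy01]
  · show hh (tri u' y' 1) (tri u' y' 1) = hh (tri u y 1) (tri u y 1)
    exact h11
  · show hh (tri u' y' 1) (tri u' y' 2) = hh (tri u y 1) (tri u y 2)
    rw [b12, a12]
  · show hh (tri u' y' 2) (tri u' y' 0) = hh (tri u y 2) (tri u y 0)
    rw [b20, a20, h11]
  · show hh (tri u' y' 2) (tri u' y' 1) = hh (tri u y 2) (tri u y 1)
    rw [b21, a21]
  · show hh (tri u' y' 2) (tri u' y' 2) = hh (tri u y 2) (tri u y 2)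
    rw [b22, a22]

theorem conj_u1_u2 (hF : Fintype.card F = q ^ 2) (C : Cfg q F) :
    ∃ g : GL (Fin 3) F, g ∈ suGL (F := F) 3 q ∧ g * C.u1 * g⁻¹ = C.u2 := by
  obtain ⟨hs, ha, hΔ⟩ := conj_ne hF C
  obtain ⟨hu1, hu2⟩ := u1_u2_mem_GU hF C
  obtain ⟨h3, hρ1, hd1⟩ := inv_u1 hF C
  obtain ⟨-, -, h3'⟩ := inv_u2_nil hF C
  have hρ2 := inv_u2_rho hF C
  have hd2 := inv_u2_det hF C
  refine conj_of_invariants hF C.u1 C.u2 hu1 hu2 (C.t • C.f) C.e h3 h3' ?_ ?_ ?_ ?_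
  · rw [hρ1]; exact mul_ne_zero C.hc0 hs
  · rw [hρ1, hρ2]
  · rw [hd1]
    exact mul_ne_zero (neg_ne_zero.mpr (mul_ne_zero ha (pow_ne_zero 2 C.hc0))) hΔ
  · rw [hd1, hd2]

end Cfsg.Agent.Lib.Helper23.U3
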