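import Mathlib
import Cfsg.Prelude.Def_GeometricClasses
import Cfsg.Agent.Lib.Helper44.TnsDefs

set_option autoImplicit false
open scoped MatrixGroups Kronecker
open Matrix Polynomial

namespace Cfsg.Agent.Lib.Helper44.Tns

universe v

variable {F : Type v} [Field F]

/-! # S5979 (helper44 TNS hive): leaf TNS-K1 -/

theorem k1_finrank_range_compLeft {V W : Type*} [AddCommGroup V] [Module F V] [AddCommGroup W]
    [Module F W] [FiniteDimensional F W] (f : V →ₗ[F] W) (I : Type*) [Fintype I] :
    Module.finrank F (LinearMap.range (f.compLeft I)) =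
      Fintype.card I * Module.finrank F (LinearMap.range f) := by
  set R := LinearMap.range f with hR
  have h1 : LinearMap.range (f.compLeft I) = LinearMap.range (R.subtype.compLeft I) := by
    rw [LinearMap.range_compLeft, LinearMap.range_compLeft, Submodule.range_subtype]
  have hinj : Function.Injective (R.subtype.compLeft I) := by
    intro x y hxy
    funext i
    apply Subtype.ext
    exact congrFun hxy i
  rw [h1, LinearMap.finrank_range_of_inj hinj, Module.finrank_pi_fintype, Finset.sum_const,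
    Finset.card_univ, smul_eq_mul]

theorem k1_mulVecLin_eq (a : ℕ) {b : ℕ} (M : Matrix (Fin b) (Fin b) F) :
    ((1 : Matrix (Fin a) (Fin a) F) ⊗ₖ M).mulVecLin =
      ((LinearEquiv.curry F F (Fin a) (Fin b)).symm : (Fin a → Fin b → F) →ₗ[F] (Fin a × Fin b → F)) ∘ₗ
        (M.mulVecLin.compLeft (Fin a)) ∘ₗ
        ((LinearEquiv.curry F F (Fin a) (Fin b)) : (Fin a × Fin b → F) →ₗ[F] (Fin a → Fin b → F)) := by
  apply LinearMap.ext
  intro w
  funext ij
  obtain ⟨i, j⟩ := ij
  show (((1 : Matrix (Fin a) (Fin a) F) ⊗ₖ M) *ᵥ w) (i, j) = (M *ᵥ (Function.curry w i)) j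
  simp only [Matrix.mulVec, dotProduct, Matrix.kroneckerMap_apply, Matrix.one_apply]
  rw [Fintype.sum_prod_type, Finset.sum_eq_single i]
  · simp [Function.curry]
  · intro i' _ hne
    simp [Ne.symm hne]
  · intro h; exact absurd (Finset.mem_univ i) h

/-- TNS-K1 -/
theorem rank_one_kronecker (a : ℕ) {b : ℕ} (M : Matrix (Fin b) (Fin b) F) :
    ((1 : Matrix (Fin a) (Fin a) F) ⊗ₖ M).rank = a * M.rank := by
  unfold Matrix.rank
  rw [k1_mulVecLin_eq, LinearMap.range_comp, LinearEquiv.range_comp]
  rw [LinearEquiv.finrank_map_eq, k1_finrank_range_compLeft, Fintype.card_fin]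

end Cfsg.Agent.Lib.Helper44.Tns
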