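import Mathlib

set_option autoImplicit false

/-!
# S0347-PET: the petal bound (Cauchy–Schwarz off the petals), for helper3's S0347 plan
-/

namespace Cfsg.Agent.Lib.Helper3.Sz

/-- arithmetic core of the petal bound -/
theorem petal_arith {m f x s D : ℕ} (hm : 1 ≤ m) (hf : f ≤ m + 2)
    (hD : D + (m + 3) * x ^ 2 = 1 + m * f ^ 2) (hs : s ^ 2 ≤ D * m) (hsx : s + x = m * f) :
    x = 0 ∨ (x = 1 ∧ (m + 1) ^ 2 ≤ 2 * m * f) := by
  have hmZ : (1 : ℤ) ≤ m := by exact_mod_cast hm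
  have hfZ : (f : ℤ) ≤ m + 2 := by exact_mod_cast hf
  have hDZ : (D : ℤ) + (m + 3) * x ^ 2 = 1 + m * f ^ 2 := by exact_mod_cast hD
  have hsZ : (s : ℤ) ^ 2 ≤ D * m := by exact_mod_cast hs
  have hsxZ : (s : ℤ) + x = m * f := by exact_mod_cast hsx
  have hx0 : (0 : ℤ) ≤ x := by positivity
  have hf0 : (0 : ℤ) ≤ f := by positivity
  -- key inequality
  have key : (x : ℤ) ^ 2 * (m ^ 2 + 3 * m + 1) ≤ m + 2 * m * f * x := by
    have e1 : (s : ℤ) = m * f - x := by linarith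
    have e2 : (D : ℤ) = 1 + m * f ^ 2 - (m + 3) * x ^ 2 := by linarith
    rw [e1, e2] at hsZ
    nlinarith [hsZ]
  rcases Nat.lt_or_ge x 2 with hx | hx
  · interval_cases x
    · left; rfl
    · right
      refine ⟨rfl, ?_⟩
      have : ((m : ℤ) + 1) ^ 2 ≤ 2 * m * f := by
        simp only [Nat.cast_one, one_pow, one_mul, mul_one] at key
        nlinarith [key]
      exact_mod_cast this
  · exfalso
    have hx2 : (2 : ℤ) ≤ x := by exact_mod_cast hx
    have h1 : (x : ℤ) ^ 2 * (m ^ 2 + 3 * m + 1) ≥ 2 * x * (m ^ 2 + 3 * m + 1) := by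
      have : (x : ℤ) ^ 2 ≥ 2 * x := by nlinarith
      have hpos : (0 : ℤ) ≤ m ^ 2 + 3 * m + 1 := by positivity
      nlinarith
    have h2 : (m : ℤ) + 2 * m * f * x ≤ m + 2 * m * (m + 2) * x := by
      have : (m : ℤ) * f * x ≤ m * (m + 2) * x := by
        apply mul_le_mul_of_nonneg_right _ hx0
        apply mul_le_mul_of_nonneg_left hfZ (by positivity)
      nlinarith
    nlinarith

/-- S0347-PET (petal bound; Cauchy–Schwarz). -/
theorem petal_bound {ι J : Type*} [Fintype ι] [Fintype J] [DecidableEq J] {m f : ℕ}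
    (hm : 1 ≤ m) (hcard : Fintype.card ι = m + 3) (hf : f ≤ m + 2)
    (X : ι → J) (Δ : J → ℕ) (hX : Function.Injective X) (hΔX : ∀ i, Δ (X i) = 0)
    (hΔ : ∑ j, Δ j ^ 2 = m) (d : J → ℕ)
    (hd : ∑ j, d j ^ 2 = 1 + m * f ^ 2)
    (hdc : ∀ i, ∑ j, d j * (Δ j + if j = X i then 1 else 0) = m * f) :
    (∀ i, d (X i) = 0) ∨ ((∀ i, d (X i) = 1) ∧ (m + 1) ^ 2 ≤ 2 * m * f) := by
  classical
  set s : ℕ := ∑ j, d j * Δ j with hs
  -- each equation reads `s + d (X i) = m f`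
  have h1 : ∀ i, s + d (X i) = m * f := by
    intro i
    rw [← hdc i]
    have : ∀ j, d j * (Δ j + if j = X i then 1 else 0) =
        d j * Δ j + (if j = X i then d j else 0) := by
      intro j
      split_ifs <;> ring
    simp_rw [this]
    rw [Finset.sum_add_distrib, Finset.sum_ite_eq' Finset.univ (X i) d]
    simp [hs]
  haveI : Nonempty ι := by
    rw [← Fintype.card_pos_iff, hcard]; omega
  obtain ⟨i0⟩ := ‹Nonempty ι›
  set x : ℕ := d (X i0) with hx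
  have hconst : ∀ i, d (X i) = x := by
    intro i
    have a := h1 i
    have b := h1 i0
    omega
  -- the petals
  set T : Finset J := Finset.univ.image X with hT
  have hTcard : T.card = m + 3 := by
    rw [hT, Finset.card_image_of_injective _ hX, Finset.card_univ, hcard]
  have hTd : ∑ j ∈ T, d j ^ 2 = (m + 3) * x ^ 2 := by
    have : ∀ j ∈ T, d j ^ 2 = x ^ 2 := by
      intro j hj
      rw [hT, Finset.mem_image] at hj
      obtain ⟨i, -, rfl⟩ := hj
      rw [hconst i]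
    rw [Finset.sum_congr rfl this, Finset.sum_const, hTcard, smul_eq_mul]
  have hTΔ : ∀ j ∈ T, Δ j = 0 := by
    intro j hj
    rw [hT, Finset.mem_image] at hj
    obtain ⟨i, -, rfl⟩ := hj
    exact hΔX i
  have hsplit_d : ∑ j ∈ Tᶜ, d j ^ 2 + (m + 3) * x ^ 2 = 1 + m * f ^ 2 := by
    rw [← hd, ← hTd, add_comm]
    exact Finset.sum_add_sum_compl T (fun j => d j ^ 2)
  have hs' : s = ∑ j ∈ Tᶜ, d j * Δ j := by
    rw [hs, ← Finset.sum_add_sum_compl T (fun j => d j * Δ j)]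
    have : ∑ j ∈ T, d j * Δ j = 0 := by
      apply Finset.sum_eq_zero
      intro j hj
      rw [hTΔ j hj, mul_zero]
    rw [this, zero_add]
  have hΔle : ∑ j ∈ Tᶜ, Δ j ^ 2 ≤ m := by
    rw [← hΔ]
    exact Finset.sum_le_sum_of_subset (Finset.subset_univ _)
  have hCS : s ^ 2 ≤ (∑ j ∈ Tᶜ, d j ^ 2) * m := by
    rw [hs']
    calc (∑ j ∈ Tᶜ, d j * Δ j) ^ 2 ≤ (∑ j ∈ Tᶜ, d j ^ 2) * ∑ j ∈ Tᶜ, Δ j ^ 2 :=
          Finset.sum_mul_sq_le_sq_mul_sq _ _ _
      _ ≤ (∑ j ∈ Tᶜ, d j ^ 2) * m := Nat.mul_le_mul_left _ hΔle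
  rcases petal_arith hm hf hsplit_d hCS (h1 i0) with h0 | ⟨h1', h2⟩
  · left
    intro i
    rw [hconst i, h0]
  · right
    refine ⟨fun i => by rw [hconst i, h1'], h2⟩

end Cfsg.Agent.Lib.Helper3.Sz
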