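import Mathlib
import Cfsg.Agent.Lib.Helper60.SzPET

/-! # S0347-PET, generalised: at least `m + 3` petals (helper3's request #3171) -/

set_option autoImplicit false

namespace Cfsg.Agent.Lib.Helper3.Sz

/-- S0347-PET with `m + 3 ≤ Fintype.card ι` instead of equality. -/
theorem petal_bound_ge {ι J : Type*} [Fintype ι] [Fintype J] [DecidableEq J] {m f : ℕ}
    (hm : 1 ≤ m) (hcard : m + 3 ≤ Fintype.card ι) (hf : f ≤ m + 2)
    (X : ι → J) (Δ : J → ℕ) (hX : Function.Injective X) (hΔX : ∀ i, Δ (X i) = 0)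
    (hΔ : ∑ j, Δ j ^ 2 = m) (d : J → ℕ)
    (hd : ∑ j, d j ^ 2 = 1 + m * f ^ 2)
    (hdc : ∀ i, ∑ j, d j * (Δ j + if j = X i then 1 else 0) = m * f) :
    (∀ i, d (X i) = 0) ∨ ((∀ i, d (X i) = 1) ∧ (m + 1) ^ 2 ≤ 2 * m * f) := by
  classical
  -- all `d (X i)` are equal
  have h1 : ∀ i, (∑ j, d j * Δ j) + d (X i) = m * f := by
    intro i
    rw [← hdc i]
    have : ∀ j, d j * (Δ j + if j = X i then 1 else 0) =
        d j * Δ j + (if j = X i then d j else 0) := by
      intro j
      split_ifs <;> ring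
    simp_rw [this]
    rw [Finset.sum_add_distrib, Finset.sum_ite_eq' Finset.univ (X i) d]
    simp
  have heq : ∀ i i', d (X i) = d (X i') := by
    intro i i'
    have := h1 i
    have := h1 i'
    omega
  obtain ⟨S, -, hS⟩ := Finset.exists_subset_card_eq (s := (Finset.univ : Finset ι))
    (n := m + 3) (by rw [Finset.card_univ]; exact hcard)
  have hcard' : Fintype.card {i // i ∈ S} = m + 3 := by
    rw [Fintype.card_coe, hS]
  have hSne : S.Nonempty := by
    rw [← Finset.card_pos, hS]; omega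
  obtain ⟨i0, hi0⟩ := hSne
  have key := petal_bound (ι := {i // i ∈ S}) hm hcard' hf (fun i => X i.1) Δ
    (fun a b h => Subtype.ext (hX h)) (fun i => hΔX i.1) hΔ d hd (fun i => hdc i.1)
  rcases key with h | ⟨h, h2⟩
  · left
    intro i
    rw [heq i i0]
    exact h ⟨i0, hi0⟩
  · right
    refine ⟨fun i => ?_, h2⟩
    rw [heq i i0]
    exact h ⟨i0, hi0⟩

end Cfsg.Agent.Lib.Helper3.Sz
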