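import Cfsg.Agent.Lib.Helper6.Ls.Defs
import Cfsg.Agent.Lib.Helper13.UnitaryConfig
import Cfsg.Agent.Lib.Helper13.UnitaryLift
import Cfsg.Agent.Lib.Helper99.UnitaryND1
import Cfsg.Prelude.Def_Classical

set_option autoImplicit false

/-!
# `Ls` hive leaf F-DUAL: every binary hermitian form over `F_{q²}` is isotropic (character form)
-/

namespace Cfsg.Agent.Lib.Helper6.Ls

open Module Cfsg.Agent.Lib.Helper99

section concrete

variable {F : Type*} [Field F] [Fintype F] {q : ℕ}

/-- the trace-zero additive subgroup `{c | c + c^q = 0}` -/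
def fdual_Z0 (hF : Fintype.card F = q ^ 2) : AddSubgroup F where
  carrier := {c | c + c ^ q = 0}
  zero_mem' := by
    have hq := q_ge_two hF
    show (0 : F) + 0 ^ q = 0
    rw [zero_pow (by omega), add_zero]
  add_mem' := by
    intro a b ha hb
    show (a + b) + (a + b) ^ q = 0
    rw [frob_add hF]
    have ha' : a + a ^ q = 0 := ha
    have hb' : b + b ^ q = 0 := hb
    linear_combination ha' + hb'
  neg_mem' := by
    intro a ha
    show (-a) + (-a) ^ q = 0
    rw [frob_neg hF]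
    have ha' : a + a ^ q = 0 := ha
    linear_combination -ha'

theorem fdual_mem_Z0 (hF : Fintype.card F = q ^ 2) (c : F) :
    c ∈ fdual_Z0 hF ↔ c + c ^ q = 0 := Iff.rfl

/-- an injective map from a finite abelian group to its dual is surjective -/
theorem fdual_surj {A : Type*} [AddCommGroup A] [Finite A] (Φ : A → AddChar A ℂ)
    (hΦ : Function.Injective Φ) : Function.Surjective Φ := by
  classical
  haveI := Fintype.ofFinite A
  have hcard : Fintype.card (AddChar A ℂ) = Fintype.card A := AddChar.card_eq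
  exact ((Fintype.bijective_iff_injective_and_card Φ).mpr ⟨hΦ, hcard.symm⟩).2

theorem fdual_mul_mem (hF : Fintype.card F = q ^ 2) (c y : F) (hc : c + c ^ q = 0) (hy : y ^ q = y) :
    c * y + (c * y) ^ q = 0 := by
  rw [mul_pow, hy]
  linear_combination y * hc

theorem fdual_tr_fix (hF : Fintype.card F = q ^ 2) (t : F) : (t + t ^ q) ^ q = t + t ^ q := by
  rw [frob_add hF, Helper13.pow_q_pow_q hF]
  ring

theorem fdual_eq_one_of_eq {A : Type*} [AddCommGroup A] (χ : AddChar A ℂ) (a b : A)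
    (h : χ a = χ b) : χ (a - b) = 1 := by
  calc χ (a - b) = χ (a + -b) := by rw [sub_eq_add_neg]
    _ = χ a * χ (-b) := AddChar.map_add_eq_mul _ _ _
    _ = χ b * χ (-b) := by rw [h]
    _ = χ (b + -b) := (AddChar.map_add_eq_mul _ _ _).symm
    _ = 1 := by rw [add_neg_cancel, AddChar.map_zero_eq_one]

/-- F-DUAL: every binary hermitian form over `F_{q²}` is isotropic, in character form (pure finite-field leaf). -/
theorem exists_isotropic_char (hF : Fintype.card F = q ^ 2) (μ1 μ2 ν : F → ℂ)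
    (h10 : μ1 0 = 1) (h1 : ∀ c c', c + c ^ q = 0 → c' + c' ^ q = 0 → μ1 (c + c') = μ1 c * μ1 c')
    (h20 : μ2 0 = 1) (h2 : ∀ c c', c + c ^ q = 0 → c' + c' ^ q = 0 → μ2 (c + c') = μ2 c * μ2 c')
    (hν0 : ν 0 = 1) (hν : ∀ t t', ν (t + t') = ν t * ν t') :
    ∃ α β : F, (α ≠ 0 ∨ β ≠ 0) ∧ ∀ c : F, c + c ^ q = 0 →
      μ1 (c * α ^ (q + 1)) * ν (c * α ^ q * β) * μ2 (c * β ^ (q + 1)) = 1 := by
  classical
  have hq := q_ge_two hF
  by_cases hA : ∀ c : F, c + c ^ q = 0 → μ1 c = 1
  · refine ⟨1, 0, Or.inl one_ne_zero, fun c hc => ?_⟩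
    rw [one_pow, mul_one, one_pow, mul_one, mul_zero, zero_pow (by omega), mul_zero, hA c hc, hν0,
      h20]
    norm_num
  · push_neg at hA
    obtain ⟨c0, hc0, hμc0⟩ := hA
    obtain ⟨τ, hτ0, hτ⟩ := exists_trace_zero hF
    have hτq : τ ^ q = -τ := by linear_combination hτ
    have hzq : ∀ c : F, c + c ^ q = 0 → c ^ q = -c := fun c hc => by linear_combination hc
    -- the three characters
    let μ1Z : AddChar (fdual_Z0 hF) ℂ :=
      ⟨fun c => μ1 c, h10, fun a b => h1 a b a.2 b.2⟩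
    have hμ1Z : ∀ c : fdual_Z0 hF, μ1Z c = μ1 c := fun _ => rfl
    let νA : AddChar F ℂ := ⟨ν, hν0, hν⟩
    have hνA : ∀ t : F, νA t = ν t := fun _ => rfl
    let μ2Z : AddChar (fdual_Z0 hF) ℂ :=
      ⟨fun c => μ2 (-(c : F)), by
          show μ2 (-(0 : F)) = 1
          rw [neg_zero, h20], fun a b => by
          show μ2 (-((a : F) + b)) = μ2 (-(a : F)) * μ2 (-(b : F))
          rw [neg_add]
          exact h2 _ _ (neg_mem a.2) (neg_mem b.2)⟩
    have hμ2Z : ∀ c : fdual_Z0 hF, μ2Z c = μ2 (-(c : F)) := fun _ => rfl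
    -- the trace map onto Z0
    let T : F →+ fdual_Z0 hF :=
      { toFun := fun t => ⟨τ * (t + t ^ q), by
          show τ * (t + t ^ q) + (τ * (t + t ^ q)) ^ q = 0
          rw [mul_pow, fdual_tr_fix hF, hτq]; ring⟩
        map_zero' := by
          apply Subtype.ext
          show τ * (0 + 0 ^ q) = 0
          rw [zero_pow (by omega)]; ring
        map_add' := by
          intro a b
          apply Subtype.ext
          show τ * ((a + b) + (a + b) ^ q) = τ * (a + a ^ q) + τ * (b + b ^ q)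
          rw [frob_add hF]; ring }
    have hT : ∀ t : F, ((T t : fdual_Z0 hF) : F) = τ * (t + t ^ q) := fun _ => rfl
    have hTsurj : ∀ c : F, c + c ^ q = 0 → ∃ w : F, τ * (w + w ^ q) = c := by
      intro c hc
      have hfix : (c * τ⁻¹) ^ q = c * τ⁻¹ := by
        rw [mul_pow, inv_pow, hτq, hzq c hc, inv_neg, neg_mul_neg]
      obtain ⟨w, hw⟩ := exists_trace_eq' hF (c * τ⁻¹) hfix
      exact ⟨w, by rw [hw]; field_simp⟩
    -- (1) ν = ψ.mulShift s
    let ψ : AddChar F ℂ := μ1Z.compAddMonoidHom T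
    have hψ : ∀ t : F, ψ t = μ1 (τ * (t + t ^ q)) := fun _ => rfl
    have hψ1 : ψ ≠ 1 := by
      intro h
      obtain ⟨w, hw⟩ := hTsurj c0 hc0
      apply hμc0
      have := DFunLike.congr_fun h w
      rw [hψ, hw] at this
      simpa using this
    have hprim : ψ.IsPrimitive := AddChar.IsPrimitive.of_ne_one hψ1
    obtain ⟨s, hs⟩ := fdual_surj (fun s => ψ.mulShift s)
      (AddChar.to_mulShift_inj_of_isPrimitive hprim) νA
    have hs' : ∀ t : F, ν t = μ1 (τ * (s * t + (s * t) ^ q)) := by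
      intro t
      have := DFunLike.congr_fun hs t
      rw [hνA] at this
      rw [← this]
      rfl
    -- (2) μ2⁻¹ = μ1 (· * y2) on Z0
    let M : fdual_Z0 hF → (fdual_Z0 hF →+ fdual_Z0 hF) := fun c' =>
      { toFun := fun c => ⟨(c : F) * ((c' : F) * τ), by
          apply fdual_mul_mem hF _ _ c.2
          rw [mul_pow, hτq, hzq _ c'.2]; ring⟩
        map_zero' := by
          apply Subtype.ext
          show (0 : F) * ((c' : F) * τ) = 0
          ring
        map_add' := by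
          intro a b
          apply Subtype.ext
          show ((a : F) + b) * ((c' : F) * τ) = (a : F) * ((c' : F) * τ) + (b : F) * ((c' : F) * τ)
          ring }
    have hM : ∀ (c' c : fdual_Z0 hF), ((M c' c : fdual_Z0 hF) : F) = (c : F) * ((c' : F) * τ) :=
      fun _ _ => rfl
    let Ψ : fdual_Z0 hF → AddChar (fdual_Z0 hF) ℂ := fun c' => μ1Z.compAddMonoidHom (M c')
    have hΨ : ∀ (c' c : fdual_Z0 hF), Ψ c' c = μ1 ((c : F) * ((c' : F) * τ)) := fun _ _ => rfl
    have hΨinj : Function.Injective Ψ := by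
      intro c' c'' h
      by_contra hne
      apply hμc0
      have hd0 : ((c' : F) - c'') * τ ≠ 0 :=
        mul_ne_zero (sub_ne_zero.mpr (fun h => hne (Subtype.ext h))) hτ0
      have hdq : (((c' : F) - c'') * τ) ^ q = ((c' : F) - c'') * τ := by
        rw [mul_pow, frob_sub hF, hτq, hzq _ c'.2, hzq _ c''.2]; ring
      have hdq' : ((((c' : F) - c'') * τ)⁻¹) ^ q = (((c' : F) - c'') * τ)⁻¹ := by
        rw [inv_pow, hdq]
      let e : fdual_Z0 hF := ⟨c0 * (((c' : F) - c'') * τ)⁻¹, fdual_mul_mem hF _ _ hc0 hdq'⟩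
      have he : (e : F) = c0 * (((c' : F) - c'') * τ)⁻¹ := rfl
      have h1' := fdual_eq_one_of_eq μ1Z (M c' e) (M c'' e) (DFunLike.congr_fun h e)
      have hsub : M c' e - M c'' e = ⟨c0, hc0⟩ := by
        apply Subtype.ext
        rw [AddSubgroup.coe_sub, hM, hM, he]
        have h3 : c0 * (((c' : F) - c'') * τ)⁻¹ * ((c' : F) * τ) -
            c0 * (((c' : F) - c'') * τ)⁻¹ * ((c'' : F) * τ) =
            c0 * ((((c' : F) - c'') * τ)⁻¹ * (((c' : F) - c'') * τ)) := by ring
        rw [h3, inv_mul_cancel₀ hd0, mul_one]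
      rw [hsub] at h1'
      exact h1'
    obtain ⟨c2, hc2⟩ := fdual_surj Ψ hΨinj μ2Z
    have hc2' : ∀ c : F, c + c ^ q = 0 → μ1 (c * ((c2 : F) * τ)) = μ2 (-c) := by
      intro c hc
      have := DFunLike.congr_fun hc2 ⟨c, hc⟩
      rw [hΨ, hμ2Z] at this
      exact this
    -- the solution
    have hy2 : ((c2 : F) * τ) ^ q = (c2 : F) * τ := by
      rw [mul_pow, hτq, hzq _ c2.2]; ring
    have hσN : ((s * τ) ^ (q + 1)) ^ q = (s * τ) ^ (q + 1) := by
      rw [← pow_mul, mul_comm (q + 1) q, pow_mul, pow_succ ((s * τ) ^ q) q, Helper13.pow_q_pow_q hF,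
        pow_succ]
      ring
    have hr : ((c2 : F) * τ + (s * τ) ^ (q + 1)) ^ q = (c2 : F) * τ + (s * τ) ^ (q + 1) := by
      rw [frob_add hF, hy2, hσN]
    obtain ⟨l, hl⟩ := exists_norm_eq hF _ hr
    refine ⟨l - s * τ, 1, Or.inr one_ne_zero, fun c hc => ?_⟩
    rw [one_pow, mul_one, mul_one, hs']
    have hcq := hzq c hc
    -- the key identity
    have hkey : c * (l - s * τ) ^ (q + 1) +
        τ * (s * (c * (l - s * τ) ^ q) + (s * (c * (l - s * τ) ^ q)) ^ q) = c * ((c2 : F) * τ) := by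
      have hc2τ : (c2 : F) * τ = l ^ (q + 1) - (s * τ) ^ (q + 1) := by rw [hl]; ring
      rw [mul_pow s, mul_pow c, Helper13.pow_q_pow_q hF, hcq, hc2τ]
      have hlq : (l - s * τ) ^ q = l ^ q - s ^ q * τ ^ q := by rw [frob_sub hF, mul_pow]
      rw [pow_succ (l - s * τ) q, hlq, hτq, pow_succ l q, pow_succ (s * τ) q, mul_pow s τ q, hτq]
      ring
    have hm1 : c * (l - s * τ) ^ (q + 1) + (c * (l - s * τ) ^ (q + 1)) ^ q = 0 := by
      apply fdual_mul_mem hF _ _ hc
      rw [← pow_mul, mul_comm (q + 1) q, pow_mul, pow_succ ((l - s * τ) ^ q) q,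
        Helper13.pow_q_pow_q hF, pow_succ]
      ring
    have hm2 : τ * (s * (c * (l - s * τ) ^ q) + (s * (c * (l - s * τ) ^ q)) ^ q) +
        (τ * (s * (c * (l - s * τ) ^ q) + (s * (c * (l - s * τ) ^ q)) ^ q)) ^ q = 0 :=
      (T (s * (c * (l - s * τ) ^ q))).2
    rw [← h1 _ _ hm1 hm2, hkey, hc2' c hc, ← h2 _ _ (by rw [frob_neg hF, hcq]; ring) hc,
      neg_add_cancel, h20]

end concrete

end Cfsg.Agent.Lib.Helper6.Ls
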