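import Cfsg.Agent.Lib.Helper60.RhFIX3core
import Cfsg.Agent.Lib.Helper49.RhFIXC
import Cfsg.Agent.Lib.Helper95.RhFIXH
import Cfsg.Agent.Lib.Helper1.RhFIX2

/-! # Rh hive (helper38), Part B, leaf RH-FIX3: the possible numbers of fixed points of `g ≠ 1` on `G / B`. -/

set_option autoImplicit false

namespace Cfsg.Agent.Lib.Helper38.Rh

open Cfsg.Agent.Lib.Helper12.Rt

section partB
variable {K : Type*} [Field K] [Fintype K] {G : Type*} [Group G] {m : ℕ} (D : RtData K G m)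

/-- RH-FIX3.  The possible numbers of fixed points of `g ≠ 1`.  (RH-FIX2, RH-FIXH, RH-FIXC.) -/
theorem fixN_cases (g : G) (hg : g ≠ 1) :
    fixN D g = 0 ∨ fixN D g = 1 ∨ fixN D g = 2 ∨ (fixN D g = qq m + 1 ∧ g * g = 1) :=
  fix3_cases_core D (fixN_conj D) (fixN_a D) (fixN_h D) (conj_h_of_two_le D) g hg

/-- RH-FIX3 (same file).  Involutions fix `q + 1` points.  (`D.inv_conj`, `D.hIa`, RH-FIXH, RH-FIXC.) -/
theorem fixN_invol (g : G) (hg : g ≠ 1) (hg2 : g * g = 1) : fixN D g = qq m + 1 :=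
  fix3_invol_core D (fixN_conj D) (fixN_a D) g hg hg2

end partB

end Cfsg.Agent.Lib.Helper38.Rh
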