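import Cfsg.Agent.Lib.Helper4.RuDefs

set_option autoImplicit false

namespace Cfsg.Agent.Lib.Helper4.Ru

open Cfsg.Spor

theorem parb_split (x d : RuVec) (p0 : RuIdx)
    (h : ∀ p, p ≠ p0 → (4 : ℤ) ∣ (x p).re * (d p).re + (x p).im * (d p).im)
    (h0 : ((x p0).re * (d p0).re + (x p0).im * (d p0).im) % 4 = 2) : ¬ (4 : ℤ) ∣ ip x d := by
  unfold ip
  rw [← Finset.add_sum_erase Finset.univ _ (Finset.mem_univ p0)]
  have hrest : (4 : ℤ) ∣ ∑ p ∈ Finset.univ.erase p0,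
      ((x p).re * (d p).re + (x p).im * (d p).im) :=
    Finset.dvd_sum (fun p hp => h p (Finset.ne_of_mem_erase hp))
  intro hdvd
  obtain ⟨r, hr⟩ := hrest
  obtain ⟨t, ht⟩ := hdvd
  omega

theorem parb_arith0 (a b c e : ℤ) (hab : (a + b) % 2 = 1) (hc : c % 4 = 2) (he : e % 4 = 2) :
    (a * c + b * e) % 4 = 2 := by
  obtain ⟨c', rfl⟩ : ∃ c', c = 4 * c' + 2 := ⟨c / 4, by omega⟩
  obtain ⟨e', rfl⟩ : ∃ e', e = 4 * e' + 2 := ⟨e / 4, by omega⟩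
  obtain ⟨k, hk⟩ : ∃ k, a + b = 2 * k + 1 := ⟨(a + b) / 2, by omega⟩
  have : a * (4 * c' + 2) + b * (4 * e' + 2) = 4 * (a * c' + b * e' + k) + 2 := by
    linear_combination 2 * hk
  rw [this]
  omega

theorem parb_arith1 (a b c e : ℤ) (ha : a % 2 = 1) (hb : b % 2 = 1) (hc : c % 2 = 0) (he : e % 2 = 0)
    (r : ℤ) (hce : (c + e) % 4 = r) : (a * c + b * e) % 4 = r := by
  obtain ⟨a', rfl⟩ : ∃ a', a = 2 * a' + 1 := ⟨a / 2, by omega⟩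
  obtain ⟨b', rfl⟩ : ∃ b', b = 2 * b' + 1 := ⟨b / 2, by omega⟩
  obtain ⟨c', rfl⟩ : ∃ c', c = 2 * c' := ⟨c / 2, by omega⟩
  obtain ⟨e', rfl⟩ : ∃ e', e = 2 * e' := ⟨e / 2, by omega⟩
  have : (2 * a' + 1) * (2 * c') + (2 * b' + 1) * (2 * e') =
      4 * (a' * c' + b' * e') + (2 * c' + 2 * e') := by ring
  rw [this]
  omega

/-- kill, level 0 -/
theorem killlem0 (x d : RuVec) (S : Finset RuIdx) (p0 : RuIdx) (hp0 : p0 ∈ S)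
    (hx0 : ∀ p, p ∉ S → x p = 0) (hx1 : ((x p0).re + (x p0).im) % 2 = 1)
    (hd : ∀ q ∈ S, q ≠ p0 → (d q).re % 4 = 0 ∧ (d q).im % 4 = 0)
    (hd0 : (d p0).re % 4 = 2 ∧ (d p0).im % 4 = 2) : ¬ (4 : ℤ) ∣ ip x d := by
  apply parb_split x d p0
  · intro p hp
    by_cases hpS : p ∈ S
    · obtain ⟨h1, h2⟩ := hd p hpS hp
      exact dvd_add (Dvd.dvd.mul_left (Int.dvd_of_emod_eq_zero h1) _)
        (Dvd.dvd.mul_left (Int.dvd_of_emod_eq_zero h2) _)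
    · rw [hx0 p hpS]
      simp
  · exact parb_arith0 _ _ _ _ hx1 hd0.1 hd0.2

/-- kill, level 1 -/
theorem killlem1 (x d : RuVec) (S : Finset RuIdx) (p0 : RuIdx) (hp0 : p0 ∈ S)
    (hx0 : ∀ p, p ∉ S → x p = 0) (hx1 : ∀ q ∈ S, (x q).re % 2 = 1 ∧ (x q).im % 2 = 1)
    (hd : ∀ q ∈ S, q ≠ p0 → (d q).re % 2 = 0 ∧ (d q).im % 2 = 0 ∧ ((d q).re + (d q).im) % 4 = 0)
    (hd0 : (d p0).re % 2 = 0 ∧ (d p0).im % 2 = 0 ∧ ((d p0).re + (d p0).im) % 4 = 2) :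
    ¬ (4 : ℤ) ∣ ip x d := by
  apply parb_split x d p0
  · intro p hp
    by_cases hpS : p ∈ S
    · obtain ⟨h1, h2, h3⟩ := hd p hpS hp
      obtain ⟨g1, g2⟩ := hx1 p hpS
      exact Int.dvd_of_emod_eq_zero (parb_arith1 _ _ _ _ g1 g2 h1 h2 0 h3)
    · rw [hx0 p hpS]
      simp
  · obtain ⟨g1, g2⟩ := hx1 p0 hp0
    exact parb_arith1 _ _ _ _ g1 g2 hd0.1 hd0.2.1 2 hd0.2.2

/-- kill, level 3 -/
theorem killlem3 (x d : RuVec) (p0 : RuIdx) (hx0 : ∀ p, p ≠ p0 → x p = 0)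
    (hx : (x p0).re % 4 = 2 ∧ (x p0).im % 4 = 2) (hd : ((d p0).re + (d p0).im) % 2 = 1) :
    ¬ (4 : ℤ) ∣ ip x d := by
  apply parb_split x d p0
  · intro p hp
    rw [hx0 p hp]
    simp
  · have := parb_arith0 (d p0).re (d p0).im (x p0).re (x p0).im hd hx.1 hx.2
    rw [mul_comm (d p0).re, mul_comm (d p0).im] at this
    exact this

end Cfsg.Agent.Lib.Helper4.Ru
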