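import Cfsg.Agent.Lib.Helper47.FLDefs
import Cfsg.Agent.Lib.Helper47.FrakLSz
import Cfsg.Agent.Lib.Helper6.SzInv
import Cfsg.Agent.Lib.Helper6.SzSol3

set_option autoImplicit false

/-! # FL-SZFPF (FL hive S2863, helper47): `goodPair_Sz_fpf`, leaf by helper60

Every element `x` of `Sz(q)` whose order is not a power of `2` lies in a torus `U` (partition of `Sz(q)`),
`|N(U)|` is even, an involution `t` of `N(U)` inverts `U`, so `x = t * (t * x)` is a product of two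
involutions; they lie in two different conjugates of `P` because `x` is not an involution. -/

namespace Cfsg.Agent.Lib.Helper47.FL

open Cfsg

section sz
open Cfsg.Agent.Lib.Helper6.Sz
variable {F : Type*} [Field F] [CharP F 2] [Finite F] (s : F →+* F)
  (hs : ∀ x, s (s x) = x ^ 2)

include hs in
/-- an element whose order is not a power of `2` is inverted by an involution -/
theorem szfpf_exists_invol (hnt : ∃ y : F, s y ≠ y ^ 2) {m : ℕ} (hm : 1 ≤ m)
    (hk : Nat.card F = 2 ^ (2 * m + 1)) (x : G s) (hx : ¬ ∃ k : ℕ, orderOf x = 2 ^ k) :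
    ∃ t : G s, t ^ 2 = 1 ∧ t ≠ 1 ∧ t * x * t⁻¹ = x⁻¹ := by
  have : Fact (Nat.Prime 2) := ⟨Nat.prime_two⟩
  have hx1 : x ≠ 1 := by
    rintro rfl
    exact hx ⟨0, by simp⟩
  have hnot2 : ∀ j : ℕ, x ^ 2 ^ j ≠ 1 := by
    intro j hj
    have h1 : orderOf x ∣ 2 ^ j := orderOf_dvd_of_pow_eq_one hj
    obtain ⟨i, -, hi⟩ := (Nat.dvd_prime_pow Nat.prime_two).1 h1
    exact hx ⟨i, hi⟩
  -- the torus containing `x`
  obtain ⟨U, ⟨hUgood, hxU⟩, hUuniq⟩ := partition s hs hnt hm hk x hx1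
  have hUtorus : IsTorus s m U := by
    rcases hUgood with ⟨P, hP⟩ | ⟨hcyc, hcard⟩
    · exfalso
      rw [hP] at hxU
      obtain ⟨j, hj⟩ := pow_two_pow_of_mem_sylow s P hxU
      exact hnot2 j hj
    · exact ⟨hcyc, hcard⟩
  -- the normalizer has even order
  have h2N : 2 ∣ Nat.card (Subgroup.normalizer (U : Set (G s))) := by
    by_cases hfix : ∃ α : Ov s, x • α = α
    · obtain ⟨α, hα⟩ := hfix
      rw [card_normalizer_split s hs hnt hm hk hUtorus hxU hx1 hα]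
      exact Dvd.dvd.mul_right (dvd_refl 2) _
    · have hfpf : IsFpf s x := fun α hα => hfix ⟨α, hα⟩
      have hUeq : U = Subgroup.centralizer ({x} : Set (G s)) :=
        ((hUuniq _ ⟨good_centralizer_fpf s hs hnt hm hk hfpf, mem_centralizer_self s x⟩)).symm
      rw [hUeq, card_normalizer_fpf_eq s hs hnt hm hk hfpf]
      exact Dvd.dvd.mul_right (by norm_num) _
  obtain ⟨⟨j, hjN⟩, hj⟩ := exists_prime_orderOf_dvd_card' 2 h2N
  have hj2 : orderOf j = 2 := (Subgroup.orderOf_mk j hjN).symm.trans hj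
  have hjsq : j ^ 2 = 1 := by rw [← hj2]; exact pow_orderOf_eq_one j
  have hj1 : j ≠ 1 := by
    intro h
    rw [h, orderOf_one] at hj2
    omega
  obtain ⟨z, b, hjz⟩ := exists_conj_Tg_zero s hs hnt (by exact hk) hjsq
  have hb : b ≠ 0 := by
    rintro rfl
    apply hj1
    rw [hjz, Tg_zero]; group
  -- conjugate the torus
  obtain ⟨U', hU'def⟩ : ∃ U' : Subgroup (G s), U' = U.map (MulAut.conj z⁻¹).toMonoidHom :=
    ⟨_, rfl⟩
  have hU'torus : IsTorus s m U' := by rw [hU'def]; exact isTorus_conj s hUtorus z⁻¹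
  have htN : Tg s hs 0 b ∈ Subgroup.normalizer (U' : Set (G s)) := by
    rw [hU'def, ← map_conj_normalizer]
    refine ⟨j, hjN, ?_⟩
    show z⁻¹ * j * z⁻¹⁻¹ = _
    rw [hjz]; group
  have hvU' : z⁻¹ * x * z ∈ U' := by
    rw [hU'def]
    refine ⟨x, hxU, ?_⟩
    show z⁻¹ * x * z⁻¹⁻¹ = _
    rw [inv_inv]
  have hinv := inverts_torus s hs hnt hm hU'torus hb htN hvU'
  refine ⟨j, hjsq, hj1, ?_⟩
  rw [hjz]
  have e1 : z * Tg s hs 0 b * z⁻¹ * x * (z * Tg s hs 0 b * z⁻¹)⁻¹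
      = z * (Tg s hs 0 b * (z⁻¹ * x * z) * (Tg s hs 0 b)⁻¹) * z⁻¹ := by group
  rw [e1, hinv]
  group

include hs in
theorem goodPair_Sz_fpf (hnt : ∃ y : F, s y ≠ y ^ 2) {m : ℕ} (hm : 1 ≤ m)
    (hk : Nat.card F = 2 ^ (2 * m + 1)) {P : Subgroup (G s)} (hexp : ∀ a ∈ P, a ^ 2 = 1)
    (hcard : Nat.card ↥P = Nat.card F) :
    ∀ x : G s, (¬ ∃ k : ℕ, orderOf x = 2 ^ k) → ∃ j : ℕ,
    (∃ g1 g2 : G s, cj g1 P ≠ cj g2 P ∧ ∃ y1 ∈ cj g1 P, ∃ y2 ∈ cj g2 P,
        y1 ≠ 1 ∧ y2 ≠ 1 ∧ x ^ j = y1 * y2) ∨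
    ((2 : ℕ) ≠ 2 ∧ ∃ g : G s, cj g P ≠ P ∧ ∃ y ∈ P, ∃ y' ∈ cj g P,
        cj (y * y' * y) P = cj g P ∧ cj (y * y' * y) (cj g P) = P ∧
          x ^ j = (y * y' * y) * (y * y' * y)) := by
  intro x hx
  obtain ⟨t, htsq, ht1, htx⟩ := szfpf_exists_invol s hs hnt hm hk x hx
  have htt : t * t = 1 := by rw [← sq]; exact htsq
  have htinv : t⁻¹ = t := inv_eq_of_mul_eq_one_left htt
  -- an involution of `P`
  have hP1 : 1 < Nat.card ↥P := by
    rw [hcard, hk]
    exact Nat.one_lt_two_pow (by omega)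
  obtain ⟨⟨e, heP⟩, he⟩ : ∃ e : ↥P, e ≠ 1 := by
    haveI : Nontrivial ↥P := (Finite.one_lt_card_iff_nontrivial).1 hP1
    exact exists_ne 1
  have he1 : e ≠ 1 := fun h => he (Subtype.ext h)
  have hesq : e ^ 2 = 1 := hexp e heP
  -- the second involution
  have htxsq : (t * x) ^ 2 = 1 := by
    rw [sq]
    calc t * x * (t * x) = (t * x * t⁻¹) * x := by rw [htinv]; group
      _ = 1 := by rw [htx]; group
  have hxord : ¬ x ^ 2 = 1 := by
    intro h
    have h1 : orderOf x ∣ 2 ^ 1 := orderOf_dvd_of_pow_eq_one (by simpa using h)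
    obtain ⟨i, -, hi⟩ := (Nat.dvd_prime_pow Nat.prime_two).1 h1
    exact hx ⟨i, hi⟩
  have htx1 : t * x ≠ 1 := by
    intro h
    have hxt : x = t := by
      have : x = t⁻¹ * (t * x) := by group
      rw [this, h, mul_one, htinv]
    exact hxord (by rw [hxt]; exact htsq)
  obtain ⟨g1, hg1⟩ := invol_conj s hs hnt (by exact hk) hesq he1 htsq ht1
  obtain ⟨g2, hg2⟩ := invol_conj s hs hnt (by exact hk) hesq he1 htxsq htx1
  refine ⟨1, Or.inl ⟨g1, g2, ?_, t, ?_, t * x, ?_, ht1, htx1, ?_⟩⟩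
  · intro hEq
    -- both involutions in one conjugate: `x` would be an involution
    have h1 : t ∈ cj g1 P := by rw [hg1]; exact conj_mem_cj heP
    have h2 : t * x ∈ cj g1 P := by rw [hEq, hg2]; exact conj_mem_cj heP
    have h3 : x ∈ cj g1 P := by
      have : x = t⁻¹ * (t * x) := by group
      rw [this]
      exact (cj g1 P).mul_mem ((cj g1 P).inv_mem h1) h2
    rw [mem_cj_iff] at h3
    have h4 := hexp _ h3
    apply hxord
    have : x ^ 2 = g1 * (g1⁻¹ * x * g1) ^ 2 * g1⁻¹ := by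
      rw [sq, sq]; group
    rw [this, h4]; group
  · rw [hg1]; exact conj_mem_cj heP
  · rw [hg2]; exact conj_mem_cj heP
  · rw [pow_one]
    calc x = (t * t) * x := by rw [htt, one_mul]
      _ = t * (t * x) := by group

end sz

end Cfsg.Agent.Lib.Helper47.FL
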