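import Mathlib
import Cfsg.Agent.Lib.Helper47.G42Defs

set_option autoImplicit false

namespace Cfsg.Agent.Lib.Helper47.G42

open Equiv

/-- the cycle type is invariant under transport along an equivalence -/
theorem f56transp_cycleType {α β : Type*} [Fintype α] [DecidableEq α] [Fintype β] [DecidableEq β]
    (e : α ≃ β) (σ : Perm α) : (e.permCongr σ).cycleType = σ.cycleType := by
  let f : α ≃ Subtype (fun _ : β => True) := e.trans (Equiv.subtypeUnivEquiv (fun _ => trivial)).symm
  have h : e.permCongr σ = σ.extendDomain f := by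
    ext x
    rw [Equiv.Perm.extendDomain_apply_subtype σ f (b := x) trivial]
    rfl
  rw [h, Equiv.Perm.cycleType_extendDomain]

/-- SUB-LEAF F56-TRANSP (generic transport to `Fin 6`). -/
theorem f56_transp {G : Type*} [Group G] {α : Type*} [Fintype α] [DecidableEq α]
    (hα : Fintype.card α = 6) (ρ : G →* Perm α) (hinj : Function.Injective ρ)
    (htr : ∀ x y : α, ∃ h : G, ρ h x = y) (h5 : ∃ h : G, (ρ h).cycleType = {5}) :
    ∃ φ : G →* Perm (Fin 6), Function.Injective φ ∧
      (∀ x y : Fin 6, ∃ h : G, φ h x = y) ∧ ∃ h : G, (φ h).cycleType = {5} := by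
  classical
  let e : α ≃ Fin 6 := Fintype.equivFinOfCardEq hα
  refine ⟨(e.permCongrHom.toMonoidHom).comp ρ, ?_, ?_, ?_⟩
  · intro a b hab
    apply hinj
    exact e.permCongrHom.injective hab
  · intro x y
    obtain ⟨h, hh⟩ := htr (e.symm x) (e.symm y)
    refine ⟨h, ?_⟩
    show e (ρ h (e.symm x)) = y
    rw [hh]; simp
  · obtain ⟨h, hh⟩ := h5
    refine ⟨h, ?_⟩
    show (e.permCongr (ρ h)).cycleType = {5}
    rw [← hh]
    exact f56transp_cycleType e (ρ h)
end Cfsg.Agent.Lib.Helper47.G42
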