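import Cfsg.Agent.Lib.Helper63.BG13a
import Cfsg.Agent.Lib.Helper24.CoprimeAbelian
import Cfsg.Agent.Lib.Helper24.Glauberman
import Cfsg.Agent.Lib.Helper50.SylowJoin
import Cfsg.Agent.Lib.Helper21.BG139Cfg
import Cfsg.Agent.Lib.Helper11.NPC
import Cfsg.Agent.Lib.Helper19.BG124a
import Cfsg.Agent.Lib.Helper23.AlphaB
import Cfsg.Agent.Lib.Helper23.TypeP
import Cfsg.Agent.S1350
import Cfsg.Agent.S1405
import Cfsg.Agent.S1411
import Cfsg.Agent.S1414
import Cfsg.Agent.S1415

/-!
# Bender–Glauberman 13.9, piece T6 (`Cfg.hallT`)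

For the configuration `Cfg M N p P` (non-conjugate maximal subgroups `M`, `N`, a Sylow `p`-subgroup
`P` of `G` inside both, `p ∈ σ(M) ∩ σ(N)`), a `τ₁(M)`-Hall subgroup `T` of `M ⊓ N` is a cyclic
`τ₁(M)`-Hall subgroup of `M`, acts without fixed points on `P`, and lies in a complement `E ≤ M ⊓ N`
of `M_σ` in `M`.  The earlier pieces T3, T4 are taken as explicit hypotheses.
-/

set_option autoImplicit false
set_option linter.style.haveILetI false
set_option linter.unusedSectionVars false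

namespace Cfsg.Agent.Lib.Helper60.BG139T6

open Subgroup Cfsg Cfsg.Agent.Lib.Helper33

universe u

variable {G : Type u} [Group G] [Finite G]

/-- Relative Schur–Zassenhaus with a prescribed subgroup: `K ≤ X` a normal solvable Hall subgroup of
`X`, `T ≤ X` of order coprime to `|K|`; then `K` has a complement in `X` containing `T`. -/
theorem exists_compl_ge' {K X T : Subgroup G} (hKX : K ≤ X)
    (hXK : X ≤ normalizer (K : Set G)) (hsolv : Group.IsSolvable ↥K)
    (hcopK : (Nat.card K).Coprime (K.relIndex X)) (hTX : T ≤ X)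
    (hcop : (Nat.card T).Coprime (Nat.card K)) :
    ∃ E' : Subgroup G, IsComplIn E' K X ∧ T ≤ E' ∧ Nat.card E' = K.relIndex X := by
  obtain ⟨E, hEX, hEcard, hEK, hEsup⟩ := Cfsg.Agent.Lib.Helper24.rel_sz_exists K X hKX hXK hcopK
  have hprod : ∀ m ∈ X, ∃ a ∈ E, ∃ b ∈ K, m = a * b := by
    intro m hm
    exact Cfsg.Agent.Lib.Helper24.exists_mul_of_mem_sup_of_le_normalizer E K (hEX.trans hXK) m
      (hEsup ▸ hm)
  set Y := T ⊔ K with hY
  set H₂ := E ⊓ Y with hH₂
  have h₁ : T ≤ normalizer (K : Set G) := hTX.trans hXK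
  have hYX : Y ≤ X := sup_le hTX hKX
  have hc1 : IsComplIn T K Y := by
    refine ⟨le_sup_left, le_sup_right, (Subgroup.disjoint_of_coprime_natCard hcop).eq_bot, ?_⟩
    intro y hy
    exact Cfsg.Agent.Lib.Helper24.exists_mul_of_mem_sup_of_le_normalizer T K h₁ y hy
  have hc2 : IsComplIn H₂ K Y := by
    refine ⟨inf_le_right, le_sup_right, ?_, ?_⟩
    · rw [eq_bot_iff, ← hEK]
      exact inf_le_inf_right _ inf_le_left
    · intro y hy
      obtain ⟨e, he, s, hs, rfl⟩ := hprod y (hYX hy)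
      refine ⟨e, ⟨he, ?_⟩, s, hs, rfl⟩
      have : e = (e * s) * s⁻¹ := by group
      rw [this]
      exact Y.mul_mem hy (Y.inv_mem ((le_sup_right : K ≤ Y) hs))
  have hcard : Nat.card H₂ = Nat.card T := by
    have e1 := Cfsg.Agent.Lib.Helper23.card_isComplIn hc1
    have e2 := Cfsg.Agent.Lib.Helper23.card_isComplIn hc2
    have hpos : 0 < Nat.card K := Nat.card_pos
    exact Nat.eq_of_mul_eq_mul_right hpos (e2.trans e1.symm)
  obtain ⟨n, hn, hconj⟩ := Cfsg.Agent.Lib.Helper24.rel_sz_conj K T H₂ h₁ hcop (Or.inl hsolv)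
    inf_le_right hcard
  have hnX : n ∈ X := hKX hn
  have hTE : cj n T ≤ E := by rw [hconj]; exact inf_le_left
  refine ⟨cj n⁻¹ E, ⟨?_, hKX, ?_, ?_⟩, ?_, ?_⟩
  · rw [cj_le_iff, inv_inv, cj_eq_self_of_mem hnX]
    exact hEX
  · have hNn : cj n⁻¹ K = K := cj_eq_self_of_mem (K.inv_mem hn)
    rw [← hNn, ← cj_inf, hEK, cj_bot]
  · intro m hm
    obtain ⟨e, he, s, hs, hes⟩ := hprod (n * m * n⁻¹) (X.mul_mem (X.mul_mem hnX hm) (X.inv_mem hnX))
    refine ⟨n⁻¹ * e * n, ?_, n⁻¹ * s * n, ?_, ?_⟩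
    · rw [mem_cj, inv_inv]
      have : n * (n⁻¹ * e * n) * n⁻¹ = e := by group
      rw [this]; exact he
    · have h1 := (mem_normalizer_iff.mp (hXK (X.inv_mem hnX)) s).mp hs
      simpa using h1
    · have : m = n⁻¹ * (n * m * n⁻¹) * n := by group
      rw [this, hes]; group
  · rw [le_cj_iff, inv_inv]
    exact hTE
  · rw [card_cj, hEcard]

open Cfsg.Agent.Lib.Helper21.BG139

/-- swap the two factors of a complement pair -/
theorem isComplIn_swap {A B C : Subgroup G} (h : IsComplIn A B C) : IsComplIn B A C := by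
  obtain ⟨hA, hB, hd, hp⟩ := h
  refine ⟨hB, hA, by rw [inf_comm]; exact hd, ?_⟩
  intro m hm
  obtain ⟨a, ha, b, hb, hab⟩ := hp m⁻¹ (C.inv_mem hm)
  refine ⟨b⁻¹, B.inv_mem hb, a⁻¹, A.inv_mem ha, ?_⟩
  have : m = (m⁻¹)⁻¹ := by group
  rw [this, hab]; group

/-- a subgroup `C ≤ E` with `s ∤ |E : C|` for every prime `s` is all of `E` -/
theorem le_of_forall_prime_not_dvd_relIndex {C E : Subgroup G}
    (h : ∀ s : ℕ, s.Prime → ¬ s ∣ C.relIndex E) : E ≤ C := by
  rw [← Subgroup.relIndex_eq_one]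
  exact Nat.eq_one_iff_not_exists_prime_dvd.mpr h

variable {M N : Subgroup G} {p : ℕ} [hp : Fact p.Prime] {P : Sylow p G}

/-- the first part: the complement `E ≤ M ⊓ N` of `M_σ` in `M` containing `T` -/
theorem exists_compl (hG : IsMinSimpleOddOrder G) (c : Cfg M N p P)
    (hmul : ∀ m ∈ M, ∃ a ∈ alphaCore M, ∃ d ∈ M ⊓ N, m = a * d)
    {T : Subgroup G} (hT : IsPiHallOf (tau1 M) T (M ⊓ N)) :
    ∃ E : Subgroup G, IsComplIn E (sigmaCore M) M ∧ E ≤ M ⊓ N ∧ T ≤ E ∧
      Nat.card E = (sigmaCore M).relIndex M := by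
  have hM := c.hM
  have hσ : IsPiHallOf (sigma M) (sigmaCore M) M := (Cfsg.Agent.S1350.result hG M hM).1
  have hMσM : sigmaCore M ≤ M := hσ.1
  have hMn : M ≤ normalizer ((sigmaCore M : Subgroup G) : Set G) :=
    Cfsg.Agent.Lib.Helper24.BG.le_normalizer_sigmaCore M
  have hα : alphaCore M ≤ sigmaCore M := (Cfsg.Agent.S1405.result hG M hM).2.2.1
  set D := M ⊓ N with hD
  have hDM : D ≤ M := inf_le_left
  have hsup : D ⊔ sigmaCore M = M := by
    apply le_antisymm (sup_le hDM hMσM)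
    intro m hm
    obtain ⟨a, ha, d, hd, rfl⟩ := hmul m hm
    exact mul_mem ((le_sup_right : sigmaCore M ≤ D ⊔ sigmaCore M) (hα ha))
      ((le_sup_left : D ≤ D ⊔ sigmaCore M) hd)
  set Y := sigmaCore M ⊓ D with hY
  have hYD : Y ≤ D := inf_le_right
  have hDY : D ≤ normalizer (Y : Set G) := by
    intro d hd
    rw [mem_normalizer_iff]
    intro h
    have h1 := mem_normalizer_iff.mp (hMn (hDM hd)) h
    constructor
    · rintro ⟨h2, h3⟩
      exact ⟨h1.mp h2, D.mul_mem (D.mul_mem hd h3) (D.inv_mem hd)⟩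
    · rintro ⟨h2, h3⟩
      refine ⟨h1.mpr h2, ?_⟩
      have : h = d⁻¹ * (d * h * d⁻¹) * d := by group
      rw [this]
      exact D.mul_mem (D.mul_mem (D.inv_mem hd) h3) hd
  have hMtop : M ≠ ⊤ := hM.1
  have hYtop : Y ≠ ⊤ := fun h => hMtop (top_le_iff.mp (h ▸ (hYD.trans hDM)))
  have hsolvY : Group.IsSolvable ↥Y := Cfsg.Agent.Lib.Helper23.isSolvable_of_ne_top hG hYtop
  have hrel : Y.relIndex D = (sigmaCore M).relIndex M := by
    rw [hY, Subgroup.inf_relIndex_right]
    have := Cfsg.Agent.Lib.Helper24.relIndex_sup_right_of_le_normalizer D (sigmaCore M)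
      (hDM.trans hMn)
    rw [hsup] at this
    exact this.symm
  have hcopY : (Nat.card Y).Coprime (Y.relIndex D) := by
    rw [hrel]
    apply Nat.coprime_of_dvd
    intro k hk hkY hkr
    have hkσ : k ∣ Nat.card (sigmaCore M) := hkY.trans (Subgroup.card_dvd_of_le inf_le_left)
    exact hσ.2.2 k hk (hσ.2.1 k hk hkσ) hkr
  have hcopT : (Nat.card T).Coprime (Nat.card Y) := by
    apply Nat.coprime_of_dvd
    intro k hk hkT hkY
    have hkσ : k ∣ Nat.card (sigmaCore M) := hkY.trans (Subgroup.card_dvd_of_le inf_le_left)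
    exact (hT.2.1 k hk hkT).2.1 (hσ.2.1 k hk hkσ)
  obtain ⟨E, hE, hTE, hEcard⟩ := exists_compl_ge' hYD hDY hsolvY hcopY hT.1 hcopT
  obtain ⟨hED, -, hEY, hEprod⟩ := hE
  refine ⟨E, ⟨hED.trans hDM, hMσM, ?_, ?_⟩, hED, hTE, hEcard.trans hrel⟩
  · rw [eq_bot_iff, ← hEY]
    intro x hx
    exact ⟨hx.1, hx.2, hED hx.1⟩
  · intro m hm
    obtain ⟨a, ha, d, hd, rfl⟩ := hmul m hm
    obtain ⟨e, he, y, hy, rfl⟩ := hEprod d hd
    refine ⟨e, he, (e⁻¹ * a * e) * y, ?_, by group⟩
    apply mul_mem _ hy.1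
    have h1 := (mem_normalizer_iff.mp (hMn (M.inv_mem (hDM (hED he)))) a).mp (hα ha)
    simpa using h1

/-- **T6** (`Cfg.hallT`), with the pieces T3 (`hinf`, `habel`, `hPs`) and T4 (`hmul`, `htau1`) as
explicit hypotheses. -/
theorem hallT (hG : IsMinSimpleOddOrder G) (c : Cfg M N p P) (h31 : Stmt131a G)
    (hinf : M ⊓ N = normalizer ((P : Subgroup G) : Set G))
    (habel : ∀ a ∈ (P : Subgroup G), ∀ b ∈ (P : Subgroup G), a * b = b * a)
    (hPs : (P : Subgroup G) ≤ sigmaCore M)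
    (hmul : ∀ m ∈ M, ∃ a ∈ alphaCore M, ∃ d ∈ M ⊓ N, m = a * d)
    (htau1 : tau1 N ⊆ tau1 M ∪ alpha M)
    {T : Subgroup G} (hT : IsPiHallOf (tau1 M) T (M ⊓ N)) :
    IsPiHallOf (tau1 M) T M ∧ IsCyclic T ∧ (P : Subgroup G) ⊓ centralizer (T : Set G) = ⊥ ∧
      ∃ E : Subgroup G, IsComplIn E (sigmaCore M) M ∧ E ≤ M ⊓ N ∧ T ≤ E := by
  have hM := c.hM
  have hN := c.hN
  have hU := Cfsg.Agent.Lib.Helper19.BG124.uniqStmt hG
  have hσ : IsPiHallOf (sigma M) (sigmaCore M) M := (Cfsg.Agent.S1350.result hG M hM).1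
  have hMσM : sigmaCore M ≤ M := hσ.1
  have hMn : M ≤ normalizer ((sigmaCore M : Subgroup G) : Set G) :=
    Cfsg.Agent.Lib.Helper24.BG.le_normalizer_sigmaCore M
  have hασ : alpha M ⊆ sigma M := Cfsg.Agent.Lib.Helper23.alpha_subset_sigma hG hU hM
  obtain ⟨E, hE, hED, hTE, hEcard⟩ := exists_compl hG c hmul hT
  set D := M ⊓ N with hD
  have hDM : D ≤ M := inf_le_left
  have hPD : (P : Subgroup G) ≤ D := le_inf c.hPM c.hPN
  -- `T` is a `τ₁(M)`-Hall subgroup of `E`
  have hTEhall : IsPiHallOf (tau1 M) T E := by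
    refine ⟨hTE, hT.2.1, ?_⟩
    intro r hr hrτ hdvd
    apply hT.2.2 r hr hrτ
    rw [← Subgroup.relIndex_mul_relIndex T E D hTE hED]
    exact dvd_mul_of_dvd_left hdvd _
  -- a prime dividing `|E|` is not in `σ(M)`
  have hEσ : ∀ s : ℕ, s.Prime → s ∣ Nat.card E → s ∉ sigma M := by
    intro s hs hsE hsσ
    rw [hEcard] at hsE
    exact hσ.2.2 s hs hsσ hsE
  refine ⟨⟨hT.1.trans hDM, hT.2.1, ?_⟩, (Cfsg.Agent.S1415.result hG M hM E hE).2.1 T hTEhall, ?_,
    E, hE, hED, hTE⟩
  · -- Hall in `M`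
    intro r hr hrτ hdvd
    rw [← Subgroup.relIndex_mul_relIndex T D M hT.1 hDM] at hdvd
    rcases (Nat.Prime.dvd_mul hr).mp hdvd with h1 | h1
    · exact hT.2.2 r hr hrτ h1
    · have hsup : D ⊔ sigmaCore M = M := by
        apply le_antisymm (sup_le hDM hMσM)
        intro m hm
        obtain ⟨a, ha, d, hd, rfl⟩ := hmul m hm
        exact mul_mem ((le_sup_right : sigmaCore M ≤ D ⊔ sigmaCore M)
          ((Cfsg.Agent.S1405.result hG M hM).2.2.1 ha))
          ((le_sup_left : D ≤ D ⊔ sigmaCore M) hd)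
      have h2 := Cfsg.Agent.Lib.Helper50.relIndex_sup_of_le_normalizer D (sigmaCore M)
        (hDM.trans hMn)
      rw [hsup] at h2
      rw [h2] at h1
      have h3 : r ∣ Nat.card (sigmaCore M) := h1.trans (Subgroup.relIndex_dvd_card _ _)
      exact hrτ.2.1 (hσ.2.1 r hr h3)
  · -- `C_P(T) = 1`
    have hp' := hp.out
    have hpβ : p ∉ beta M := by
      intro hβ
      obtain ⟨g, hg⟩ := Cfsg.Agent.Lib.Helper63.BG13.conj_of_sigma_alpha hU hM hN c.hpN hβ.1
      apply c.hnc g⁻¹
      have : cj g⁻¹ M = N := by rw [hg, cj_inv_cj]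
      exact this.symm
    have h14 : HasNormalPComplement p ↥(sigmaCore M) :=
      ((Cfsg.Agent.S1414.result hG M hM).2.2.2.2 p hp' c.hpM.2.1 hpβ).2.1
    obtain ⟨K, hK⟩ := Cfsg.Agent.Lib.Helper11.exists_wit_of_hasNPC h14
    have hDP : D ≤ normalizer ((P : Subgroup G) : Set G) := hinf.le
    have hPtop : (P : Subgroup G) ≠ ⊤ := fun h => hM.1 (top_le_iff.mp (h ▸ c.hPM))
    have hsolvP : Group.IsSolvable ↥(P : Subgroup G) :=
      Cfsg.Agent.Lib.Helper23.isSolvable_of_ne_top hG hPtop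
    have hpidx : ¬ p ∣ (P : Subgroup G).relIndex D := fun h =>
      P.not_dvd_index (h.trans (Subgroup.relIndex_dvd_index_of_le hPD))
    obtain ⟨k, hk⟩ := IsPGroup.iff_card.mp P.2
    have hcopP : (Nat.card (P : Subgroup G)).Coprime ((P : Subgroup G).relIndex D) := by
      rw [hk]
      exact Nat.Coprime.pow_left k ((Nat.Prime.coprime_iff_not_dvd hp').mpr hpidx)
    have hcopE : (Nat.card E).Coprime (Nat.card (P : Subgroup G)) := by
      rw [hk]
      apply Nat.Coprime.pow_right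
      rw [Nat.coprime_comm, Nat.Prime.coprime_iff_not_dvd hp']
      intro h
      exact hEσ p hp' h c.hpM
    obtain ⟨V, hV, hEV, hVcard⟩ := exists_compl_ge' hPD hDP hsolvP hcopP hED hcopE
    have hV' : IsComplIn (P : Subgroup G) V (normalizer ((P : Subgroup G) : Set G)) := by
      rw [← hinf]; exact isComplIn_swap hV
    have h11 := (Cfsg.Agent.S1411.result hG p P V hV').1
    have hVD : V ≤ D := hV.1
    have hVP : V ≤ normalizer ((P : Subgroup G) : Set G) := hVD.trans hDP
    have hVp : (Nat.card V).Coprime p := by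
      rw [hVcard, Nat.coprime_comm, Nat.Prime.coprime_iff_not_dvd hp']; exact hpidx
    have hcopV : (Nat.card V).Coprime (Nat.card (P : Subgroup G)) := by
      rw [hk]
      exact Nat.Coprime.pow_right k hVp
    haveI : IsMulCommutative ↥(P : Subgroup G) :=
      ⟨⟨fun a b => Subtype.ext (habel a a.2 b b.2)⟩⟩
    have h0 := Cfsg.Agent.Lib.Helper24.commutator_inf_centralizer_eq_bot_of_abelian
      (P : Subgroup G) V hVP hcopV
    rw [← h11] at h0
    rw [eq_bot_iff]
    intro x hx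
    rw [← h0]
    have hxP : x ∈ (P : Subgroup G) := hx.1
    have hxT : x ∈ centralizer (T : Set G) := hx.2
    refine ⟨hxP, ?_⟩
    -- `E ≤ C(x)`
    have hEx : E ≤ centralizer ({x} : Set G) := by
      have hle : E ≤ E ⊓ centralizer ({x} : Set G) := by
        apply le_of_forall_prime_not_dvd_relIndex
        intro s hs hdvd
        by_cases hsτ : s ∈ tau1 M
        · have hTC : T ≤ E ⊓ centralizer ({x} : Set G) := by
            refine le_inf hTE ?_
            intro t ht
            rw [mem_centralizer_iff]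
            intro y hy
            rw [Set.mem_singleton_iff] at hy
            subst hy
            exact (mem_centralizer_iff.mp hxT t ht).symm
          apply hTEhall.2.2 s hs hsτ
          rw [← Subgroup.relIndex_mul_relIndex T _ E hTC inf_le_left]
          exact dvd_mul_of_dvd_right hdvd _
        · have hsE : s ∣ Nat.card E := hdvd.trans (Subgroup.relIndex_dvd_card _ _)
          have hsσ := hEσ s hs hsE
          have hsN : s ∉ tau1 N := by
            intro h
            rcases htau1 h with h1 | h1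
            · exact hsτ h1
            · exact hsσ (hασ h1)
          haveI : Fact s.Prime := ⟨hs⟩
          obtain ⟨R⟩ : Nonempty (Sylow s ↥E) := inferInstance
          set R' : Subgroup G := (R : Subgroup ↥E).map E.subtype with hR'
          have hR'E : R' ≤ E := map_subtype_le _
          have hR'p : IsPGroup s R' := R.2.map E.subtype
          have hcent := h31 M N hM hN c.hnc s hs hsσ hsN R' hR'p (hR'E.trans hED)
          have hxc : x ∈ centralizer (R' : Set G) := hcent ⟨hPs hxP, c.hPN hxP⟩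
          have hRC : R' ≤ E ⊓ centralizer ({x} : Set G) := by
            refine le_inf hR'E ?_
            intro t ht
            rw [mem_centralizer_iff]
            intro y hy
            rw [Set.mem_singleton_iff] at hy
            subst hy
            exact (mem_centralizer_iff.mp hxc t ht).symm
          have hidx : ¬ s ∣ R'.relIndex E := by
            have hsub : R'.subgroupOf E = (R : Subgroup ↥E) :=
              Subgroup.comap_map_eq_self_of_injective (Subgroup.subtype_injective E) _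
            rw [Subgroup.relIndex, hsub]
            exact R.not_dvd_index
          apply hidx
          rw [← Subgroup.relIndex_mul_relIndex R' _ E hRC inf_le_left]
          exact dvd_mul_of_dvd_right hdvd _
      exact hle.trans inf_le_right
    show x ∈ centralizer (V : Set G)
    rw [mem_centralizer_iff]
    intro v hv
    obtain ⟨e, he, s, hs, rfl⟩ := hE.2.2.2 v (hDM (hVD hv))
    have hsV : s ∈ V := by
      have : s = e⁻¹ * (e * s) := by group
      rw [this]; exact V.mul_mem (V.inv_mem (hEV he)) hv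
    have hxe : e * x = x * e :=
      (mem_centralizer_iff.mp (hEx he) x (Set.mem_singleton x)).symm
    have hxs : s * x = x * s := by
      have hsord : (orderOf s).Coprime p :=
        Nat.Coprime.coprime_dvd_left (Subgroup.orderOf_dvd_natCard V hsV) hVp
      have hs'K : (⟨s, hs⟩ : ↥(sigmaCore M)) ∈ K :=
        hK.mem_of_coprime (by rw [Subgroup.orderOf_mk]; exact hsord)
      have hcK : (⟨x, hPs hxP⟩ : ↥(sigmaCore M)) * ⟨s, hs⟩ * (⟨x, hPs hxP⟩)⁻¹ * (⟨s, hs⟩)⁻¹ ∈ K :=
        K.mul_mem (hK.1.conj_mem _ hs'K _) (K.inv_mem hs'K)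
      have hcord := hK.2.1 _ hcK
      have hcP : x * s * x⁻¹ * s⁻¹ ∈ (P : Subgroup G) := by
        have : x * s * x⁻¹ * s⁻¹ = x * (s * x⁻¹ * s⁻¹) := by group
        rw [this]
        exact mul_mem hxP ((mem_normalizer_iff.mp (hVP hsV) x⁻¹).mp (inv_mem hxP))
      obtain ⟨n, hn⟩ := (IsPGroup.iff_orderOf.mp P.2) ⟨_, hcP⟩
      rw [Subgroup.orderOf_mk] at hn
      have hord : orderOf ((⟨x, hPs hxP⟩ : ↥(sigmaCore M)) * ⟨s, hs⟩ * (⟨x, hPs hxP⟩)⁻¹ *
          (⟨s, hs⟩)⁻¹) = orderOf (x * s * x⁻¹ * s⁻¹) := by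
        rw [← Subgroup.orderOf_coe]; rfl
      rw [hord, hn] at hcord
      have hpn : p ^ n = 1 := by
        rcases Nat.eq_zero_or_pos n with h0 | hpos
        · rw [h0, pow_zero]
        · exfalso
          have h5 : p.Coprime p := Nat.Coprime.coprime_dvd_left (dvd_pow_self p hpos.ne') hcord
          exact hp'.one_lt.ne' ((Nat.coprime_self p).mp h5)
      rw [hpn] at hn
      have h1 := orderOf_eq_one_iff.mp hn
      calc s * x = (x * s * x⁻¹ * s⁻¹)⁻¹ * (x * s) := by group
        _ = x * s := by rw [h1, inv_one, one_mul]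
    calc e * s * x = e * (s * x) := by group
      _ = e * (x * s) := by rw [hxs]
      _ = (e * x) * s := by group
      _ = x * (e * s) := by rw [hxe]; group

end Cfsg.Agent.Lib.Helper60.BG139T6
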