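import Mathlib

set_option autoImplicit false

namespace Cfsg.Agent.Lib.Helper60

open SemidirectProduct

/-- In a semidirect product `V ⋊ L` with `V` abelian of exponent two on which the elements of odd prime
order of `L` act without non-trivial fixed points, no element has order `2 * r` with right component of order `r`. -/
theorem no_two_mul_odd {L V : Type*} [Group L] [CommGroup V]
    (φ : L →* MulAut V)
    (hfpf : ∀ (x : L) (r : ℕ), r.Prime → r ≠ 2 → orderOf x = r → ∀ v : V, φ x v = v → v = 1)
    (h : V ⋊[φ] L) (r : ℕ) (hr : r.Prime) (hr2 : r ≠ 2) (hh : orderOf h = 2 * r)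
    (hx : orderOf h.right = r) : False := by
  have hk1 : (h ^ r).right = 1 := by
    have : (h ^ r).right = h.right ^ r := map_pow (rightHom : V ⋊[φ] L →* L) h r
    rw [this, ← hx, pow_orderOf_eq_one]
  have hkne : h ^ r ≠ 1 := by
    intro e
    have := orderOf_dvd_of_pow_eq_one e
    rw [hh] at this
    have hpos := hr.pos
    have := Nat.le_of_dvd hpos this
    omega
  have hw : (h ^ r).left ≠ 1 := by
    intro e
    apply hkne
    ext
    · simpa using e
    · simpa using hk1
  have hcomm : h * h ^ r = h ^ r * h := (pow_mul_comm' h r).symm ▸ rfl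
  have hl := congrArg SemidirectProduct.left hcomm
  rw [mul_left, mul_left, hk1, map_one, MulAut.one_apply] at hl
  have hfix : φ h.right (h ^ r).left = (h ^ r).left := by
    have : h.left * φ h.right (h ^ r).left = h.left * (h ^ r).left := by
      rw [hl, mul_comm]
    exact mul_left_cancel this
  exact hw (hfpf h.right r hr hr2 hx _ hfix)

/-- A semidirect product of a group `L` of even order with an abelian group of exponent two on which
the elements of odd prime order act fixed-point-freely has the same prime graph as `L`. -/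
theorem primeGraph_semidirect {L V : Type*} [Group L] [Finite L] [CommGroup V] [Finite V]
    (φ : L →* MulAut V) (hV : ∀ v : V, v ^ 2 = 1) (h2 : 2 ∣ Nat.card L)
    (hfpf : ∀ (x : L) (r : ℕ), r.Prime → r ≠ 2 → orderOf x = r → ∀ v : V, φ x v = v → v = 1) :
    (∀ p : ℕ, p.Prime → (p ∣ Nat.card L ↔ p ∣ Nat.card (V ⋊[φ] L))) ∧
    (∀ p q : ℕ, p.Prime → q.Prime → p ≠ q →
      ((∃ g : L, orderOf g = p * q) ↔ (∃ g : V ⋊[φ] L, orderOf g = p * q))) := by
  constructor
  · intro p hp
    rw [SemidirectProduct.card]
    constructor
    · intro h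
      exact Dvd.dvd.mul_left h _
    · intro h
      have hpV : IsPGroup 2 V := by
        intro v
        exact ⟨1, by simpa using hV v⟩
      obtain ⟨n, hn⟩ := IsPGroup.iff_card.mp hpV
      rw [hn] at h
      rcases (Nat.Prime.dvd_mul hp).mp h with h' | h'
      · have := (Nat.prime_dvd_prime_iff_eq hp Nat.prime_two).mp (hp.dvd_of_dvd_pow h')
        rw [this]
        exact h2
      · exact h'
  · intro p q hp hq hpq
    constructor
    · rintro ⟨g, hg⟩
      refine ⟨inr g, ?_⟩
      rw [orderOf_injective (inr : L →* V ⋊[φ] L) inr_injective g, hg]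
    · rintro ⟨h, hh⟩
      by_contra hcon
      push Not at hcon
      have hd : orderOf h.right ∣ p * q := by
        apply orderOf_dvd_of_pow_eq_one
        have : (h ^ (p * q)).right = h.right ^ (p * q) := map_pow (rightHom : V ⋊[φ] L →* L) h (p * q)
        rw [← this, ← hh, pow_orderOf_eq_one]
        rfl
      have hdne : orderOf h.right ≠ p * q := hcon h.right
      -- h ^ (2 * d) = 1
      have h2d : p * q ∣ 2 * orderOf h.right := by
        rw [← hh]
        apply orderOf_dvd_of_pow_eq_one
        have hr1 : (h ^ orderOf h.right).right = 1 := by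
          have : (h ^ orderOf h.right).right = h.right ^ orderOf h.right :=
            map_pow (rightHom : V ⋊[φ] L →* L) h _
          rw [this, pow_orderOf_eq_one]
        rw [mul_comm, pow_mul]
        ext
        · rw [pow_two, mul_left, hr1, map_one, MulAut.one_apply, ← pow_two, hV]
          rfl
        · rw [pow_two, mul_right, hr1]
          simp
      have hp2 := hp.two_le
      have hq2 := hq.two_le
      -- case analysis on d
      rcases Nat.coprime_or_dvd_of_prime hp (orderOf h.right) with hc | hc
      · -- d ∣ q
        have hdq : orderOf h.right ∣ q := (Nat.Coprime.dvd_mul_left hc.symm).mp hd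
        rcases (Nat.dvd_prime hq).mp hdq with h1 | h1
        · rw [h1] at h2d
          have := Nat.le_of_dvd (by norm_num) h2d
          have : p * q ≥ 2 * 3 ∨ p * q ≥ 3 * 2 := by
            rcases Nat.lt_or_ge 2 p with h3 | h3
            · right; exact Nat.mul_le_mul h3 hq2
            · left
              have hp' : p = 2 := le_antisymm h3 hp2
              have : q ≠ 2 := fun e => hpq (hp'.trans e.symm)
              have : 3 ≤ q := by omega
              exact Nat.mul_le_mul hp2 this
          omega
        · -- d = q, so p = 2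
          rw [h1] at h2d
          have hp2' : p ∣ 2 := by
            have : p * q ∣ 2 * q := h2d
            exact Nat.dvd_of_mul_dvd_mul_right hq.pos this
          have hpe : p = 2 := (Nat.prime_dvd_prime_iff_eq hp Nat.prime_two).mp hp2'
          subst hpe
          exact no_two_mul_odd φ hfpf h q hq (fun e => hpq e.symm) hh h1
      · -- p ∣ d
        obtain ⟨e, he⟩ := hc
        have heq : e ∣ q := by
          rw [he] at hd
          exact Nat.dvd_of_mul_dvd_mul_left hp.pos hd
        rcases (Nat.dvd_prime hq).mp heq with h1 | h1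
        · -- d = p, so q = 2
          rw [h1, mul_one] at he
          rw [he] at h2d
          have hq2' : q ∣ 2 := by
            have : q * p ∣ 2 * p := by rwa [mul_comm q p]
            exact Nat.dvd_of_mul_dvd_mul_right hp.pos this
          have hqe : q = 2 := (Nat.prime_dvd_prime_iff_eq hq Nat.prime_two).mp hq2'
          subst hqe
          rw [mul_comm] at hh
          exact no_two_mul_odd φ hfpf h p hp hpq hh he
        · rw [h1] at he
          exact hdne he

/-- Two groups have the same prime graph: the same prime divisors of the order and the same pairs of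
distinct primes whose product is an element order. -/
def SamePrimeGraph (L H : Type*) [Group L] [Group H] : Prop :=
  (∀ p : ℕ, p.Prime → (p ∣ Nat.card L ↔ p ∣ Nat.card H)) ∧
  (∀ p q : ℕ, p.Prime → q.Prime → p ≠ q →
    ((∃ g : L, orderOf g = p * q) ↔ (∃ g : H, orderOf g = p * q)))

theorem exists_orderOf_congr {H H' : Type*} [Group H] [Group H'] (e : H ≃* H') (k : ℕ) :
    (∃ g : H, orderOf g = k) ↔ (∃ g : H', orderOf g = k) := by
  constructor
  · rintro ⟨g, hg⟩
    exact ⟨e g, by rw [MulEquiv.orderOf_eq, hg]⟩
  · rintro ⟨g, hg⟩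
    exact ⟨e.symm g, by rw [MulEquiv.orderOf_eq, hg]⟩

theorem SamePrimeGraph.congr_right {L H H' : Type*} [Group L] [Group H] [Group H'] (e : H ≃* H')
    (h : SamePrimeGraph L H) : SamePrimeGraph L H' := by
  refine ⟨fun p hp => ?_, fun p q hp hq hpq => ?_⟩
  · rw [h.1 p hp, Nat.card_congr e.toEquiv]
  · rw [h.2 p q hp hq hpq, exists_orderOf_congr e]

theorem SamePrimeGraph.congr_left {L L' H : Type*} [Group L] [Group L'] [Group H] (e : L ≃* L')
    (h : SamePrimeGraph L H) : SamePrimeGraph L' H := by
  refine ⟨fun p hp => ?_, fun p q hp hq hpq => ?_⟩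
  · rw [← h.1 p hp, Nat.card_congr e.toEquiv]
  · rw [← h.2 p q hp hq hpq, exists_orderOf_congr e]

theorem samePrimeGraph_semidirect {L V : Type*} [Group L] [Finite L] [CommGroup V] [Finite V]
    (φ : L →* MulAut V) (hV : ∀ v : V, v ^ 2 = 1) (h2 : 2 ∣ Nat.card L)
    (hfpf : ∀ (x : L) (r : ℕ), r.Prime → r ≠ 2 → orderOf x = r → ∀ v : V, φ x v = v → v = 1) :
    SamePrimeGraph L (V ⋊[φ] L) :=
  primeGraph_semidirect φ hV h2 hfpf

theorem finite_semidirect {L V : Type*} [Group L] [Finite L] [Group V] [Finite V]
    (φ : L →* MulAut V) : Finite (V ⋊[φ] L) :=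
  Finite.of_equiv (V × L) SemidirectProduct.equivProd.symm

end Cfsg.Agent.Lib.Helper60
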