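import Cfsg.Agent.Lib.Helper91.BG117C1
import Cfsg.Agent.Lib.Helper24.SylowInv
import Cfsg.Agent.Lib.Helper31.GenRank
import Cfsg.Agent.Lib.Helper55.Cores
import Cfsg.Agent.Lib.Helper55.InvolSylow
import Cfsg.Agent.Lib.Helper22.Fitting
import Cfsg.Agent.S1408
import Cfsg.Agent.S1409
import Cfsg.Agent.S1414
import Cfsg.Agent.S1443
import Cfsg.Agent.S1446

/-!
# Bender–Glauberman Theorem 11.7: the key step `[O_q(M), A] = 1`

For exceptional data `(M, p, A₀, A)` (B&G Hypothesis 11.1) and a prime `q ∉ σ(M)`, the subgroup `A`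
centralizes `O_q(M)`.  The proof follows the split posted on the team board: Case 1
(`Helper91.BG117.case1`), the steps (a1)–(a5) (this file), step (a6) and the ending (a7)+(a8) (taken
as hypotheses in the shapes agreed on the board).
-/

set_option autoImplicit false
set_option linter.unusedSectionVars false

namespace Cfsg.Agent.Lib.Helper60.BG117

open Subgroup Cfsg Cfsg.Agent.Lib.Helper33 Cfsg.Agent.Lib.Helper24 Cfsg.Agent.Lib.Helper32
open Cfsg.Agent.Lib.Helper24.BG Cfsg.Agent.Lib.Helper23 Cfsg.Agent.Lib.Helper63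
open Cfsg.Agent.Lib.Helper47.BG11 Cfsg.Agent.Lib.Helper91.BG117

open scoped Pointwise

universe u

variable {G : Type u} [Group G] [Finite G]

/-! ### small utilities -/

/-- every `q`-subgroup of `M` is abelian as soon as the Sylow `q`-subgroups of `M` are -/
theorem comm_of_pSubgroup {M : Subgroup G} {q : ℕ} [Fact q.Prime]
    (h115 : ∀ P : Subgroup G, IsPGroup q P → P ≤ M → ¬ q ∣ P.relIndex M →
      ∀ a ∈ P, ∀ b ∈ P, a * b = b * a)
    {S : Subgroup G} (hS : IsPGroup q S) (hSM : S ≤ M) : ∀ a ∈ S, ∀ b ∈ S, a * b = b * a := by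
  have hS' : IsPGroup q (S.subgroupOf M) := hS.comap_subtype
  obtain ⟨P, hP⟩ := hS'.exists_le_sylow
  obtain ⟨h1, h2, h3⟩ := sylow_map_facts M P
  have hSP : S ≤ (P : Subgroup M).map M.subtype := by
    intro x hx
    exact ⟨⟨x, hSM hx⟩, hP (mem_subgroupOf.mpr hx), rfl⟩
  intro a ha b hb
  exact h115 _ h2 h1 h3 a (hSP ha) b (hSP hb)

theorem card_le_of_pRankLE {M : Subgroup G} {q k : ℕ} (h : PRankLE q k M) {B : Subgroup G}
    (hBM : B ≤ M) (hB : IsElementaryAbelian q B) : Nat.card B ≤ q ^ k := by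
  have hc : Nat.card (B.subgroupOf M) = Nat.card B :=
    Nat.card_congr (subgroupOfEquivOfLe hBM).toEquiv
  rw [← hc]
  refine h (B.subgroupOf M) ⟨⟨fun a b => ?_⟩⟩ ?_
  · apply Subtype.ext
    apply Subtype.ext
    have := hB.1.is_comm.comm ⟨a.1.1, a.2⟩ ⟨b.1.1, b.2⟩
    simpa using congrArg Subtype.val this
  · intro a ha
    apply Subtype.ext
    have := hB.2 a.1 ha
    simpa using this

theorem not_pRankLE_one {M : Subgroup G} {q : ℕ} (hq : q.Prime) {B : Subgroup G}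
    (hBM : B ≤ M) (hB : IsElementaryAbelian q B) (hB2 : Nat.card B = q ^ 2) :
    ¬ PRankLE q 1 M := by
  intro h
  have := card_le_of_pRankLE h hBM hB
  rw [hB2] at this
  have := hq.one_lt
  nlinarith

lemma conj_mem_centralizer' {T : Subgroup G} {h d : G} (hh : h ∈ normalizer (T : Set G))
    (hd : d ∈ centralizer (T : Set G)) : h * d * h⁻¹ ∈ centralizer (T : Set G) := by
  rw [mem_centralizer_iff] at hd ⊢
  intro w hw
  have hw' : h⁻¹ * w * h⁻¹⁻¹ ∈ T := (mem_normalizer_iff.mp (inv_mem hh) w).mp hw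
  rw [inv_inv] at hw'
  have := hd _ hw'
  calc w * (h * d * h⁻¹) = h * ((h⁻¹ * w * h) * d) * h⁻¹ := by group
    _ = h * (d * (h⁻¹ * w * h)) * h⁻¹ := by rw [this]
    _ = h * d * h⁻¹ * w := by group

/-- `Ω₁(Z(Q))` as a subgroup of `G`. -/
def omegaZ (Q : Subgroup G) (q : ℕ) : Subgroup G where
  carrier := {x | x ∈ Q ∧ x ∈ centralizer (Q : Set G) ∧ x ^ q = 1}
  one_mem' := ⟨Q.one_mem, (centralizer _).one_mem, one_pow _⟩
  mul_mem' := by
    rintro x y ⟨hx, hxc, hxq⟩ ⟨hy, hyc, hyq⟩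
    refine ⟨Q.mul_mem hx hy, (centralizer _).mul_mem hxc hyc, ?_⟩
    have hcomm : Commute x y := mem_centralizer_iff.mp hyc x hx
    rw [hcomm.mul_pow, hxq, hyq, one_mul]
  inv_mem' := by
    rintro x ⟨hx, hxc, hxq⟩
    exact ⟨Q.inv_mem hx, (centralizer _).inv_mem hxc, by rw [inv_pow, hxq, inv_one]⟩

theorem mem_omegaZ {Q : Subgroup G} {q : ℕ} {x : G} :
    x ∈ omegaZ Q q ↔ x ∈ Q ∧ x ∈ centralizer (Q : Set G) ∧ x ^ q = 1 := Iff.rfl

theorem omegaZ_le (Q : Subgroup G) (q : ℕ) : omegaZ Q q ≤ Q := fun _ h => h.1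

theorem omegaZ_elemAb (Q : Subgroup G) (q : ℕ) : IsElementaryAbelian q (omegaZ Q q) :=
  ⟨⟨⟨fun a b => Subtype.ext (mem_centralizer_iff.mp b.2.2.1 a.1 a.2.1)⟩⟩, fun _ ha => ha.2.2⟩

theorem normalizer_le_normalizer_omegaZ (Q : Subgroup G) (q : ℕ) :
    normalizer (Q : Set G) ≤ normalizer ((omegaZ Q q : Subgroup G) : Set G) := by
  have key : ∀ h ∈ normalizer (Q : Set G), ∀ x ∈ omegaZ Q q, h * x * h⁻¹ ∈ omegaZ Q q := by
    intro h hh x hx
    exact ⟨(mem_normalizer_iff.mp hh x).mp hx.1, conj_mem_centralizer' hh hx.2.1, by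
      rw [conj_pow, hx.2.2]; group⟩
  intro h hh
  rw [mem_normalizer_iff]
  intro x
  refine ⟨fun hx => key h hh x hx, fun hx => ?_⟩
  have := key _ (inv_mem hh) _ hx
  have h2 : h⁻¹ * (h * x * h⁻¹) * h⁻¹⁻¹ = x := by group
  rwa [h2] at this

/-- `Ω₁(Z(Q)) ≠ 1` for a nontrivial `q`-group `Q` -/
theorem omegaZ_ne_bot {Q : Subgroup G} {q : ℕ} [hq : Fact q.Prime] (hQ : IsPGroup q Q)
    (hQ1 : Q ≠ ⊥) : omegaZ Q q ≠ ⊥ := by
  haveI : Nontrivial ↥Q := (Subgroup.nontrivial_iff_ne_bot Q).mpr hQ1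
  haveI : Nontrivial ↥(center ↥Q) := hQ.center_nontrivial
  have hZp : IsPGroup q ↥(center ↥Q) := hQ.to_subgroup _
  have hcard : q ∣ Nat.card ↥(center ↥Q) := by
    obtain ⟨n, hn⟩ := hZp.exists_card_eq
    rcases n with _ | n
    · exfalso
      rw [pow_zero] at hn
      exact (Finite.one_lt_card (α := ↥(center ↥Q))).ne' hn
    · rw [hn]; exact dvd_pow_self q (Nat.succ_ne_zero n)
  obtain ⟨z, hz⟩ := exists_prime_orderOf_dvd_card' q hcard
  intro hbot
  have hzmem : (z.1.1 : G) ∈ omegaZ Q q := by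
    refine ⟨z.1.2, ?_, ?_⟩
    · rw [mem_centralizer_iff]
      intro g hg
      have := (mem_center_iff.mp z.2) ⟨g, hg⟩
      simpa using congrArg Subtype.val this
    · have h1 : z ^ q = 1 := by rw [← hz]; exact pow_orderOf_eq_one z
      have := congrArg (fun t : ↥(center ↥Q) => (t.1.1 : G)) h1
      simpa using this
  rw [hbot, mem_bot] at hzmem
  have hz1 : z = 1 := Subtype.ext (Subtype.ext hzmem)
  rw [hz1, orderOf_one] at hz
  exact hq.out.one_lt.ne hz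

/-! ### subgroups of prime order -/

theorem eq_bot_or_eq_of_le_prime {q : ℕ} (hq : q.Prime) {K B₀ : Subgroup G}
    (hB₀ : Nat.card B₀ = q) (hK : K ≤ B₀) : K = ⊥ ∨ K = B₀ := by
  have h1 : Nat.card K ∣ q := hB₀ ▸ Subgroup.card_dvd_of_le hK
  rcases (Nat.dvd_prime hq).mp h1 with h | h
  · exact Or.inl (Subgroup.card_eq_one.mp h)
  · exact Or.inr (Subgroup.eq_of_le_of_card_ge hK (by rw [hB₀, h]))

theorem ne_bot_of_card_prime {q : ℕ} (hq : q.Prime) {B₀ : Subgroup G} (hB₀ : Nat.card B₀ = q) :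
    B₀ ≠ ⊥ := by
  intro h
  rw [h, Subgroup.card_bot] at hB₀
  exact hq.one_lt.ne hB₀

theorem isPGroup_of_card_prime {q : ℕ} [Fact q.Prime] {B₀ : Subgroup G} (hB₀ : Nat.card B₀ = q) :
    IsPGroup q B₀ := IsPGroup.of_card (n := 1) (by rw [hB₀, pow_one])

/-- for a subgroup `R` of prime order, `C(r) = C(R)` for `1 ≠ r ∈ R` -/
theorem mem_centralizer_of_commute {p : ℕ} [hp : Fact p.Prime] {R : Subgroup G}
    (hR : Nat.card R = p) {x u : G} (hx : x ∈ R) (hx1 : x ≠ 1) (hxu : x * u = u * x) :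
    u ∈ centralizer (R : Set G) := by
  have hz : zpowers x = R := by
    apply Subgroup.eq_of_le_of_card_ge ((zpowers_le).mpr hx)
    have h1 : Nat.card (zpowers x) ∣ p := hR ▸ Subgroup.card_dvd_of_le ((zpowers_le).mpr hx)
    rcases (Nat.dvd_prime hp.out).mp h1 with h | h
    · exfalso
      have : zpowers x = ⊥ := Subgroup.card_eq_one.mp h
      exact hx1 (zpowers_eq_bot.mp this)
    · rw [hR, h]
  rw [← hz, mem_centralizer_iff]
  intro y hy
  obtain ⟨k, rfl⟩ := mem_zpowers_iff.mp hy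
  exact ((Commute.zpow_left (show Commute x u from hxu) k)).eq

theorem le_centralizer_self_of_card_prime {p : ℕ} [hp : Fact p.Prime] {R : Subgroup G}
    (hR : Nat.card R = p) : R ≤ centralizer (R : Set G) := by
  haveI : IsCyclic ↥R := isCyclic_of_prime_card hR
  intro r hr
  rw [mem_centralizer_iff]
  intro s hs
  have hc : IsMulCommutative ↥R := inferInstance
  have := hc.is_comm.comm ⟨s, hs⟩ ⟨r, hr⟩
  simpa using congrArg Subtype.val this

/-! ### the Frobenius trick (from S1446) -/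

theorem frob_fix (hG : IsMinSimpleOddOrder G) {K R W L : Subgroup G} {p : ℕ} [hp : Fact p.Prime]
    (hL : L ≠ ⊤) (hKL : K ≤ L) (hRL : R ≤ L)
    (hK1 : K ≠ ⊥) (hRp : Nat.card R = p) (hRK : R ≤ normalizer (K : Set G))
    (hfpf : K ⊓ centralizer (R : Set G) = ⊥)
    (hW1 : W ≠ ⊥) (hWn : Group.IsNilpotent W) (hKW : K ≤ normalizer (W : Set G))
    (hRW : R ≤ normalizer (W : Set G))
    (hcop : (Nat.card ↥(K ⊔ R)).Coprime (Nat.card W))
    (hCK : W ⊓ centralizer (K : Set G) = ⊥) :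
    W ⊓ centralizer (R : Set G) ≠ ⊥ := by
  have hR1 : R ≠ ⊥ := ne_bot_of_card_prime hp.out hRp
  have hKR : K ⊓ R = ⊥ := by
    rw [eq_bot_iff, ← hfpf]
    exact inf_le_inf_left K (le_centralizer_self_of_card_prime hRp)
  have hne : K ⊔ R ≠ ⊤ := fun h => hL (top_le_iff.mp (h ▸ sup_le hKL hRL))
  have hsolv : Group.IsSolvable ↥(K ⊔ R) := isSolvable_of_ne_top hG hne
  have hodd : Odd (Nat.card ↥(K ⊔ R)) := odd_card_subgroup hG _
  have hfrob : ∀ r ∈ R, r ≠ 1 → K ⊓ centralizer ({r} : Set G) = ⊥ := by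
    intro r hr hr1
    rw [eq_bot_iff, ← hfpf]
    intro u hu
    exact ⟨hu.1, mem_centralizer_of_commute hRp hr hr1 (mem_centralizer_iff.mp hu.2 _ (Set.mem_singleton _))⟩
  have hpr : ∀ x ∈ R, x ≠ 1 → W ⊓ centralizer ({x} : Set G) = W ⊓ centralizer (R : Set G) := by
    intro x hx hx1
    apply le_antisymm
    · intro u hu
      exact ⟨hu.1, mem_centralizer_of_commute hRp hx hx1 (mem_centralizer_iff.mp hu.2 _ (Set.mem_singleton _))⟩
    · exact inf_le_inf_left W (centralizer_le (Set.singleton_subset_iff.mpr hx))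
  obtain ⟨_, hcard, _⟩ := Cfsg.Agent.S1446.result (X := G) K R W hK1 hR1 hKR hRK hfrob hsolv hodd
    hW1 hWn hKW hRW hcop hCK hpr
  intro hbot
  rw [hbot, Subgroup.card_bot, one_pow] at hcard
  exact hW1 (Subgroup.card_eq_one.mp hcard)

/-! ### `O_{p'}(M)` contains the `q`-subgroups of `M` for `q > p` (last clause of S1414) -/

theorem le_normalizer_map_subtype {M : Subgroup G} (N : Subgroup ↥M) [hN : N.Normal] :
    M ≤ normalizer ((N.map M.subtype : Subgroup G) : Set G) := by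
  have key : ∀ m ∈ M, ∀ x ∈ N.map M.subtype, m * x * m⁻¹ ∈ N.map M.subtype := by
    rintro m hm x ⟨y, hy, rfl⟩
    exact ⟨⟨m, hm⟩ * y * ⟨m, hm⟩⁻¹, hN.conj_mem y hy ⟨m, hm⟩, by simp⟩
  intro m hm
  rw [mem_normalizer_iff]
  intro x
  refine ⟨fun hx => key m hm x hx, fun hx => ?_⟩
  have := key _ (inv_mem hm) _ hx
  have h2 : m⁻¹ * (m * x * m⁻¹) * m⁻¹⁻¹ = x := by group
  rwa [h2] at this

theorem le_map_pPrimeCore (hG : IsMinSimpleOddOrder G) {M : Subgroup G} (hM : IsCoatom M)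
    {p q : ℕ} [hp : Fact p.Prime] [hq : Fact q.Prime] (hpM : p ∣ Nat.card M)
    (hpβ : p ∉ beta M) (hpq : p < q) {S : Subgroup G} (hS : IsPGroup q S) (hSM : S ≤ M) :
    S ≤ (pPrimeCore p ↥M).map M.subtype := by
  have h14 := (Cfsg.Agent.S1414.result hG M hM).2.2.2.2 p hp.out hpM hpβ
  have hq' : ¬ q ∣ (pPrimeCore p ↥M).index := fun h => absurd (h14.2.2 q hq.out h) (by omega)
  haveI := Cfsg.Agent.Lib.Helper22.pPrimeCore_normal' p ↥M
  intro x hx
  have hxM : x ∈ M := hSM hx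
  obtain ⟨k, hk⟩ := hS ⟨x, hx⟩
  have hk' : x ^ q ^ k = 1 := by simpa using congrArg Subtype.val hk
  have hord : orderOf (⟨x, hxM⟩ : ↥M) ∣ q ^ k := by
    apply orderOf_dvd_of_pow_eq_one
    exact Subtype.ext (by simpa using hk')
  obtain ⟨j, _, hj⟩ := (Nat.dvd_prime_pow hq.out).mp hord
  exact ⟨⟨x, hxM⟩, mem_of_not_dvd_index _ hq' ⟨j, hj⟩, rfl⟩

theorem card_map_pPrimeCore_coprime {M : Subgroup G} (p : ℕ) :
    (Nat.card ((pPrimeCore p ↥M).map M.subtype : Subgroup G)).Coprime p := by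
  rw [Subgroup.card_map_of_injective M.subtype_injective]
  exact Cfsg.Agent.Lib.Helper55.pPrimeCore_card_coprime p

/-! ### a noncyclic elementary abelian group acting on a group of prime order -/

theorem exists_centralizing {p : ℕ} [hp : Fact p.Prime] {A Y : Subgroup G}
    (hAc : ∀ x ∈ A, ∀ y ∈ A, x * y = y * x) (hAp : ∀ x ∈ A, x ^ p = 1)
    (hA2 : p ^ 2 ≤ Nat.card A) (hAY : A ≤ normalizer (Y : Set G)) (hY : ¬ p ∣ Nat.card Y)
    (hY1 : Y ≠ ⊥) : ∃ D : Subgroup G, D ≤ A ∧ D ≠ ⊥ ∧ Y ⊓ centralizer (D : Set G) ≠ ⊥ := by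
  by_contra hcon
  push Not at hcon
  have h := Cfsg.Agent.Lib.Helper31.gen_rank hAc hAp hAY hY 1 (by simpa using hA2)
  apply hY1
  rw [eq_bot_iff]
  refine h.trans (iSup_le ?_)
  rintro ⟨D, hDA, hDc⟩
  have hD1 : D ≠ ⊥ := by
    intro h0
    rw [h0, Subgroup.card_bot, pow_one] at hDc
    exact absurd hDc (by have := hp.out.one_lt; omega)
  exact (hcon D hDA hD1).le

/-! ### more utilities -/

theorem le_centralizer_of_inf_eq_bot {N₁ N₂ : Subgroup G} (h12 : N₁ ≤ normalizer (N₂ : Set G))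
    (h21 : N₂ ≤ normalizer (N₁ : Set G)) (hinf : N₁ ⊓ N₂ = ⊥) : N₁ ≤ centralizer (N₂ : Set G) := by
  intro a ha
  rw [mem_centralizer_iff]
  intro b hb
  have h1 : a * b * a⁻¹ * b⁻¹ ∈ N₂ :=
    N₂.mul_mem ((mem_normalizer_iff.mp (h12 ha) b).mp hb) (N₂.inv_mem hb)
  have h2 : a * b * a⁻¹ * b⁻¹ ∈ N₁ := by
    have : b * a⁻¹ * b⁻¹ ∈ N₁ := (mem_normalizer_iff.mp (h21 hb) a⁻¹).mp (N₁.inv_mem ha)
    have h3 : a * b * a⁻¹ * b⁻¹ = a * (b * a⁻¹ * b⁻¹) := by group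
    rw [h3]; exact N₁.mul_mem ha this
  have h4 : a * b * a⁻¹ * b⁻¹ = 1 := by
    have : a * b * a⁻¹ * b⁻¹ ∈ N₁ ⊓ N₂ := ⟨h2, h1⟩
    rwa [hinf, mem_bot] at this
  have : a * b = b * a := by
    calc a * b = (a * b * a⁻¹ * b⁻¹) * (b * a) := by group
      _ = b * a := by rw [h4, one_mul]
  exact this.symm

/-- two subgroups of a group `B` of order `q ^ 2`, one of order `q`, the other nontrivial, meeting
trivially, generate `B` -/
theorem sup_eq_of_card_sq {q : ℕ} (hq : q.Prime) {B B₀ K : Subgroup G} (hB : Nat.card B = q ^ 2)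
    (hB₀ : Nat.card B₀ = q) (hB₀B : B₀ ≤ B) (hKB : K ≤ B) (hK1 : K ≠ ⊥) (hinf : K ⊓ B₀ = ⊥) :
    K ⊔ B₀ = B := by
  have hle : K ⊔ B₀ ≤ B := sup_le hKB hB₀B
  apply Subgroup.eq_of_le_of_card_ge hle
  have h1 : Nat.card ↥(K ⊔ B₀) ∣ q ^ 2 := hB ▸ Subgroup.card_dvd_of_le hle
  obtain ⟨j, hj, hjc⟩ := (Nat.dvd_prime_pow hq).mp h1
  rw [hB, hjc]
  have hj2 : j = 2 := by
    by_contra hne
    have hj1 : j ≤ 1 := by omega
    have hc : Nat.card ↥(K ⊔ B₀) ≤ Nat.card B₀ := by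
      rw [hjc, hB₀]
      calc q ^ j ≤ q ^ 1 := Nat.pow_le_pow_right hq.pos hj1
        _ = q := pow_one q
    have heq : B₀ = K ⊔ B₀ := Subgroup.eq_of_le_of_card_ge le_sup_right hc
    have hKB₀ : K ≤ B₀ := heq ▸ le_sup_left
    apply hK1
    rw [eq_bot_iff, ← hinf]
    exact le_inf le_rfl hKB₀
  rw [hj2]

theorem pCoreOf_facts (M : Subgroup G) (q : ℕ) [Fact q.Prime] :
    IsPGroup q (pCoreOf q M) ∧ pCoreOf q M ≤ M ∧ M ≤ normalizer ((pCoreOf q M : Subgroup G) : Set G) := by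
  haveI := Cfsg.Agent.Lib.Helper22.pCore_normal' q ↥M
  exact ⟨(Cfsg.Agent.Lib.Helper22.pCore_isPGroup' q ↥M).map _, map_subtype_le _,
    le_normalizer_map_subtype _⟩

/-! ### the statements of the two other pieces of the split -/

/-- the statement proved by step (a6) -/
def A6Stmt (G : Type u) [Group G] : Prop :=
  ∀ {M A₀ A : Subgroup G} {p : ℕ} [Fact p.Prime], Exc M p A₀ A → ∀ {q : ℕ} [Fact q.Prime], q ≠ p →
    ∀ {B₀ B X : Subgroup G}, normalizer (B₀ : Set G) ≤ M → B₀ ≤ B → B ≤ M → IsPGroup q B →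
      A ≤ normalizer (B : Set G) → X = A ⊓ centralizer (B₀ : Set G) →
      X ≤ centralizer (B : Set G) → q ∣ Nat.card (centralizer (A : Set G)) →
      (∀ S : Subgroup G, IsPGroup q S → S ≤ M → B ≤ S →
        (∀ x ∈ S, ∀ y ∈ S, x * y = y * x) ∧ ∀ x ∈ S, x ^ q = 1 → x ∈ B) →
      normalizer (A : Set G) ≤ normalizer (X : Set G)

/-- the statement proved by the ending (a7)+(a8) -/
def EndStmt (G : Type u) [Group G] : Prop :=
  ∀ {M : Subgroup G}, IsCoatom M → ∀ {p q : ℕ} [Fact p.Prime] [Fact q.Prime], p ≠ q →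
    ¬ IsIdealPrime p G → ¬ IsIdealPrime q G → ∀ {P A X B0 : Subgroup G}, P ≤ M → IsPGroup p P →
    ¬ p ∣ P.relIndex M → A ≤ P → Nat.card A = p ^ 2 → (∀ x ∈ P, x ^ p = 1 → x ∈ A) →
    (∀ x ∈ A, x ^ p = 1) → centralizer (A : Set G) ≤ M → X ≤ A → Nat.card X = p →
    normalizer (P : Set G) ≤ normalizer (X : Set G) → IsPGroup q B0 →
    A ≤ normalizer (B0 : Set G) → B0 ≤ centralizer (X : Set G) →
    ¬ A ≤ centralizer (B0 : Set G) → False

/-! ### exceptional data for `q` from a normal subgroup of order `q` -/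

theorem exists_exc (hG : IsMinSimpleOddOrder G) {M : Subgroup G} (hM : IsCoatom M)
    (hασ : alpha M ⊆ sigma M) {q : ℕ} [hq : Fact q.Prime] (hqσ : q ∉ sigma M)
    {B₀ : Subgroup G} (hB₀M : B₀ ≤ M) (hB₀n : M ≤ normalizer (B₀ : Set G))
    (hB₀c : Nat.card B₀ = q) :
    ¬ IsIdealPrime q G ∧ ∃ B₂ : Subgroup G, Exc M q B₀ B₂ := by
  have hB₀1 : B₀ ≠ ⊥ := ne_bot_of_card_prime hq.out hB₀c
  have hN : normalizer (B₀ : Set G) = M := normalizer_eq_of_coatom hG hM hB₀M hB₀1 hB₀n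
  have hr2q : PRankLE q 2 M := by
    by_contra h; exact hqσ (hασ ⟨hq.out, h⟩)
  obtain ⟨⟨_, hr1q⟩, hqi, B₂, hB₂e, hB₂c, hB₀B₂⟩ :=
    Cfsg.Agent.S1409.result hG M hM q hqσ B₀ hB₀c hN.le
  have hmaxq := (Cfsg.Agent.S1408.result hG M hM q hqσ hr2q hr1q).2
  have hB₂M : B₂ ≤ M := by
    intro x hx
    apply hN.le
    apply centralizer_le_normalizer
    rw [mem_centralizer_iff]
    intro b hb
    have := hB₂e.1.is_comm.comm ⟨b, hB₀B₂ hb⟩ ⟨x, hx⟩
    simpa using congrArg Subtype.val this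
  exact ⟨hqi, B₂, ⟨hM, hqσ, hB₂M, hB₂e, hB₂c, hB₀B₂, hB₀c, hN.le, hmaxq B₂ hB₂M hB₂e hB₂c⟩⟩

/-! ### Case 2: steps (a1)–(a5) -/

theorem case2 (hG : IsMinSimpleOddOrder G) (h4 : Stmt1404 G) (h10 : Stmt1410 G)
    (hσ : ∀ H : Subgroup G, IsCoatom H → SigmaHallIn H) (hA6 : A6Stmt G) (hEnd : EndStmt G)
    {M A₀ A : Subgroup G} {p : ℕ} [hp : Fact p.Prime] (e : Exc M p A₀ A)
    (hασ : alpha M ⊆ sigma M)
    (h115 : ∀ {q : ℕ} [Fact q.Prime] {B₀ B : Subgroup G}, Exc M q B₀ B → ∀ P : Subgroup G,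
      IsPGroup q P → P ≤ M → ¬ q ∣ P.relIndex M → ∀ a ∈ P, ∀ b ∈ P, a * b = b * a)
    (hfpf : ∃ A₁ A₂ : Subgroup G, A₁ ≤ A ∧ A₂ ≤ A ∧ A₁ ≠ A₂ ∧ Nat.card A₁ = p ∧ Nat.card A₂ = p ∧
      sigmaCore M ⊓ centralizer (A₁ : Set G) = ⊥ ∧ sigmaCore M ⊓ centralizer (A₂ : Set G) = ⊥)
    (hσne : sigmaCore M ≠ ⊥)
    {q : ℕ} [hq : Fact q.Prime] (hqp : q ≠ p) (hqi : ¬ IsIdealPrime q G)
    {B₀ B₂ : Subgroup G} (eq₂ : Exc M q B₀ B₂) (hB₀n : M ≤ normalizer (B₀ : Set G))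
    (hnc : ¬ A ≤ centralizer (B₀ : Set G)) : False := by
  have hM := e.coatom
  have hMtop : M ≠ ⊤ := hM.1
  have hqσ := eq₂.notSigma
  have hB₀c := eq₂.card₀
  have hB₀M : B₀ ≤ M := eq₂.le₀.trans eq₂.le
  have hB₀1 : B₀ ≠ ⊥ := ne_bot_of_card_prime hq.out hB₀c
  have hB₀q : IsPGroup q B₀ := isPGroup_of_card_prime hB₀c
  have hN : normalizer (B₀ : Set G) ≤ M := eq₂.norm
  have hAB₀ : A ≤ normalizer (B₀ : Set G) := e.le.trans hB₀n
  -- ranks and ideal primes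
  have hr2q : PRankLE q 2 M := by
    by_contra h; exact hqσ (hασ ⟨hq.out, h⟩)
  have hr1q : ¬ PRankLE q 1 M := not_pRankLE_one hq.out eq₂.le eq₂.elem eq₂.card
  have hr2p : PRankLE p 2 M := by
    by_contra h; exact e.notSigma (hασ ⟨hp.out, h⟩)
  have hr1p : ¬ PRankLE p 1 M := not_pRankLE_one hp.out e.le e.elem e.card
  have hpi : ¬ IsIdealPrime p G := (Cfsg.Agent.S1408.result hG M hM p e.notSigma hr2p hr1p).1
  have hmaxq := (Cfsg.Agent.S1408.result hG M hM q hqσ hr2q hr1q).2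
  have hqM : q ∣ Nat.card M := hB₀c ▸ Subgroup.card_dvd_of_le hB₀M
  have hpβ : p ∉ beta M := fun h => hpi h.2
  have hqβ : q ∉ beta M := fun h => hqi h.2
  -- p < q
  have hpq : p < q := by
    rcases lt_trichotomy p q with h | h | h
    · exact h
    · exact absurd h.symm hqp
    · exfalso
      apply hnc
      have hAL : A ≤ (pPrimeCore q ↥M).map M.subtype :=
        le_map_pPrimeCore hG hM hqM hqβ h e.isPGroup e.le
      haveI := Cfsg.Agent.Lib.Helper22.pPrimeCore_normal' q ↥M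
      have hLn : M ≤ normalizer (((pPrimeCore q ↥M).map M.subtype : Subgroup G) : Set G) :=
        le_normalizer_map_subtype _
      have hLM : (pPrimeCore q ↥M).map M.subtype ≤ M := map_subtype_le _
      have hinf : (pPrimeCore q ↥M).map M.subtype ⊓ B₀ = ⊥ := by
        refine (Subgroup.disjoint_of_coprime_natCard ?_).eq_bot
        rw [hB₀c]
        exact card_map_pPrimeCore_coprime q
      exact hAL.trans (le_centralizer_of_inf_eq_bot (hLM.trans hB₀n) (hB₀M.trans hLn) hinf)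
  -- the `A`-invariant Sylow `q`-subgroup
  obtain ⟨K, hKM, hKn, hqK, hcopAK⟩ : ∃ K : Subgroup G, K ≤ M ∧ M ≤ normalizer (K : Set G) ∧
      (∀ {T : Subgroup G}, IsPGroup q T → T ≤ M → T ≤ K) ∧
      (Nat.card A).Coprime (Nat.card K) := by
    haveI := Cfsg.Agent.Lib.Helper22.pPrimeCore_normal' p ↥M
    refine ⟨(pPrimeCore p ↥M).map M.subtype, map_subtype_le _, le_normalizer_map_subtype _,
      fun hT hTM => le_map_pPrimeCore hG hM e.dvd_card hpβ hpq hT hTM, ?_⟩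
    rw [e.card]
    exact Nat.Coprime.pow_left 2 (card_map_pPrimeCore_coprime p).symm
  have hB₂q : IsPGroup q B₂ := BG10.isPGroup_of_elemAb eq₂.elem
  obtain ⟨S, hSK, hSq, hB₀S, hAS, k, hkK, hkS⟩ : ∃ S : Subgroup G, S ≤ K ∧ IsPGroup q S ∧ B₀ ≤ S ∧
      A ≤ normalizer (S : Set G) ∧ ∃ k ∈ K, cj k B₂ ≤ S := by
    obtain ⟨S', hB₀S, hAS⟩ := invariant_pSubgroup_le_sylow (p := q) A K (e.le.trans hKn) hcopAK
      (Or.inl (e.solvable hG)) B₀ (hqK hB₀q hB₀M) hB₀q hAB₀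
    obtain ⟨hSK, hSq, -⟩ := sylow_map_facts K S'
    refine ⟨_, hSK, hSq, hB₀S, hAS, ?_⟩
    have hB₂K : B₂ ≤ K := hqK hB₂q eq₂.le
    have h1 : IsPGroup q (B₂.subgroupOf K) := hB₂q.comap_subtype
    obtain ⟨P'', hP''⟩ := h1.exists_le_sylow
    obtain ⟨k, hk⟩ := MulAction.exists_smul_eq ↥K P'' S'
    refine ⟨k.1, k.2, ?_⟩
    rintro _ ⟨x, hx, rfl⟩
    have hxP : (⟨x, hB₂K hx⟩ : ↥K) ∈ (P'' : Subgroup ↥K) := hP'' (mem_subgroupOf.mpr hx)
    have h2 : MulAut.conj k • (⟨x, hB₂K hx⟩ : ↥K) ∈ MulAut.conj k • (P'' : Subgroup ↥K) :=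
      Subgroup.smul_mem_pointwise_smul _ _ _ hxP
    rw [← Sylow.coe_subgroup_smul, hk] at h2
    refine ⟨_, h2, ?_⟩
    simp [MulAut.smul_def]
  have hSM : S ≤ M := hSK.trans hKM
  have hkM : k ∈ M := hKM hkK
  have hBe : IsElementaryAbelian q (cj k B₂) := by
    refine ⟨⟨⟨?_⟩⟩, ?_⟩
    · rintro ⟨_, x, hx, rfl⟩ ⟨_, y, hy, rfl⟩
      apply Subtype.ext
      have := eq₂.elem.1.is_comm.comm ⟨x, hx⟩ ⟨y, hy⟩
      have hxy : x * y = y * x := by simpa using congrArg Subtype.val this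
      show (MulAut.conj k).toMonoidHom x * (MulAut.conj k).toMonoidHom y =
        (MulAut.conj k).toMonoidHom y * (MulAut.conj k).toMonoidHom x
      rw [← map_mul, ← map_mul, hxy]
    · rintro _ ⟨x, hx, rfl⟩
      rw [← map_pow, eq₂.elem.2 x hx, map_one]
  have hBc : Nat.card (cj k B₂) = q ^ 2 := by rw [card_cj, eq₂.card]
  have hBM : cj k B₂ ≤ M := hkS.trans hSM
  have hB₀B : B₀ ≤ cj k B₂ := by
    have h1 : cj k B₀ = B₀ := cj_eq_self_iff.mpr (hB₀n hkM)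
    rw [← h1]; exact cj_mono eq₂.le₀
  have hBmax := hmaxq (cj k B₂) hBM hBe hBc
  have eq : Exc M q B₀ (cj k B₂) := ⟨hM, hqσ, hBM, hBe, hBc, hB₀B, hB₀c, hN, hBmax⟩
  have hcommq : ∀ {T : Subgroup G}, IsPGroup q T → T ≤ M → ∀ a ∈ T, ∀ b ∈ T, a * b = b * a :=
    fun hT hTM => comm_of_pSubgroup (h115 eq) hT hTM
  have hΩ : ∀ T : Subgroup G, IsPGroup q T → T ≤ M → cj k B₂ ≤ T → ∀ x ∈ T, x ^ q = 1 →
      x ∈ cj k B₂ := by
    intro T hT hTM hBT x hx hxq
    refine mem_of_maximal hBe hBmax ?_ hxq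
    rw [mem_centralizer_iff]
    intro b hb
    exact hcommq hT hTM b (hBT hb) x hx
  have hAB : A ≤ normalizer ((cj k B₂ : Subgroup G) : Set G) := by
    have key : ∀ a ∈ A, ∀ x ∈ cj k B₂, a * x * a⁻¹ ∈ cj k B₂ := by
      intro a ha x hx
      have h1 : a * x * a⁻¹ ∈ S := (mem_normalizer_iff.mp (hAS ha) x).mp (hkS hx)
      exact hΩ _ hSq hSM hkS _ h1 (by rw [conj_pow, hBe.2 x hx]; group)
    intro a ha
    rw [mem_normalizer_iff]
    intro x
    refine ⟨key a ha x, fun hx => ?_⟩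
    have := key _ (inv_mem ha) _ hx
    have h2 : a⁻¹ * (a * x * a⁻¹) * a⁻¹⁻¹ = x := by group
    rwa [h2] at this
  -- notation
  obtain ⟨B, hBdef⟩ : ∃ B : Subgroup G, B = cj k B₂ := ⟨_, rfl⟩
  rw [← hBdef] at hkS hBe hBc hBM hB₀B hBmax eq hΩ hAB
  have hBq : IsPGroup q B := BG10.isPGroup_of_elemAb hBe
  have hB1 : B ≠ ⊥ := fun h => hB₀1 (eq_bot_iff.mpr (h ▸ hB₀B))
  -- the action on `W = M_σ`
  obtain ⟨W, hWdef⟩ : ∃ W : Subgroup G, W = sigmaCore M := ⟨_, rfl⟩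
  have hWn : Group.IsNilpotent ↥W := hWdef ▸ e.thm_11_3 hG h4 h10 (hσ M hM)
  have hWB : W ⊓ centralizer (B : Set G) = ⊥ := hWdef ▸ eq.cor_11_6_b hG h10 (hσ M hM)
  have hMW : M ≤ normalizer (W : Set G) := hWdef ▸ BG.le_normalizer_sigmaCore M
  have hWM : W ≤ M := hWdef ▸ sigmaCore_le M
  have hW1 : W ≠ ⊥ := hWdef ▸ hσne
  have hnotdvd : ∀ r : ℕ, r.Prime → r ∉ sigma M → ¬ r ∣ Nat.card W := by
    intro r hr hrσ hd
    exact hrσ (mem_sigma_of_dvd_card_le (hWdef ▸ le_rfl : W ≤ sigmaCore M) hr hd)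
  have hWB₀ : W ≤ centralizer (B₀ : Set G) := by
    apply le_centralizer_of_inf_eq_bot (hWM.trans hB₀n) (hB₀M.trans hMW)
    refine (Subgroup.disjoint_of_coprime_natCard ?_).eq_bot
    rw [hB₀c]
    exact ((Nat.Prime.coprime_iff_not_dvd hq.out).mpr (hnotdvd q hq.out hqσ)).symm
  have hfixpt : ∀ Kq : Subgroup G, Kq ≤ B → Kq ⊓ B₀ = ⊥ → Kq ≠ ⊥ →
      W ⊓ centralizer (Kq : Set G) = ⊥ := by
    intro Kq hKB hK0 hK1
    have hsup := sup_eq_of_card_sq hq.out hBc hB₀c hB₀B hKB hK1 hK0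
    rw [eq_bot_iff, ← hWB]
    intro w hw
    refine ⟨hw.1, ?_⟩
    have h1 : Kq ≤ centralizer (zpowers w : Set G) :=
      le_centralizer_iff.mp ((zpowers_le).mpr hw.2)
    have h2 : B₀ ≤ centralizer (zpowers w : Set G) :=
      le_centralizer_iff.mp ((zpowers_le).mpr (hWB₀ hw.1))
    have h3 : B ≤ centralizer (zpowers w : Set G) := hsup ▸ sup_le h1 h2
    exact le_centralizer_iff.mp h3 (mem_zpowers w)
  have hcoprime : ∀ Kq Y : Subgroup G, Kq ≤ B → Y ≤ A →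
      (Nat.card ↥(Kq ⊔ Y)).Coprime (Nat.card W) := by
    intro Kq Y hKB hYA
    have h1 : Nat.card ↥(Kq ⊔ Y) ∣ Nat.card ↥(A ⊔ B) :=
      Subgroup.card_dvd_of_le (sup_le (hKB.trans le_sup_right) (hYA.trans le_sup_left))
    have h2 : Nat.card ↥(A ⊔ B) ∣ Nat.card A * Nat.card B :=
      Cfsg.Agent.Lib.Helper55.card_sup_dvd_mul_of_le_normalizer A B hAB
    refine Nat.Coprime.coprime_dvd_left (h1.trans h2) ?_
    rw [e.card, hBc]
    exact Nat.Coprime.mul_left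
      (Nat.Coprime.pow_left 2 ((Nat.Prime.coprime_iff_not_dvd hp.out).mpr
        (hnotdvd p hp.out e.notSigma)))
      (Nat.Coprime.pow_left 2 ((Nat.Prime.coprime_iff_not_dvd hq.out).mpr
        (hnotdvd q hq.out hqσ)))
  obtain ⟨A₁, A₂, hA₁, hA₂, hne12, hc₁, hc₂, hf₁, hf₂⟩ := hfpf
  rw [← hWdef] at hf₁ hf₂
  have hAcent : ∀ Y : Subgroup G, Y ≤ A → A ≤ normalizer ((centralizer (Y : Set G) : Subgroup G) : Set G) := by
    intro Y hYA
    have : A ≤ centralizer (Y : Set G) := e.le_cent.trans (centralizer_le (SetLike.coe_subset_coe.mpr hYA))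
    exact this.trans le_normalizer
  -- step (i)
  have step_i : ∀ Y : Subgroup G, Y ≤ A → Nat.card Y = p → W ⊓ centralizer (Y : Set G) = ⊥ →
      B ⊓ centralizer (Y : Set G) ≠ ⊥ := by
    intro Y hYA hYc hYf h
    exact frob_fix hG hMtop hBM (hYA.trans e.le) hB1 hYc (hYA.trans hAB) h hW1 hWn
      (hBM.trans hMW) ((hYA.trans e.le).trans hMW) (hcoprime B Y le_rfl hYA) hWB hYf
  -- step (ii)
  have step_ii : ∀ Y Y' : Subgroup G, Y ≤ A → Y' ≤ A → Nat.card Y' = p →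
      W ⊓ centralizer (Y' : Set G) = ⊥ →
      (B ⊓ centralizer (Y : Set G)) ⊓ centralizer (Y' : Set G) = ⊥ →
      (B ⊓ centralizer (Y : Set G)) ⊓ B₀ = ⊥ → B ⊓ centralizer (Y : Set G) ≠ ⊥ → False := by
    intro Y Y' hYA hY'A hY'c hY'f hfp h0 h1
    have hn : Y' ≤ normalizer ((B ⊓ centralizer (Y : Set G) : Subgroup G) : Set G) :=
      hY'A.trans (le_normalizer_inf hAB (hAcent Y hYA))
    exact frob_fix hG hMtop (inf_le_left.trans hBM) (hY'A.trans e.le) h1 hY'c hn hfp hW1 hWn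
      ((inf_le_left.trans hBM).trans hMW) ((hY'A.trans e.le).trans hMW)
      (hcoprime _ Y' inf_le_left hY'A) (hfixpt _ inf_le_left h0 h1) hY'f
  have hsupA : A₁ ⊔ A₂ = A := by
    have hinf : A₁ ⊓ A₂ = ⊥ := by
      rcases eq_bot_or_eq_of_le_prime hp.out hc₂ (inf_le_right : A₁ ⊓ A₂ ≤ A₂) with h | h
      · exact h
      · exfalso
        apply hne12
        have h21 : A₂ ≤ A₁ := h ▸ inf_le_left
        exact (Subgroup.eq_of_le_of_card_ge h21 (by rw [hc₁, hc₂])).symm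
    exact sup_eq_of_card_sq hp.out e.card hc₂ hA₂ hA₁ (ne_bot_of_card_prime hp.out hc₁) hinf
  have hfix : B ⊓ centralizer (A : Set G) ≠ ⊥ := by
    intro hbot
    have h12 : (B ⊓ centralizer (A₁ : Set G)) ⊓ centralizer (A₂ : Set G) = ⊥ := by
      rw [eq_bot_iff, ← hbot]
      intro x hx
      refine ⟨hx.1.1, ?_⟩
      have h1 : A₁ ≤ centralizer (zpowers x : Set G) :=
        le_centralizer_iff.mp ((zpowers_le).mpr hx.1.2)
      have h2 : A₂ ≤ centralizer (zpowers x : Set G) :=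
        le_centralizer_iff.mp ((zpowers_le).mpr hx.2)
      have h3 : A ≤ centralizer (zpowers x : Set G) := hsupA ▸ sup_le h1 h2
      exact le_centralizer_iff.mp h3 (mem_zpowers x)
    have h21 : (B ⊓ centralizer (A₂ : Set G)) ⊓ centralizer (A₁ : Set G) = ⊥ := by
      rw [eq_bot_iff, ← h12]
      intro x hx
      exact ⟨⟨hx.1.1, hx.2⟩, hx.1.2⟩
    by_cases hL : (B ⊓ centralizer (A₁ : Set G)) ⊓ B₀ = ⊥
    · exact step_ii A₁ A₂ hA₁ hA₂ hc₂ hf₂ h12 hL (step_i A₁ hA₁ hc₁ hf₁)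
    · have hB₀L : B₀ ≤ B ⊓ centralizer (A₁ : Set G) := by
        rcases eq_bot_or_eq_of_le_prime hq.out hB₀c
          (inf_le_right : (B ⊓ centralizer (A₁ : Set G)) ⊓ B₀ ≤ B₀) with h | h
        · exact absurd h hL
        · exact h ▸ inf_le_left
      have hL2 : (B ⊓ centralizer (A₂ : Set G)) ⊓ B₀ = ⊥ := by
        rw [eq_bot_iff, ← h21]
        intro x hx
        exact ⟨hx.1, (hB₀L hx.2).2⟩
      exact step_ii A₂ A₁ hA₂ hA₁ hc₁ hf₁ h21 hL2 (step_i A₂ hA₂ hc₂ hf₂)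
  -- `q ∣ |C_G(A)|`
  have hqC : q ∣ Nat.card (centralizer (A : Set G)) := by
    have h1 : Nat.card ↥(B ⊓ centralizer (A : Set G)) ∣ Nat.card (centralizer (A : Set G)) :=
      Subgroup.card_dvd_of_le inf_le_right
    have h2 : Nat.card ↥(B ⊓ centralizer (A : Set G)) ∣ q ^ 2 :=
      hBc ▸ Subgroup.card_dvd_of_le inf_le_left
    obtain ⟨j, -, hjc⟩ := (Nat.dvd_prime_pow hq.out).mp h2
    rcases j with _ | j
    · exfalso
      exact hfix (Subgroup.card_eq_one.mp (by simpa using hjc))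
    · exact dvd_trans (hjc ▸ dvd_pow_self q (Nat.succ_ne_zero j)) h1
  -- the subgroup `X`
  have hB'B₀ : (B ⊓ centralizer (A : Set G)) ⊓ B₀ = ⊥ := by
    rcases eq_bot_or_eq_of_le_prime hq.out hB₀c
      (inf_le_right : (B ⊓ centralizer (A : Set G)) ⊓ B₀ ≤ B₀) with h | h
    · exact h
    · exfalso
      apply hnc
      have : B₀ ≤ centralizer (A : Set G) := (h ▸ inf_le_left : B₀ ≤ B ⊓ centralizer (A : Set G)).trans inf_le_right
      exact le_centralizer_iff.mp this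
  have hsupB : (B ⊓ centralizer (A : Set G)) ⊔ B₀ = B :=
    sup_eq_of_card_sq hq.out hBc hB₀c hB₀B inf_le_left hfix hB'B₀
  have hXB : A ⊓ centralizer (B₀ : Set G) ≤ centralizer (B : Set G) := by
    rw [le_centralizer_iff, ← hsupB]
    apply sup_le
    · exact inf_le_right.trans (centralizer_le (SetLike.coe_subset_coe.mpr inf_le_left))
    · exact le_centralizer_iff.mp inf_le_right
  have hX1 : A ⊓ centralizer (B₀ : Set G) ≠ ⊥ := by
    have hpq' : ¬ p ∣ Nat.card B₀ := by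
      rw [hB₀c]
      intro h
      exact hqp ((Nat.prime_dvd_prime_iff_eq hp.out hq.out).mp h).symm
    obtain ⟨D, hDA, hD1, hD⟩ := exists_centralizing e.comm e.elem.2 (e.card ▸ le_rfl) hAB₀ hpq' hB₀1
    rcases eq_bot_or_eq_of_le_prime hq.out hB₀c
      (inf_le_left : B₀ ⊓ centralizer (D : Set G) ≤ B₀) with h | h
    · exact absurd h hD
    · have h3 : B₀ ≤ centralizer (D : Set G) := h ▸ inf_le_right
      have hDX : D ≤ A ⊓ centralizer (B₀ : Set G) := le_inf hDA (le_centralizer_iff.mp h3)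
      intro hX
      exact hD1 (eq_bot_iff.mpr (hX ▸ hDX))
  have hXc : Nat.card ↥(A ⊓ centralizer (B₀ : Set G)) = p := by
    have h1 : Nat.card ↥(A ⊓ centralizer (B₀ : Set G)) ∣ p ^ 2 :=
      e.card ▸ Subgroup.card_dvd_of_le inf_le_left
    obtain ⟨j, hj, hjc⟩ := (Nat.dvd_prime_pow hp.out).mp h1
    interval_cases j
    · exfalso
      exact hX1 (Subgroup.card_eq_one.mp (by simpa using hjc))
    · simpa using hjc
    · exfalso
      apply hnc
      have hXA : A ⊓ centralizer (B₀ : Set G) = A :=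
        Subgroup.eq_of_le_of_card_ge inf_le_left (by rw [hjc, e.card])
      exact hXA ▸ inf_le_right
  -- step (a6)
  have hNAX : normalizer (A : Set G) ≤ normalizer ((A ⊓ centralizer (B₀ : Set G) : Subgroup G) : Set G) :=
    hA6 e hqp hN hB₀B hBM hBq hAB rfl hXB hqC
      (fun T hT hTM hBT => ⟨hcommq hT hTM, hΩ T hT hTM hBT⟩)
  -- the ending
  obtain ⟨P, hPp, hPM, hPi, hAP, -⟩ := e.exists_sylow
  have hPcomm := h115 e P hPp hPM hPi
  have hAΩ : ∀ x ∈ P, x ^ p = 1 → x ∈ A := by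
    intro x hx hxp
    refine mem_of_maximal e.elem e.maxA ?_ hxp
    rw [mem_centralizer_iff]
    intro a ha
    exact hPcomm a (hAP ha) x hx
  have hNPA : normalizer (P : Set G) ≤ normalizer (A : Set G) := by
    have key : ∀ n ∈ normalizer (P : Set G), ∀ x ∈ A, n * x * n⁻¹ ∈ A := by
      intro n hn x hx
      exact hAΩ _ ((mem_normalizer_iff.mp hn x).mp (hAP hx)) (by rw [conj_pow, e.elem.2 x hx]; group)
    intro n hn
    rw [mem_normalizer_iff]
    intro x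
    refine ⟨key n hn x, fun hx => ?_⟩
    have := key _ (inv_mem hn) _ hx
    have h2 : n⁻¹ * (n * x * n⁻¹) * n⁻¹⁻¹ = x := by group
    rwa [h2] at this
  exact hEnd hM (Ne.symm hqp) hpi hqi hPM hPp hPi hAP e.card hAΩ e.elem.2 e.cent_le inf_le_left hXc
    (hNPA.trans hNAX) hB₀q hAB₀ (le_centralizer_iff.mp inf_le_right) hnc

/-! ### the key step `(*)` of B&G Theorem 11.7 -/

/-- **Key step of B&G 11.7**: for exceptional data `(M, p, A₀, A)`, the subgroup `A` centralizes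
`O_q(M)` for every prime `q ∉ σ(M)`.  The inputs `h115` (B&G 11.5) and `hfpf` (B&G 11.6(c), with
two subgroups) are taken as hypotheses, as are the two other pieces `A6Stmt`, `EndStmt` of the
split. -/
theorem star (hG : IsMinSimpleOddOrder G) (h4 : Stmt1404 G) (h10 : Stmt1410 G)
    (hσ : ∀ H : Subgroup G, IsCoatom H → SigmaHallIn H) (hA6 : A6Stmt G) (hEnd : EndStmt G)
    {M A₀ A : Subgroup G} {p : ℕ} [hp : Fact p.Prime] (e : Exc M p A₀ A)
    (hασ : alpha M ⊆ sigma M)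
    (h115 : ∀ {q : ℕ} [Fact q.Prime] {B₀ B : Subgroup G}, Exc M q B₀ B → ∀ P : Subgroup G,
      IsPGroup q P → P ≤ M → ¬ q ∣ P.relIndex M → ∀ a ∈ P, ∀ b ∈ P, a * b = b * a)
    (hfpf : ∃ A₁ A₂ : Subgroup G, A₁ ≤ A ∧ A₂ ≤ A ∧ A₁ ≠ A₂ ∧ Nat.card A₁ = p ∧ Nat.card A₂ = p ∧
      sigmaCore M ⊓ centralizer (A₁ : Set G) = ⊥ ∧ sigmaCore M ⊓ centralizer (A₂ : Set G) = ⊥)
    (hσne : sigmaCore M ≠ ⊥) :
    ∀ q : ℕ, q.Prime → q ∉ sigma M → A ≤ centralizer ((pCoreOf q M : Subgroup G) : Set G) := by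
  intro q hq hqσ
  haveI : Fact q.Prime := ⟨hq⟩
  obtain ⟨hQq, hQM, hQn⟩ := pCoreOf_facts M q
  have hM := e.coatom
  by_cases hqp : q = p
  · have hAq : IsPGroup q A := hqp ▸ e.isPGroup
    have hsup : IsPGroup q ↥(A ⊔ pCoreOf q M) :=
      IsPGroup.to_sup_of_normal_right' hAq hQq (e.le.trans hQn)
    have h115' : ∀ P : Subgroup G, IsPGroup q P → P ≤ M → ¬ q ∣ P.relIndex M →
        ∀ a ∈ P, ∀ b ∈ P, a * b = b * a := by
      subst hqp
      exact h115 e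
    have hcomm := comm_of_pSubgroup h115' hsup (sup_le e.le hQM)
    intro a ha
    rw [mem_centralizer_iff]
    intro b hb
    exact hcomm b ((le_sup_right : pCoreOf q M ≤ A ⊔ pCoreOf q M) hb) a
      ((le_sup_left : A ≤ A ⊔ pCoreOf q M) ha)
  · by_contra hnc
    have hQ1 : pCoreOf q M ≠ ⊥ := by
      intro h
      apply hnc
      rw [h]
      intro a _
      rw [mem_centralizer_iff]
      intro b hb
      rw [SetLike.mem_coe, mem_bot] at hb
      rw [hb, one_mul, mul_one]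
    have hr2q : PRankLE q 2 M := by
      by_contra h; exact hqσ (hασ ⟨hq, h⟩)
    have hZe := omegaZ_elemAb (pCoreOf q M) q
    have hZ1 := omegaZ_ne_bot hQq hQ1
    have hZM : omegaZ (pCoreOf q M) q ≤ M := (omegaZ_le _ _).trans hQM
    have hZn : M ≤ normalizer ((omegaZ (pCoreOf q M) q : Subgroup G) : Set G) :=
      hQn.trans (normalizer_le_normalizer_omegaZ _ _)
    have hZle := card_le_of_pRankLE hr2q hZM hZe
    have hZp : IsPGroup q (omegaZ (pCoreOf q M) q) := BG10.isPGroup_of_elemAb hZe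
    obtain ⟨j, hj⟩ := hZp.exists_card_eq
    have hj0 : j ≠ 0 := by
      rintro rfl
      exact hZ1 (Subgroup.card_eq_one.mp (by simpa using hj))
    have hj2 : j ≤ 2 := by
      rw [hj] at hZle
      exact (Nat.pow_le_pow_iff_right hq.one_lt).mp hZle
    have hj12 : j = 1 ∨ j = 2 := by omega
    rcases hj12 with rfl | rfl
    · -- `|Ω₁(Z(Q))| = q`: Case 2
      have hZc : Nat.card (omegaZ (pCoreOf q M) q) = q := by simpa using hj
      obtain ⟨hqi, B₂, eq₂⟩ := exists_exc hG hM hασ hqσ hZM hZn hZc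
      have hQcomm := comm_of_pSubgroup (h115 eq₂) hQq hQM
      by_cases hAZ : A ≤ centralizer ((omegaZ (pCoreOf q M) q : Subgroup G) : Set G)
      · apply hnc
        have hq2 : q ≠ 2 := by
          rintro rfl
          have h2 : 2 ∣ Nat.card G :=
            dvd_trans (hZc ▸ Subgroup.card_dvd_of_le hZM) (Subgroup.card_subgroup_dvd_card M)
          obtain ⟨c, hc⟩ := h2
          obtain ⟨d, hd⟩ := hG.1
          omega
        have hcop : (Nat.card A).Coprime q := by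
          rw [e.card]
          exact Nat.Coprime.pow_left 2 ((Nat.coprime_primes hp.out hq).mpr (Ne.symm hqp))
        refine Cfsg.Agent.S1443.result q hq2 (pCoreOf q M) ⊥ A hQq bot_le
          ⟨⟨⟨fun a b => Subsingleton.elim _ _⟩⟩, fun a ha => by rw [mem_bot.mp ha, one_pow]⟩
          (e.le.trans hQn) hcop ?_
        intro x hx hxo
        have hxZ : x ∈ omegaZ (pCoreOf q M) q := by
          refine ⟨hx.1, ?_, by rw [← hxo]; exact pow_orderOf_eq_one x⟩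
          rw [mem_centralizer_iff]
          intro g hg
          exact hQcomm g hg x hx.1
        exact hAZ.trans (centralizer_le (Set.singleton_subset_iff.mpr hxZ))
      · exact case2 hG h4 h10 hσ hA6 hEnd e hασ h115 hfpf hσne hqp hqi eq₂ hZn hAZ
    · -- `|Ω₁(Z(Q))| = q²`: Case 1
      have hr1q := not_pRankLE_one hq hZM hZe hj
      have hmax := (Cfsg.Agent.S1408.result hG M hM q hqσ hr2q hr1q).2 _ hZM hZe hj
      exact case1 hG h10 hM (hσ M hM) hσne hqσ hZM hZn hZe hj hmax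

end Cfsg.Agent.Lib.Helper60.BG117
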