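import Mathlib
import Cfsg.Agent.Lib.Helper91.BG152Defs
import Cfsg.Agent.Lib.Helper60.BG152B7core
import Cfsg.Agent.Lib.Helper81.BG152B6
import Cfsg.Agent.Lib.Helper62.BG152B3

/-! # BG 15.2 (helper91 hive), leaf B7: `Q C_M(Q)` is nilpotent -/

set_option autoImplicit false

namespace Cfsg.Agent.Lib.Helper91.BG152

open Subgroup

universe u
variable {M : Type u} [Group M] [Finite M] {H K Q : Subgroup M} {q : ℕ}

/-- B7. `C := C_M(Q) ≤ H`, `C ⊓ Q = Z(Q) ≤ Z(C)` and `C/(C ⊓ Q) ↪ H/Q` nilpotent, so `C` is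
nilpotent; `Q` and `C` are normal nilpotent, so `Q ⊔ C ≤ fittingSubgroup M` is nilpotent. -/
theorem nilpotent_Q_sup_centralizer [H.Normal] [Q.Normal] (h : CfgB H K Q q) :
    Group.IsNilpotent ↥(Q ⊔ centralizer (Q : Set M)) :=
  B7_core h.qp h.pQ (centralizer_Q_le h) (map_nilpotent h)

end Cfsg.Agent.Lib.Helper91.BG152
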