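import Mathlib
import Cfsg.Agent.S1400
import Cfsg.Agent.S1401
import Cfsg.Agent.S1452
import Cfsg.Agent.Lib.Helper23.FitLocal
import Cfsg.Agent.Lib.Helper23.LargeFitD
import Cfsg.Agent.S1399
import Cfsg.Agent.Lib.Helper64.BG9
import Cfsg.Agent.Lib.Helper52.NormalRankTwo
import Cfsg.Agent.Lib.Helper53.PUCS

set_option autoImplicit false

/-!
# BG 9.5: the characteristic subgroup `E = Ω₁(Z₂(T))` of `T = O_t(H)`

For a maximal subgroup `H` with `r_t(F(H)) ≥ 3` we construct a subgroup `E ≤ O_t(H)`, normal in `H`,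
of exponent `t` and order at least `t²`, such that every subgroup of `E` of order at least `t²` lies
in `H` and in no other maximal subgroup.
-/

namespace Cfsg.Agent.Lib.Helper60.BG95

open Subgroup Cfsg
open Cfsg.Agent.Lib.Helper23 (pCoreOf)
open scoped commutatorElement

universe u

variable {G : Type u} [Group G]

/-! ### class two power computations -/

lemma pow_mul_of_central {x y c : G} (hc : y * x = c * x * y) (hcy : Commute c y) (n : ℕ) :
    y ^ n * x = c ^ n * x * y ^ n := by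
  induction n with
  | zero => simp
  | succ n ih =>
    have h1 : Commute (c ^ n) y := hcy.pow_left n
    calc y ^ (n + 1) * x = y * (y ^ n * x) := by rw [pow_succ']; group
      _ = y * (c ^ n * x * y ^ n) := by rw [ih]
      _ = (y * c ^ n) * x * y ^ n := by group
      _ = (c ^ n * y) * x * y ^ n := by rw [h1.eq]
      _ = c ^ n * (y * x) * y ^ n := by group
      _ = c ^ n * (c * x * y) * y ^ n := by rw [hc]
      _ = c ^ (n + 1) * x * y ^ (n + 1) := by rw [pow_succ, pow_succ]; group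

lemma mul_pow_of_central {x y c : G} (hc : y * x = c * x * y) (hcx : Commute c x)
    (hcy : Commute c y) (n : ℕ) :
    (x * y) ^ n = c ^ (n * (n - 1) / 2) * x ^ n * y ^ n := by
  induction n with
  | zero => simp
  | succ n ih =>
    have h1 := pow_mul_of_central hc hcy n
    have h2 : Commute (c ^ n) (x ^ n) := (hcx.pow_left n).pow_right n
    calc (x * y) ^ (n + 1) = (x * y) ^ n * (x * y) := pow_succ _ _
      _ = c ^ (n * (n - 1) / 2) * x ^ n * y ^ n * (x * y) := by rw [ih]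
      _ = c ^ (n * (n - 1) / 2) * x ^ n * (y ^ n * x) * y := by group
      _ = c ^ (n * (n - 1) / 2) * x ^ n * (c ^ n * x * y ^ n) * y := by rw [h1]
      _ = c ^ (n * (n - 1) / 2) * (x ^ n * c ^ n) * x * y ^ n * y := by group
      _ = c ^ (n * (n - 1) / 2) * (c ^ n * x ^ n) * x * y ^ n * y := by rw [h2.eq]
      _ = c ^ (n * (n - 1) / 2 + n) * x ^ (n + 1) * y ^ (n + 1) := by
          rw [pow_add, pow_succ, pow_succ]; group
      _ = c ^ ((n + 1) * (n + 1 - 1) / 2) * x ^ (n + 1) * y ^ (n + 1) := by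
          rw [Nat.triangle_succ]

lemma mul_pow_eq_one_of_central {x y c : G} {t : ℕ} (ht : Odd t) (hc : y * x = c * x * y)
    (hcx : Commute c x) (hcy : Commute c y) (hx : x ^ t = 1) (hy : y ^ t = 1) :
    (x * y) ^ t = 1 := by
  have h1 := pow_mul_of_central hc hcy t
  rw [hy, one_mul, mul_one] at h1
  have hct : c ^ t = 1 := by
    have : c ^ t * x = 1 * x := by rw [one_mul]; exact h1.symm
    exact mul_right_cancel this
  obtain ⟨k, hk⟩ := ht
  have h2 : t * (t - 1) / 2 = t * k := by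
    rw [hk]
    have : 2 * k + 1 - 1 = 2 * k := by omega
    rw [this, show (2 * k + 1) * (2 * k) = 2 * ((2 * k + 1) * k) by ring, Nat.mul_div_cancel_left _ (by norm_num)]
  rw [mul_pow_of_central hc hcx hcy t, hx, hy, h2, pow_mul, hct, one_pow, one_mul, one_mul]

/-! ### the subgroup `Ω₁(Z₂(T))`, written elementwise inside `G` -/

/-- `Ω₁(Z₂(T))` for a subgroup `T` of `G` (meaningful for `t` odd). -/
def omegaZ2 (T : Subgroup G) (t : ℕ) (ht : Odd t) : Subgroup G where
  carrier := {x | x ∈ T ∧ x ^ t = 1 ∧ ∀ y ∈ T, ⁅x, y⁆ ∈ centralizer (T : Set G)}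
  one_mem' := by
    refine ⟨one_mem _, one_pow _, fun y _ => ?_⟩
    rw [commutatorElement_one_left]
    exact one_mem _
  mul_mem' := by
    rintro x x' ⟨hxT, hxt, hxc⟩ ⟨hx'T, hx't, hx'c⟩
    refine ⟨mul_mem hxT hx'T, ?_, fun y hy => ?_⟩
    · -- `(x x')^t = 1`
      have hc : x' * x = ⁅x', x⁆ * x * x' := by
        rw [commutatorElement_def]; group
      have hcen := hx'c x hxT
      rw [mem_centralizer_iff] at hcen
      have hcx : Commute ⁅x', x⁆ x := (hcen x hxT).symm
      have hcx' : Commute ⁅x', x⁆ x' := (hcen x' hx'T).symm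
      exact mul_pow_eq_one_of_central ht hc hcx hcx' hxt hx't
    · have hd := hx'c y hy
      have hd' := hd
      rw [mem_centralizer_iff] at hd'
      have h1 : ⁅x * x', y⁆ = x * ⁅x', y⁆ * x⁻¹ * ⁅x, y⁆ := by
        simp only [commutatorElement_def]; group
      have h2 : x * ⁅x', y⁆ * x⁻¹ = ⁅x', y⁆ := by
        rw [hd' x hxT]; group
      rw [h1, h2]
      exact mul_mem hd (hxc y hy)
  inv_mem' := by
    rintro x ⟨hxT, hxt, hxc⟩
    refine ⟨inv_mem hxT, by rw [inv_pow, hxt, inv_one], fun y hy => ?_⟩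
    have hd := inv_mem (hxc y hy)
    have hd' := hd
    rw [mem_centralizer_iff] at hd'
    have h1 : ⁅x⁻¹, y⁆ = x⁻¹ * ⁅x, y⁆⁻¹ * x := by
      simp only [commutatorElement_def]; group
    have h2 : x⁻¹ * ⁅x, y⁆⁻¹ * x = ⁅x, y⁆⁻¹ := by
      have := hd' x hxT
      calc x⁻¹ * ⁅x, y⁆⁻¹ * x = x⁻¹ * (⁅x, y⁆⁻¹ * x) := by group
        _ = x⁻¹ * (x * ⁅x, y⁆⁻¹) := by rw [this]
        _ = ⁅x, y⁆⁻¹ := by group
    rw [h1, h2]
    exact hd

lemma mem_omegaZ2 {T : Subgroup G} {t : ℕ} {ht : Odd t} {x : G} :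
    x ∈ omegaZ2 T t ht ↔ x ∈ T ∧ x ^ t = 1 ∧ ∀ y ∈ T, ⁅x, y⁆ ∈ centralizer (T : Set G) :=
  Iff.rfl

lemma omegaZ2_le (T : Subgroup G) (t : ℕ) (ht : Odd t) : omegaZ2 T t ht ≤ T := fun _ hx => hx.1

lemma conj_mem_centralizer {T : Subgroup G} {h d : G} (hh : h ∈ normalizer (T : Set G))
    (hd : d ∈ centralizer (T : Set G)) : h * d * h⁻¹ ∈ centralizer (T : Set G) := by
  rw [mem_centralizer_iff] at hd ⊢
  intro w hw
  have hw' : h⁻¹ * w * h⁻¹⁻¹ ∈ T := (mem_normalizer_iff.mp (inv_mem hh) w).mp hw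
  rw [inv_inv] at hw'
  have := hd _ hw'
  calc w * (h * d * h⁻¹) = h * ((h⁻¹ * w * h) * d) * h⁻¹ := by group
    _ = h * (d * (h⁻¹ * w * h)) * h⁻¹ := by rw [this]
    _ = h * d * h⁻¹ * w := by group

lemma conj_mem_omegaZ2 {T : Subgroup G} {t : ℕ} {ht : Odd t} {h x : G}
    (hh : h ∈ normalizer (T : Set G)) (hx : x ∈ omegaZ2 T t ht) :
    h * x * h⁻¹ ∈ omegaZ2 T t ht := by
  obtain ⟨hxT, hxt, hxc⟩ := hx
  refine ⟨(mem_normalizer_iff.mp hh x).mp hxT, by rw [conj_pow, hxt]; group, fun y hy => ?_⟩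
  have hy' : h⁻¹ * y * h⁻¹⁻¹ ∈ T := (mem_normalizer_iff.mp (inv_mem hh) y).mp hy
  rw [inv_inv] at hy'
  have h1 : ⁅h * x * h⁻¹, y⁆ = h * ⁅x, h⁻¹ * y * h⁆ * h⁻¹ := by
    simp only [commutatorElement_def]; group
  rw [h1]
  exact conj_mem_centralizer hh (hxc _ hy')

lemma normalizer_le_normalizer_omegaZ2 (T : Subgroup G) (t : ℕ) (ht : Odd t) :
    normalizer (T : Set G) ≤ normalizer ((omegaZ2 T t ht : Subgroup G) : Set G) := by
  intro h hh
  rw [mem_normalizer_iff]
  intro x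
  refine ⟨fun hx => conj_mem_omegaZ2 hh hx, fun hx => ?_⟩
  have := conj_mem_omegaZ2 (ht := ht) (inv_mem hh) hx
  have h2 : h⁻¹ * (h * x * h⁻¹) * h⁻¹⁻¹ = x := by group
  rwa [h2] at this

/-- Commutators `⁅x, y⁆` with `x ∈ Ω₁(Z₂(T))`, `y ∈ T` have order dividing `t`. -/
lemma commutator_pow_eq_one {T : Subgroup G} {t : ℕ} {ht : Odd t} {x y : G}
    (hx : x ∈ omegaZ2 T t ht) (hy : y ∈ T) : ⁅x, y⁆ ^ t = 1 := by
  obtain ⟨hxT, hxt, hxc⟩ := hx
  have hcen := hxc y hy
  rw [mem_centralizer_iff] at hcen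
  have hc : x * y = ⁅x, y⁆ * y * x := by rw [commutatorElement_def]; group
  have h1 := pow_mul_of_central hc (hcen x hxT).symm t
  rw [hxt, one_mul, mul_one] at h1
  have : ⁅x, y⁆ ^ t * y = 1 * y := by rw [one_mul]; exact h1.symm
  exact mul_right_cancel this

/-! ### order and uniqueness properties -/

section main

variable [Finite G]

lemma card_omegaZ2_ge {T : Subgroup G} {t : ℕ} [Fact t.Prime] (ht : Odd t) (hT : IsPGroup t T)
    (hnc : ¬ IsCyclic T) : t ^ 2 ≤ Nat.card (omegaZ2 T t ht) := by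
  rcases Cfsg.Agent.Lib.Helper52.normal_rank_two (P := ↥T) t hT with ⟨N, hNn, hNc, hNe⟩ | h | ⟨h2, _⟩
  · haveI := hNn
    have hle : N.map T.subtype ≤ omegaZ2 T t ht := by
      rintro _ ⟨n, hn, rfl⟩
      refine ⟨n.2, ?_, fun y hy => ?_⟩
      · have := hNe n hn
        simpa using congrArg Subtype.val this
      · have hc := Cfsg.Agent.Lib.Helper53.comm_mem_center_of_normal_card_sq hT N hNc hn ⟨y, hy⟩
        rw [mem_centralizer_iff]
        intro w hw
        have h1 := (mem_center_iff.mp hc) ⟨w, hw⟩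
        have h2 := congrArg Subtype.val h1
        simpa [commutatorElement_def] using h2
    calc t ^ 2 = Nat.card N := hNc.symm
      _ = Nat.card (N.map T.subtype) := (card_map_of_injective T.subtype_injective).symm
      _ ≤ _ := card_le_of_le hle
  · exact absurd h hnc
  · exfalso
    rw [h2] at ht
    exact (by decide : ¬ Odd 2) ht

/-- extraction of an elementary abelian subgroup of order `> t²` of `O_t(H)` lying in a unique
maximal subgroup (after helper64). -/
lemma exists_E0 (hG : IsMinSimpleOddOrder G) {H : Subgroup G} (hH : IsCoatom H) {t : ℕ}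
    [Fact t.Prime] (hHt : ¬ PRankLE t 2 ↥(fittingOf H)) :
    ∃ E₀ : Subgroup G, E₀ ≤ pCoreOf t H ∧ (∀ x ∈ E₀, ∀ y ∈ E₀, x * y = y * x) ∧
      (∀ a ∈ E₀, a ^ t = 1) ∧ t ^ 3 ≤ Nat.card E₀ ∧ InUniqueMaximal E₀ := by
  have htp : t.Prime := Fact.out
  have hF' := hHt
  unfold Cfsg.PRankLE at hF'
  push Not at hF'
  obtain ⟨E', hE'c, hE'e, hE'card⟩ := hF'
  set E₀ : Subgroup G := E'.map (Cfsg.fittingOf H).subtype with hE₀
  have hE₀F : E₀ ≤ Cfsg.fittingOf H := Subgroup.map_subtype_le E'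
  have hE₀c : IsMulCommutative E₀ := inferInstance
  have hE₀e : ∀ a ∈ E₀, a ^ t = 1 := by
    rintro _ ⟨a, ha, rfl⟩
    have := hE'e a ha
    simpa using congrArg Subtype.val this
  have hE₀card : t ^ 2 < Nat.card E₀ := by
    rw [hE₀, Subgroup.card_map_of_injective (Subgroup.subtype_injective _)]
    exact hE'card
  have hE₀p : IsPGroup t E₀ := by
    intro a
    refine ⟨1, ?_⟩
    apply Subtype.ext
    simpa using hE₀e a.1 a.2
  have hE₀3 : ¬ Cfsg.PRankLE t 2 ↥E₀ := by
    intro h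
    have h1 := h ⊤ inferInstance (fun a _ => Subtype.ext (by simpa using hE₀e a.1 a.2))
    rw [Subgroup.card_top] at h1
    omega
  have hcard3 : t ^ 3 ≤ Nat.card E₀ := by
    obtain ⟨k, hk⟩ := IsPGroup.iff_card.mp hE₀p
    rw [hk] at hE₀card ⊢
    have : 2 < k := (Nat.pow_lt_pow_iff_right htp.one_lt).mp hE₀card
    exact Nat.pow_le_pow_right htp.pos this
  refine ⟨E₀, ?_, ?_, hE₀e, hcard3, Cfsg.Agent.S1401.result hG H hH t hHt E₀ hE₀p hE₀c hE₀3⟩
  · intro x hx
    exact Cfsg.Agent.Lib.Helper23.mem_pCoreOf_of_mem_fittingOf (hE₀F hx) (k := 1)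
      (by rw [pow_one]; exact hE₀e x hx)
  · intro x hx y hy
    exact congrArg Subtype.val (hE₀c.is_comm.comm ⟨x, hx⟩ ⟨y, hy⟩)

/-- An abelian `t`-subgroup of exponent `t` and order at least `t³` lies in a unique maximal subgroup
as soon as some maximal subgroup has `r_t(F(H)) ≥ 3`. -/
lemma inUniqueMaximal_of_elemAb (hG : IsMinSimpleOddOrder G) {H : Subgroup G} (hH : IsCoatom H)
    {t : ℕ} [Fact t.Prime] (hHt : ¬ PRankLE t 2 ↥(fittingOf H)) {X : Subgroup G}
    (hc : ∀ x ∈ X, ∀ y ∈ X, x * y = y * x) (he : ∀ a ∈ X, a ^ t = 1) (h3 : t ^ 3 ≤ Nat.card X) :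
    InUniqueMaximal X := by
  have hXp : IsPGroup t X := by
    intro a
    refine ⟨1, ?_⟩
    apply Subtype.ext
    simpa using he a.1 a.2
  have hXc : IsMulCommutative X := ⟨⟨fun a b => Subtype.ext (hc a a.2 b b.2)⟩⟩
  exact Cfsg.Agent.S1401.result hG H hH t hHt X hXp hXc
    (Cfsg.Agent.Lib.Helper23.not_pRankLE_two_of_elemAb (A₀ := X) le_rfl hc he h3)

/-- A subgroup of order `t²` of `Ω₁(Z₂(O_t(H)))` lies in a unique maximal subgroup. -/
theorem inUniqueMaximal_of_card_sq (hG : IsMinSimpleOddOrder G) {H : Subgroup G} (hH : IsCoatom H)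
    {t : ℕ} [Fact t.Prime] (ht : Odd t) (hHt : ¬ PRankLE t 2 ↥(fittingOf H)) {U : Subgroup G}
    (hUE : U ≤ omegaZ2 (pCoreOf t H) t ht) (hcard : Nat.card U = t ^ 2) : InUniqueMaximal U := by
  have htp : t.Prime := Fact.out
  set T := pCoreOf t H with hT
  have hTp : IsPGroup t T := Cfsg.Agent.Lib.Helper23.isPGroup_pCoreOf t H
  obtain ⟨E₀, hE₀T, hE₀c, hE₀e, hE₀3, hE₀U⟩ := exists_E0 hG hH hHt
  have hUT : U ≤ T := hUE.trans (omegaZ2_le _ _ _)
  have hUe : ∀ u ∈ U, u ^ t = 1 := fun u hu => (hUE hu).2.1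
  have hUcomm : ∀ x ∈ U, ∀ y ∈ U, x * y = y * x := by
    intro x hx y hy
    have hc : IsMulCommutative ↥U := IsPGroup.isMulCommutative_of_card_eq_prime_sq hcard
    exact congrArg Subtype.val (hc.is_comm.comm ⟨x, hx⟩ ⟨y, hy⟩)
  have hUea : IsElementaryAbelian t U :=
    ⟨⟨⟨fun a b => Subtype.ext (hUcomm a a.2 b b.2)⟩⟩, hUe⟩
  have hUrk : ¬ RankLE 1 ↥U :=
    Cfsg.Agent.Lib.Helper64.BG9.not_rankLE_one htp U U le_rfl hUea hcard.ge
  suffices h : ∃ X : Subgroup G, InUniqueMaximal X ∧ U ≤ centralizer (X : Set G) by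
    obtain ⟨X, hX, hUX⟩ := h
    exact Cfsg.Agent.S1399.result hG X U hX hUX hUrk
  by_cases hcen : U ≤ centralizer (T : Set G)
  · exact ⟨E₀, hE₀U, hcen.trans (centralizer_le hE₀T)⟩
  by_cases hz : ∃ ζ, ζ ∈ T ∧ ζ ∈ centralizer (T : Set G) ∧ ζ ^ t = 1 ∧ ζ ∉ U
  · obtain ⟨ζ, hζT, hζc, hζt, hζU⟩ := hz
    set k : Set G := (U : Set G) ∪ {ζ} with hk
    have hkc : ∀ x ∈ k, ∀ y ∈ k, x * y = y * x := by
      rintro x (hx | hx) y (hy | hy)
      · exact hUcomm x hx y hy
      · rw [Set.mem_singleton_iff] at hy; subst hy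
        exact mem_centralizer_iff.mp hζc x (hUT hx)
      · rw [Set.mem_singleton_iff] at hx; subst hx
        exact (mem_centralizer_iff.mp hζc y (hUT hy)).symm
      · rw [Set.mem_singleton_iff] at hx hy; subst hx; subst hy; rfl
    have hk1 : k ⊆ centralizer k := by
      intro x hx
      rw [SetLike.mem_coe, mem_centralizer_iff]
      intro y hy
      exact hkc y hy x hx
    set X := closure k with hX
    have hXcc : X ≤ centralizer (centralizer k : Set G) := closure_le_centralizer_centralizer k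
    have hXck : X ≤ centralizer k := hXcc.trans (centralizer_le hk1)
    have hXc : ∀ x ∈ X, ∀ y ∈ X, x * y = y * x := by
      intro x hx y hy
      exact (mem_centralizer_iff.mp (hXcc hy) x (hXck hx))
    have hXe : ∀ x ∈ X, x ^ t = 1 := by
      intro x hx
      induction hx using closure_induction with
      | mem x hx =>
        rcases hx with hx | hx
        · exact hUe x hx
        · rw [Set.mem_singleton_iff] at hx; rw [hx]; exact hζt
      | one => exact one_pow _
      | mul x y hx hy ihx ihy =>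
        have : Commute x y := hXc x hx y hy
        rw [this.mul_pow, ihx, ihy, one_mul]
      | inv x hx ih => rw [inv_pow, ih, inv_one]
    have hUX : U ≤ X := fun u hu => subset_closure (Or.inl hu)
    have hζX : ζ ∈ X := subset_closure (Or.inr rfl)
    have hXp : IsPGroup t X := by
      intro a
      refine ⟨1, ?_⟩
      apply Subtype.ext
      simpa using hXe a.1 a.2
    have hX3 : t ^ 3 ≤ Nat.card X := by
      obtain ⟨n, hn⟩ := IsPGroup.iff_card.mp hXp
      have hne : Nat.card U ≠ Nat.card X := by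
        intro he
        have := eq_of_le_of_card_ge hUX he.ge
        exact hζU (this ▸ hζX)
      have hdvd : Nat.card U ∣ Nat.card X := card_dvd_of_le hUX
      rw [hcard, hn] at hne hdvd
      rw [hn]
      have h2n : 2 ≤ n := (Nat.pow_dvd_pow_iff_le_right htp.one_lt).mp hdvd
      have : 2 ≠ n := fun h => hne (by rw [h])
      exact Nat.pow_le_pow_right htp.pos (by omega)
    refine ⟨X, inUniqueMaximal_of_elemAb hG hH hHt hXc hXe hX3, ?_⟩
    intro u hu
    rw [mem_centralizer_iff]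
    intro x hx
    exact hXc x hx u (hUX hu)
  · push Not at hz
    -- `U` is normal in `T`
    have hconj : ∀ y ∈ T, ∀ x ∈ U, y * x * y⁻¹ ∈ U := by
      intro y hy x hx
      have hxE := hUE hx
      have hd : ⁅x, y⁆ ∈ U := by
        apply hz
        · rw [commutatorElement_def]
          exact mul_mem (mul_mem (mul_mem hxE.1 hy) (inv_mem hxE.1)) (inv_mem hy)
        · exact hxE.2.2 y hy
        · exact commutator_pow_eq_one hxE hy
      have : y * x * y⁻¹ = ⁅x, y⁆⁻¹ * x := by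
        rw [commutatorElement_def]; group
      rw [this]
      exact mul_mem (inv_mem hd) hx
    have hTU : T ≤ normalizer (U : Set G) := by
      intro y hy
      rw [mem_normalizer_iff]
      intro x
      refine ⟨fun hx => hconj y hy x hx, fun hx => ?_⟩
      have := hconj y⁻¹ (inv_mem hy) _ hx
      have h2 : y⁻¹ * (y * x * y⁻¹) * y⁻¹⁻¹ = x := by group
      rwa [h2] at this
    haveI hUn : (U.subgroupOf T).Normal := (normal_subgroupOf_iff_le_normalizer hUT).mpr hTU
    have ht2 : t ≠ 2 := by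
      rintro rfl
      exact (by decide : ¬ Odd 2) ht
    have hTr : ¬ PRankLE t 2 ↥T :=
      Cfsg.Agent.Lib.Helper23.not_pRankLE_two_of_elemAb (A₀ := E₀) hE₀T hE₀c hE₀e hE₀3
    have hE' : IsElementaryAbelian t (U.subgroupOf T) := by
      refine ⟨⟨⟨fun a b => ?_⟩⟩, fun a ha => ?_⟩
      · apply Subtype.ext
        apply Subtype.ext
        exact hUcomm a.1.1 a.2 b.1.1 b.2
      · apply Subtype.ext
        have := hUe a.1 (mem_subgroupOf.mp ha)
        simpa using this
    have hE'2 : Nat.card (U.subgroupOf T) = t ^ 2 := by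
      rw [Nat.card_congr (subgroupOfEquivOfLe hUT).toEquiv, hcard]
    obtain ⟨A', hUA', _, hA'cen, hA'3⟩ :=
      Cfsg.Agent.S1452.result (R := ↥T) t ht2 hTp hTr (U.subgroupOf T) hE' hE'2
    set X := A'.map T.subtype with hX
    have hA'c : ∀ a ∈ A', ∀ b ∈ A', a * b = b * a := by
      intro a ha b hb
      have : a ∈ centralizer (A' : Set ↥T) := by rw [hA'cen]; exact ha
      exact (mem_centralizer_iff.mp this b hb).symm
    have hXc : ∀ x ∈ X, ∀ y ∈ X, x * y = y * x := by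
      rintro _ ⟨a, ha, rfl⟩ _ ⟨b, hb, rfl⟩
      exact congrArg Subtype.val (hA'c a ha b hb)
    have hXp : IsPGroup t X := (hTp.to_subgroup A').map T.subtype
    have hXcm : IsMulCommutative X := ⟨⟨fun a b => Subtype.ext (hXc a a.2 b b.2)⟩⟩
    have hX3 : ¬ PRankLE t 2 ↥X := by
      intro h
      apply hA'3
      intro B hBc hBe
      let e : ↥A' ≃* ↥X := A'.equivMapOfInjective T.subtype T.subtype_injective
      have h1 := h (B.map e.toMonoidHom) inferInstance (by
        rintro _ ⟨b, hb, rfl⟩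
        have := hBe b hb
        rw [← map_pow, this, map_one])
      rwa [card_map_of_injective e.injective] at h1
    refine ⟨X, Cfsg.Agent.S1401.result hG H hH t hHt X hXp hXcm hX3, ?_⟩
    intro u hu
    have huX : u ∈ X := ⟨⟨u, hUT hu⟩, hUA' (mem_subgroupOf.mpr hu), rfl⟩
    rw [mem_centralizer_iff]
    intro x hx
    exact hXc x hx u huX

/-- **The subgroup `E`.** For a maximal subgroup `H` with `r_t(F(H)) ≥ 3` there is a subgroup
`E ≤ O_t(H)`, normal in `H`, of exponent `t` and order at least `t²`, such that every subgroup of `E`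
of order at least `t²` lies in no maximal subgroup other than `H`. -/
theorem exists_E (hG : IsMinSimpleOddOrder G) {H : Subgroup G} (hH : IsCoatom H) {t : ℕ}
    [Fact t.Prime] (hHt : ¬ PRankLE t 2 ↥(fittingOf H)) :
    ∃ E : Subgroup G, E ≤ pCoreOf t H ∧ H ≤ normalizer (E : Set G) ∧ (∀ x ∈ E, x ^ t = 1) ∧
      t ^ 2 ≤ Nat.card E ∧
      ∀ U : Subgroup G, U ≤ E → t ^ 2 ≤ Nat.card U →
        ∀ M : Subgroup G, IsCoatom M → U ≤ M → M = H := by
  have htp : t.Prime := Fact.out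
  obtain ⟨E₀, hE₀T, hE₀c, hE₀e, hE₀3, hE₀U⟩ := exists_E0 hG hH hHt
  have hTp : IsPGroup t (pCoreOf t H) := Cfsg.Agent.Lib.Helper23.isPGroup_pCoreOf t H
  have hE₀p : IsPGroup t E₀ := hTp.to_le hE₀T
  have htG : t ∣ Nat.card G := by
    obtain ⟨k, hk⟩ := IsPGroup.iff_card.mp hE₀p
    have hk0 : k ≠ 0 := by
      rintro rfl
      rw [pow_zero] at hk
      rw [hk] at hE₀3
      have : 1 < t ^ 3 := Nat.one_lt_pow (by norm_num) htp.one_lt
      omega
    have : t ∣ Nat.card E₀ := by rw [hk]; exact dvd_pow_self t hk0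
    exact this.trans (card_subgroup_dvd_card E₀)
  have ht : Odd t := by
    refine htp.odd_of_ne_two ?_
    rintro rfl
    exact hG.1.not_two_dvd_nat htG
  have hTnc : ¬ IsCyclic ↥(pCoreOf t H) := by
    intro hcyc
    have h1 : IsCyclic ↥(E₀.subgroupOf (pCoreOf t H)) := inferInstance
    have h2 : IsCyclic ↥E₀ :=
      isCyclic_of_surjective (subgroupOfEquivOfLe hE₀T) (subgroupOfEquivOfLe hE₀T).surjective
    have hlt : t < Nat.card E₀ := by
      have : t ^ 1 < t ^ 3 := Nat.pow_lt_pow_right htp.one_lt (by norm_num)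
      rw [pow_one] at this
      omega
    exact Cfsg.Agent.Lib.Helper64.BG9.not_isCyclic_of_exp htp E₀ hE₀e hlt h2
  refine ⟨omegaZ2 (pCoreOf t H) t ht, omegaZ2_le _ _ _,
    (Cfsg.Agent.Lib.Helper23.le_normalizer_pCoreOf t H).trans
      (normalizer_le_normalizer_omegaZ2 _ _ _), fun x hx => hx.2.1,
    card_omegaZ2_ge ht hTp hTnc, ?_⟩
  intro U hUE hUcard M hM hUM
  have hUp : IsPGroup t U := hTp.to_le (hUE.trans (omegaZ2_le _ _ _))
  obtain ⟨k, hk⟩ := IsPGroup.iff_card.mp hUp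
  have hk2 : 2 ≤ k := by
    rw [hk] at hUcard
    exact (Nat.pow_le_pow_iff_right htp.one_lt).mp hUcard
  have hdvd : t ^ 2 ∣ Nat.card ↥U := by rw [hk]; exact pow_dvd_pow t hk2
  obtain ⟨K, hK⟩ := Sylow.exists_subgroup_card_pow_prime t hdvd
  have hU'U : K.map U.subtype ≤ U := map_subtype_le K
  have hU'card : Nat.card (K.map U.subtype) = t ^ 2 := by
    rw [card_map_of_injective U.subtype_injective, hK]
  have hU' := inUniqueMaximal_of_card_sq hG hH ht hHt (hU'U.trans hUE) hU'card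
  exact hU'.unique ⟨hM, hU'U.trans hUM⟩
    ⟨hH, (hU'U.trans hUE).trans ((omegaZ2_le _ _ _).trans
      (Cfsg.Agent.Lib.Helper23.pCoreOf_le t H))⟩

end main

end Cfsg.Agent.Lib.Helper60.BG95
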