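import Cfsg.Agent.Lib.Helper60.BG95E
import Cfsg.Agent.Lib.Helper56.FrobApply

/-!
# A Frobenius group acting on an `s`-group with cyclic centralizers

`cyclic_of_frobenius` (the group-theoretic core of B&G Lemma 12.17): let `s` be an odd prime, `S` an
`s`-subgroup of a finite group `G`, and `Q`, `P` subgroups normalizing `S` with `P` of prime order
normalizing `Q` and acting fixed-point-freely on it, `|S|` coprime to `|QP|`.  If `C_S(Q)` and
`C_S(P)` are cyclic and `C_S(QP) ≠ 1`, then `S` is cyclic.
-/

set_option autoImplicit false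

namespace Cfsg.Agent.Lib.Helper60.FrobCyc

open Subgroup Cfsg
open scoped commutatorElement

universe u

variable {G : Type u} [Group G] [Finite G]

/-- in a cyclic subgroup, the elements of order dividing a prime `s` are the powers of any element
of order `s` -/
theorem mem_zpowers_of_pow_eq_one {Y : Subgroup G} (hY : IsCyclic Y) {s : ℕ} (hs : s.Prime)
    {x t : G} (hx : x ∈ Y) (hxs : x ^ s = 1) (hx1 : x ≠ 1) (ht : t ∈ Y) (hts : t ^ s = 1) :
    t ∈ zpowers x := by
  classical
  haveI := hY
  haveI : Fintype Y := Fintype.ofFinite Y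
  set xY : Y := ⟨x, hx⟩ with hxY
  set tY : Y := ⟨t, ht⟩ with htY
  have hord : orderOf xY = s := by
    have h1 : orderOf x = s := by
      have hd : orderOf x ∣ s := orderOf_dvd_of_pow_eq_one hxs
      rcases (Nat.dvd_prime hs).mp hd with h | h
      · exact absurd (orderOf_eq_one_iff.mp h) hx1
      · exact h
    rw [← h1]
    exact Subgroup.orderOf_mk x hx
  set A : Finset Y := Finset.univ.filter (fun a : Y => a ^ s = 1) with hA
  have hAcard : A.card ≤ s := IsCyclic.card_pow_eq_one_le hs.pos
  set B : Finset Y := (Finset.range s).image (fun i => xY ^ i) with hB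
  have hBcard : B.card = s := by
    rw [hB, Finset.card_image_of_injOn, Finset.card_range]
    intro i hi j hj hij
    have := pow_injOn_Iio_orderOf (x := xY)
    apply this
    · rw [hord]; exact Finset.mem_range.mp hi
    · rw [hord]; exact Finset.mem_range.mp hj
    · exact hij
  have hBA : B ⊆ A := by
    intro b hb
    rw [hB, Finset.mem_image] at hb
    obtain ⟨i, -, rfl⟩ := hb
    rw [hA, Finset.mem_filter]
    refine ⟨Finset.mem_univ _, ?_⟩
    rw [← pow_mul, mul_comm, pow_mul]
    have : xY ^ s = 1 := by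
      apply Subtype.ext
      simpa using hxs
    rw [this, one_pow]
  have hEq : B = A := Finset.eq_of_subset_of_card_le hBA (by rw [hBcard]; exact hAcard)
  have htA : tY ∈ A := by
    rw [hA, Finset.mem_filter]
    refine ⟨Finset.mem_univ _, ?_⟩
    apply Subtype.ext
    simpa using hts
  rw [← hEq, hB, Finset.mem_image] at htA
  obtain ⟨i, -, hi⟩ := htA
  have : x ^ i = t := by
    have := congrArg Subtype.val hi
    simpa using this
  rw [← this]
  exact Subgroup.pow_mem _ (mem_zpowers x) i

/-- **Lemma F.**  See the module docstring. -/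
theorem cyclic_of_frobenius {S Q P : Subgroup G} {s p : ℕ} [hs : Fact s.Prime] (hs2 : Odd s)
    (hp : p.Prime) (hS : IsPGroup s S)
    (hQS : Q ≤ normalizer (S : Set G)) (hPS : P ≤ normalizer (S : Set G))
    (hPQ : P ≤ normalizer (Q : Set G)) (hP : Nat.card P = p)
    (hfpf : Q ⊓ centralizer (P : Set G) = ⊥)
    (hcop : (Nat.card S).Coprime (Nat.card ↥(Q ⊔ P)))
    (hY : IsCyclic ↥(S ⊓ centralizer (Q : Set G))) (hW : IsCyclic ↥(S ⊓ centralizer (P : Set G)))
    (hx : S ⊓ centralizer (Q : Set G) ⊓ centralizer (P : Set G) ≠ ⊥) : IsCyclic S := by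
  classical
  by_contra hnc
  haveI : Fact p.Prime := ⟨hp⟩
  set T : Subgroup G := Cfsg.Agent.Lib.Helper60.BG95.omegaZ2 S s hs2 with hT
  have hTcard : s ^ 2 ≤ Nat.card T := Cfsg.Agent.Lib.Helper60.BG95.card_omegaZ2_ge hs2 hS hnc
  have hTS : T ≤ S := Cfsg.Agent.Lib.Helper60.BG95.omegaZ2_le S s hs2
  have hTexp : ∀ t ∈ T, t ^ s = 1 := fun t ht => ht.2.1
  have hTn : normalizer (S : Set G) ≤ normalizer (T : Set G) :=
    Cfsg.Agent.Lib.Helper60.BG95.normalizer_le_normalizer_omegaZ2 S s hs2
  -- an element of order `s` centralized by `Q` and `P`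
  set V : Subgroup G := S ⊓ centralizer (Q : Set G) ⊓ centralizer (P : Set G) with hV
  have hVp : IsPGroup s V := hS.to_le (inf_le_left.trans inf_le_left)
  obtain ⟨x, hxo⟩ : ∃ x : V, orderOf x = s := by
    apply exists_prime_orderOf_dvd_card' (G := V) s
    rcases hVp.card_eq_or_dvd with h | h
    · exact absurd (Subgroup.card_eq_one.mp h) hx
    · exact h
  have hxV : (x : G) ∈ V := x.2
  have hxs : (x : G) ^ s = 1 := by
    have := pow_orderOf_eq_one x
    rw [hxo] at this
    simpa using congrArg Subtype.val this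
  have hx1 : (x : G) ≠ 1 := by
    intro h
    have : x = 1 := Subtype.ext h
    rw [this, orderOf_one] at hxo
    exact hs.out.one_lt.ne hxo
  have hxS : (x : G) ∈ S := hxV.1.1
  have hxQ : (x : G) ∈ centralizer (Q : Set G) := hxV.1.2
  have hxP : (x : G) ∈ centralizer (P : Set G) := hxV.2
  have hzQ : zpowers (x : G) ≤ centralizer (Q : Set G) := zpowers_le.mpr hxQ
  have hzP : zpowers (x : G) ≤ centralizer (P : Set G) := zpowers_le.mpr hxP
  -- the three centralizers in `T` coincide
  have hcQP : centralizer ((Q ⊔ P : Subgroup G) : Set G) =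
      centralizer (Q : Set G) ⊓ centralizer (P : Set G) := by
    ext g
    simp only [mem_inf, mem_centralizer_iff]
    constructor
    · intro h
      exact ⟨fun q hq => h q (le_sup_left (a := Q) (b := P) hq),
        fun q hq => h q (le_sup_right (a := Q) (b := P) hq)⟩
    · rintro ⟨h1, h2⟩
      have hle : Q ⊔ P ≤ centralizer ({g} : Set G) := by
        apply sup_le
        · intro q hq
          rw [mem_centralizer_iff]
          intro y hy
          rw [Set.mem_singleton_iff] at hy
          subst hy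
          exact (h1 q hq).symm
        · intro q hq
          rw [mem_centralizer_iff]
          intro y hy
          rw [Set.mem_singleton_iff] at hy
          subst hy
          exact (h2 q hq).symm
      intro q hq
      have := hle hq
      rw [mem_centralizer_iff] at this
      exact (this g (Set.mem_singleton g)).symm
  have hTQ : T ⊓ centralizer (Q : Set G) = T ⊓ centralizer ((Q ⊔ P : Subgroup G) : Set G) := by
    apply le_antisymm
    · rintro t ⟨htT, htQ⟩
      have : t ∈ zpowers (x : G) :=
        mem_zpowers_of_pow_eq_one hY hs.out ⟨hxS, hxQ⟩ hxs hx1 ⟨hTS htT, htQ⟩ (hTexp t htT)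
      refine ⟨htT, ?_⟩
      rw [hcQP]
      exact ⟨hzQ this, hzP this⟩
    · rw [hcQP]
      exact inf_le_inf_left T inf_le_left
  have hTP : T ⊓ centralizer (P : Set G) = T ⊓ centralizer ((Q ⊔ P : Subgroup G) : Set G) := by
    apply le_antisymm
    · rintro t ⟨htT, htP⟩
      have : t ∈ zpowers (x : G) :=
        mem_zpowers_of_pow_eq_one hW hs.out ⟨hxS, hxP⟩ hxs hx1 ⟨hTS htT, htP⟩ (hTexp t htT)
      refine ⟨htT, ?_⟩
      rw [hcQP]
      exact ⟨hzQ this, hzP this⟩
    · rw [hcQP]
      exact inf_le_inf_left T inf_le_right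
  -- the Frobenius formula
  have hP1 : P ≠ ⊥ := by
    intro h
    rw [h, Subgroup.card_bot] at hP
    exact hp.one_lt.ne hP
  have hUn : ∀ e ∈ P, ∀ u ∈ Q, e * u * e⁻¹ ∈ Q := fun e he u hu =>
    (mem_normalizer_iff.mp (hPQ he) u).mp hu
  have hfr : ∀ e ∈ P, e ≠ 1 → ∀ u ∈ Q, e * u = u * e → u = 1 := by
    intro e he he1 u hu heu
    have hz : zpowers e = P := by
      apply Subgroup.eq_of_le_of_card_ge ((zpowers_le).mpr he)
      have h1 : Nat.card (zpowers e) ∣ p := hP ▸ Subgroup.card_dvd_of_le ((zpowers_le).mpr he)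
      rcases (Nat.dvd_prime hp).mp h1 with h | h
      · exfalso
        have : zpowers e = ⊥ := Subgroup.card_eq_one.mp h
        exact he1 (zpowers_eq_bot.mp this)
      · rw [hP, h]
    have huC : u ∈ centralizer (P : Set G) := by
      rw [← hz, mem_centralizer_iff]
      intro y hy
      rw [SetLike.mem_coe, mem_zpowers_iff] at hy
      obtain ⟨k, rfl⟩ := hy
      exact ((Commute.zpow_left (show Commute e u from heu) k).eq)
    have : u ∈ Q ⊓ centralizer (P : Set G) := ⟨hu, huC⟩
    rw [hfpf] at this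
    exact (mem_bot.mp this)
  have hHn : ∀ y ∈ Q ⊔ P, ∀ h ∈ T, y * h * y⁻¹ ∈ T := by
    intro y hy h hh
    have hyN : y ∈ normalizer (T : Set G) := hTn ((sup_le hQS hPS) hy)
    exact (mem_normalizer_iff.mp hyN h).mp hh
  have hTp : IsPGroup s T := hS.to_le hTS
  have hsolv : Group.IsSolvable T := by
    haveI := hTp.isNilpotent
    infer_instance
  have hcop' : Nat.Coprime (Nat.card T) (Nat.card ↥(Q ⊔ P)) :=
    Nat.Coprime.coprime_dvd_left (Subgroup.card_dvd_of_le hTS) hcop
  have hform := Cfsg.Agent.Lib.Helper56.FrobApply.frobenius_formula Q P T hP1 hUn hfr hHn hsolv hcop'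
  rw [hTQ, hTP, hP] at hform
  set c := Nat.card ↥(T ⊓ centralizer ((Q ⊔ P : Subgroup G) : Set G)) with hc
  have hcpos : 0 < c := Nat.card_pos
  have hTc : Nat.card T = c := by
    have : c ^ p * Nat.card T = c ^ p * c := hform
    exact Nat.eq_of_mul_eq_mul_left (pow_pos hcpos p) this
  -- `c ≤ s`
  have hcs : c ≤ s := by
    have hle : T ⊓ centralizer ((Q ⊔ P : Subgroup G) : Set G) ≤ zpowers (x : G) := by
      rw [← hTQ]
      rintro t ⟨htT, htQ⟩
      exact mem_zpowers_of_pow_eq_one hY hs.out ⟨hxS, hxQ⟩ hxs hx1 ⟨hTS htT, htQ⟩ (hTexp t htT)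
    have h1 : c ∣ Nat.card (zpowers (x : G)) := Subgroup.card_dvd_of_le hle
    have h2 : Nat.card (zpowers (x : G)) = s := by
      rw [Nat.card_zpowers]
      have hd : orderOf (x : G) ∣ s := orderOf_dvd_of_pow_eq_one hxs
      rcases (Nat.dvd_prime hs.out).mp hd with h | h
      · exact absurd (orderOf_eq_one_iff.mp h) hx1
      · exact h
    rw [h2] at h1
    exact Nat.le_of_dvd hs.out.pos h1
  have : s ^ 2 ≤ s := by
    calc s ^ 2 ≤ Nat.card T := hTcard
      _ = c := hTc
      _ ≤ s := hcs
  have h2 : s < s ^ 2 := by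
    have := hs.out.one_lt
    nlinarith
  omega

end Cfsg.Agent.Lib.Helper60.FrobCyc
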