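import Mathlib

set_option autoImplicit false

/-!
# `Lq` hive (S2333), leaf C-FIXI part (A): every additive character of a finite field is `ψ (α * ·)`
for a fixed non-trivial additive character `ψ`.
-/

namespace Cfsg.Agent.Lib.Helper21.Lq

/-- an injective map from a finite abelian group to its dual is surjective -/
theorem cfixi_surj {A : Type*} [AddCommGroup A] [Finite A] (Φ : A → AddChar A ℂ)
    (hΦ : Function.Injective Φ) : Function.Surjective Φ := by
  classical
  haveI := Fintype.ofFinite A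
  have hcard : Fintype.card (AddChar A ℂ) = Fintype.card A := AddChar.card_eq
  exact ((Fintype.bijective_iff_injective_and_card Φ).mpr ⟨hΦ, hcard.symm⟩).2

/-- C-FIXI (A): all additive characters of a finite field come from one non-trivial character. -/
theorem cfixi_char {F : Type*} [Field F] [Fintype F] (ψ μ1 : F → ℂ)
    (hψ0 : ψ 0 = 1) (hψ : ∀ x y, ψ (x + y) = ψ x * ψ y) (hψnt : ∃ x, ψ x ≠ 1)
    (hμ0 : μ1 0 = 1) (hμ : ∀ x y, μ1 (x + y) = μ1 x * μ1 y) :
    ∃ α : F, ∀ x, μ1 x = ψ (α * x) := by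
  let ψA : AddChar F ℂ := ⟨ψ, hψ0, hψ⟩
  let μA : AddChar F ℂ := ⟨μ1, hμ0, hμ⟩
  have hψA : ∀ t : F, ψA t = ψ t := fun _ => rfl
  have hμA : ∀ t : F, μA t = μ1 t := fun _ => rfl
  have hne : ψA ≠ 1 := by
    intro h
    obtain ⟨x, hx⟩ := hψnt
    apply hx
    have := DFunLike.congr_fun h x
    rw [hψA] at this
    simpa using this
  have hprim : ψA.IsPrimitive := AddChar.IsPrimitive.of_ne_one hne
  obtain ⟨α, hα⟩ := cfixi_surj (fun s => ψA.mulShift s)
    (AddChar.to_mulShift_inj_of_isPrimitive hprim) μA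
  refine ⟨α, fun x => ?_⟩
  have := DFunLike.congr_fun hα x
  rw [hμA] at this
  rw [← this]
  rfl

end Cfsg.Agent.Lib.Helper21.Lq
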