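import Cfsg.Agent.Lib.Helper21.Lq.Defs
import Cfsg.Agent.Lib.Helper13.SpParabolic
import Cfsg.Agent.Lib.Helper60.LqCFIXIchar

set_option autoImplicit false

/-!
# `Lq` hive (S2333), C-ORB sub-leaf CORB-ADD (exact-name wrapper of `cfixi_char`)
-/

namespace Cfsg.Agent.Lib.Helper21.Lq

open Module Cfsg.Agent.Lib.Helper6.Ls Cfsg.Agent.Lib.Helper13

section concrete

variable {F : Type*} [Field F] [Fintype F]

/-- CORB-ADD: every additive character of a finite field is `ψ(a ·)` for a fixed non-trivial `ψ`. -/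
theorem corb_addchar (ψ : F → ℂ) (hψ0 : ψ 0 = 1) (hψ : ∀ s t, ψ (s + t) = ψ s * ψ t)
    (hnt : ∃ c, ψ c ≠ 1) (χ : F → ℂ) (hχ0 : χ 0 = 1) (hχ : ∀ s t, χ (s + t) = χ s * χ t) :
    ∃ a : F, ∀ s, χ s = ψ (a * s) :=
  cfixi_char ψ χ hψ0 hψ hnt hχ0 hχ

end concrete

end Cfsg.Agent.Lib.Helper21.Lq
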