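import Mathlib

set_option autoImplicit false

namespace Cfsg.Agent.Lib.Helper60.NineD8

variable {S : Type*} [Group S] {M : Type*} [AddCommGroup M] [Module (ZMod 2) M]

theorem add_self2 (m : M) : m + m = 0 := ZModModule.add_self m

theorem eq_of_add2 {p q : M} (h : p + q = 0) : p = q := by
  rw [eq_neg_of_add_eq_zero_left h]; exact neg_eq_of_add_eq_zero_left (add_self2 q)

theorem zmod2_cases : ∀ x : ZMod 2, x = 0 ∨ x = 1 := by decide

theorem zmod2_add : ∀ x y : ZMod 2, x + y = 0 → x = y := by decide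

theorem rho_mul (ρ : Representation (ZMod 2) S M) (g h : S) (m : M) : ρ g (ρ h m) = ρ (g * h) m := by
  rw [map_mul]; rfl

theorem rho_one (ρ : Representation (ZMod 2) S M) (m : M) : ρ 1 m = m := by
  rw [map_one]; rfl

theorem rho_inv_fix (ρ : Representation (ZMod 2) S M) {g : S} {m : M} (h : ρ g m = m) : ρ g⁻¹ m = m := by
  conv_lhs => rw [← h]
  rw [rho_mul, inv_mul_cancel, rho_one]

theorem rho_inj (ρ : Representation (ZMod 2) S M) {g : S} {m : M} (h : ρ g m = 0) : m = 0 := by
  have := congrArg (ρ g⁻¹) h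
  rwa [rho_mul, inv_mul_cancel, rho_one, map_zero] at this

/-- the pointwise fixer of a vector, as a subgroup -/
def fixer (ρ : Representation (ZMod 2) S M) (m : M) : Subgroup S where
  carrier := {g | ρ g m = m}
  mul_mem' := by
    intro g h hg hh
    show ρ (g * h) m = m
    rw [← rho_mul, show ρ h m = m from hh]; exact hg
  one_mem' := rho_one ρ m
  inv_mem' := by intro g hg; exact rho_inv_fix ρ hg

/-- the forward stabilizer of a submodule; a subgroup since `S` is finite -/
def stab [Finite S] (ρ : Representation (ZMod 2) S M) (N : Submodule (ZMod 2) M) : Subgroup S where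
  carrier := {g | ∀ m ∈ N, ρ g m ∈ N}
  mul_mem' := by
    intro g h hg hh m hm
    rw [← rho_mul]; exact hg _ (hh _ hm)
  one_mem' := by intro m hm; rw [rho_one]; exact hm
  inv_mem' := by
    intro g hg
    show ∀ m ∈ N, ρ g⁻¹ m ∈ N
    have hpow : ∀ n : ℕ, ∀ m ∈ N, ρ (g ^ n) m ∈ N := by
      intro n
      induction n with
      | zero => intro m hm; rw [pow_zero, rho_one]; exact hm
      | succ k ih => intro m hm; rw [pow_succ, ← rho_mul]; exact ih _ (hg _ hm)
    have : g⁻¹ = g ^ (orderOf g - 1) := by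
      apply inv_eq_of_mul_eq_one_right
      rw [← pow_succ', Nat.sub_add_cancel (orderOf_pos g), pow_orderOf_eq_one]
    rw [this]; exact hpow _

theorem exists_fix_of_invol (ρ : Representation (ZMod 2) S M) (P : M → Prop)
    (hadd : ∀ x y, P x → P y → P (x + y)) (u : S) (hu : u * u = 1)
    (hPu : ∀ x, P x → P (ρ u x)) (m₀ : M) (hm₀ : P m₀) (hne : m₀ ≠ 0) :
    ∃ m, P m ∧ m ≠ 0 ∧ ρ u m = m := by
  by_cases h : m₀ + ρ u m₀ = 0
  · exact ⟨m₀, hm₀, hne, (eq_of_add2 h).symm⟩
  · refine ⟨m₀ + ρ u m₀, hadd _ _ hm₀ (hPu _ hm₀), h, ?_⟩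
    rw [map_add, rho_mul, hu, rho_one, add_comm]

end Cfsg.Agent.Lib.Helper60.NineD8
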