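import Cfsg.Agent.Lib.Helper60.NineD8

set_option autoImplicit false
set_option maxHeartbeats 1600000

namespace Cfsg.Agent.Lib.Helper60.NineD8

open DihedralGroup

theorem d4_sq : ∀ d : DihedralGroup 4, d * d = 1 →
    d = 1 ∨ d = r 2 ∨ d = sr 0 ∨ d = sr 1 ∨ d = sr 2 ∨ d = sr 3 := by decide

theorem d4_pair : ∀ d d' : DihedralGroup 4, d * d = 1 → d' * d' = 1 → (d * d') * (d * d') = 1 →
    d ≠ 1 → d ≠ r 2 → d' = 1 ∨ d' = r 2 ∨ d' = d ∨ d' = d * r 2 := by decide

theorem d4_gen (j : ZMod 4) (d : DihedralGroup 4) :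
    d ∈ Subgroup.closure ({r 1, sr j} : Set (DihedralGroup 4)) := by
  have h1 : (r 1 : DihedralGroup 4) ∈ Subgroup.closure ({r 1, sr j} : Set (DihedralGroup 4)) :=
    Subgroup.subset_closure (by simp)
  have h2 : (sr j : DihedralGroup 4) ∈ Subgroup.closure ({r 1, sr j} : Set (DihedralGroup 4)) :=
    Subgroup.subset_closure (by simp)
  have hr : ∀ i : ZMod 4, (r i : DihedralGroup 4) ∈ Subgroup.closure ({r 1, sr j} : Set (DihedralGroup 4)) := by
    intro i
    rw [← ZMod.natCast_zmod_val i, ← r_one_pow]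
    exact Subgroup.pow_mem _ h1 _
  rcases d with i | i
  · exact hr i
  · have : (sr i : DihedralGroup 4) = sr j * r (i - j) := by rw [sr_mul_r]; congr 1; ring
    rw [this]; exact Subgroup.mul_mem _ h2 (hr _)

variable {S : Type*} [Group S]

theorem four_sub (u z : S) (hu : u * u = 1) (hz : z * z = 1) (huz : u * z = z * u) :
    ∃ B : Subgroup S, ∀ x, x ∈ B ↔ (x = 1 ∨ x = z ∨ x = u ∨ x = u * z) := by
  have e1 : z * u = u * z := huz.symm
  have e2 : z * (u * z) = u := by rw [← mul_assoc, ← huz, mul_assoc, hz, mul_one]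
  have e3 : u * (u * z) = z := by rw [← mul_assoc, hu, one_mul]
  have e4 : u * z * z = u := by rw [mul_assoc, hz, mul_one]
  have e5 : u * z * u = z := by rw [mul_assoc, ← huz, ← mul_assoc, hu, one_mul]
  have e6 : u * z * (u * z) = 1 := by rw [mul_assoc, e2, hu]
  refine ⟨{ carrier := {x | x = 1 ∨ x = z ∨ x = u ∨ x = u * z}
            mul_mem' := ?_
            one_mem' := Or.inl rfl
            inv_mem' := ?_ }, fun x => Iff.rfl⟩
  · rintro x y (rfl | rfl | rfl | rfl) (rfl | rfl | rfl | rfl) <;>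
      simp only [Set.mem_ofPred_eq, one_mul, mul_one, hz, hu, e1, e2, e3, e4, e5, e6, true_or, or_true]
  · rintro x (rfl | rfl | rfl | rfl)
    · exact Or.inl inv_one
    · exact Or.inr (Or.inl (inv_eq_of_mul_eq_one_left hz))
    · exact Or.inr (Or.inr (Or.inl (inv_eq_of_mul_eq_one_left hu)))
    · exact Or.inr (Or.inr (Or.inr (inv_eq_of_mul_eq_one_left e6)))

theorem card_four (B : Subgroup S) (u z : S)
    (hB : ∀ x, x ∈ B ↔ (x = 1 ∨ x = z ∨ x = u ∨ x = u * z))
    (hz1 : z ≠ 1) (hu1 : u ≠ 1) (huz : u ≠ z) (hz2 : z * z = 1) : Nat.card B = 4 := by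
  have hset : (B : Set S) = {1, z, u, u * z} := by
    ext x; simp only [SetLike.mem_coe, hB, Set.mem_insert_iff, Set.mem_singleton_iff]
  have huz1 : u * z ≠ 1 := by
    intro h
    apply huz
    calc u = u * (z * z) := by rw [hz2, mul_one]
      _ = (u * z) * z := by rw [mul_assoc]
      _ = z := by rw [h, one_mul]
  show Nat.card ↥(B : Set S) = 4
  rw [Nat.card_coe_set_eq, hset, Set.ncard_insert_of_notMem, Set.ncard_insert_of_notMem,
    Set.ncard_insert_of_notMem, Set.ncard_singleton]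
  · simp only [Set.mem_singleton_iff]
    intro h
    exact hz1 (by simpa using h.symm)
  · simp only [Set.mem_insert_iff, Set.mem_singleton_iff, not_or]
    refine ⟨fun h => huz h.symm, fun h => hu1 ?_⟩
    simpa using h.symm
  · simp only [Set.mem_insert_iff, Set.mem_singleton_iff, not_or]
    exact ⟨fun h => hz1 h.symm, fun h => hu1 h.symm, fun h => huz1 h.symm⟩

omit [Group S] in
theorem ncard_four_le (a b c d : S) : ({a, b, c, d} : Set S).ncard ≤ 4 := by
  have h1 := Set.ncard_insert_le a ({b, c, d} : Set S)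
  have h2 := Set.ncard_insert_le b ({c, d} : Set S)
  have h3 := Set.ncard_insert_le c ({d} : Set S)
  rw [Set.ncard_singleton] at h3
  omega

theorem classify (f : DihedralGroup 4 →* S) (hf : Function.Injective f) (B : Subgroup S) [Finite B]
    (hBX : ∀ x ∈ B, ∃ d, f d = x) (hB4 : Nat.card B = 4) (hB2 : ∀ b ∈ B, b ^ 2 = 1) :
    ∃ u, (u = f (sr 0) ∨ u = f (sr 1)) ∧
      ∀ x, x ∈ B ↔ (x = 1 ∨ x = f (r 2) ∨ x = u ∨ x = u * f (r 2)) := by
  have hncard : (B : Set S).ncard = 4 := by rw [← Nat.card_coe_set_eq]; exact hB4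
  have hsq : ∀ d, f d ∈ B → d * d = 1 := by
    intro d hd
    apply hf
    rw [map_mul, map_one, ← pow_two]; exact hB2 _ hd
  -- an element outside {1, z}
  obtain ⟨x, hxB, hx1, hxz⟩ : ∃ x ∈ B, x ≠ 1 ∧ x ≠ f (r 2) := by
    by_contra hcon
    push Not at hcon
    have hsub : (B : Set S) ⊆ {1, f (r 2)} := by
      intro x hx
      by_cases h : x = 1
      · exact Or.inl h
      · exact Or.inr (hcon x hx h)
    have h1 := Set.ncard_le_ncard hsub (Set.toFinite _)
    have h2 := Set.ncard_insert_le (1 : S) ({f (r 2)} : Set S)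
    rw [Set.ncard_singleton] at h2
    omega
  obtain ⟨d, rfl⟩ := hBX x hxB
  have hd2 := hsq d hxB
  have hd1 : d ≠ 1 := by rintro rfl; exact hx1 (map_one f)
  have hdz : d ≠ r 2 := by rintro rfl; exact hxz rfl
  have hsub : (B : Set S) ⊆ {1, f (r 2), f d, f d * f (r 2)} := by
    intro y hy
    obtain ⟨d', rfl⟩ := hBX y hy
    have hd'2 := hsq d' hy
    have hprod : (d * d') * (d * d') = 1 := hsq _ (by rw [map_mul]; exact B.mul_mem hxB hy)
    rcases d4_pair d d' hd2 hd'2 hprod hd1 hdz with rfl | rfl | rfl | rfl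
    · exact Or.inl (map_one f)
    · exact Or.inr (Or.inl rfl)
    · exact Or.inr (Or.inr (Or.inl rfl))
    · exact Or.inr (Or.inr (Or.inr (map_mul f _ _)))
  have heq : (B : Set S) = {1, f (r 2), f d, f d * f (r 2)} :=
    Set.eq_of_subset_of_ncard_le hsub (by rw [hncard]; exact ncard_four_le _ _ _ _) (Set.toFinite _)
  have hmem : ∀ x, x ∈ B ↔ (x = 1 ∨ x = f (r 2) ∨ x = f d ∨ x = f d * f (r 2)) := by
    intro x
    rw [← SetLike.mem_coe, heq]
    simp only [Set.mem_insert_iff, Set.mem_singleton_iff]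
  have hzz : f (r 2) * f (r 2) = 1 := by
    rw [← map_mul, show (r 2 * r 2 : DihedralGroup 4) = 1 by decide, map_one]
  rcases d4_sq d hd2 with rfl | rfl | rfl | rfl | rfl | rfl
  · exact absurd rfl hd1
  · exact absurd rfl hdz
  · exact ⟨f (sr 0), Or.inl rfl, hmem⟩
  · exact ⟨f (sr 1), Or.inr rfl, hmem⟩
  · refine ⟨f (sr 0), Or.inl rfl, fun x => ?_⟩
    have e : f (sr 2) = f (sr 0) * f (r 2) := by rw [← map_mul]; congr 1
    have e' : f (sr 2) * f (r 2) = f (sr 0) := by rw [e, mul_assoc, hzz, mul_one]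
    rw [hmem x, e', e]; tauto
  · refine ⟨f (sr 1), Or.inr rfl, fun x => ?_⟩
    have e : f (sr 3) = f (sr 1) * f (r 2) := by rw [← map_mul]; congr 1
    have e' : f (sr 3) * f (r 2) = f (sr 1) := by rw [e, mul_assoc, hzz, mul_one]
    rw [hmem x, e', e]; tauto

/-- the central involution `z = r²` of the dihedral group inverts `A`. -/
theorem z_inverts [Finite S] (A : Subgroup S) [hAn : A.Normal]
    (hAab : ∀ x ∈ A, ∀ y ∈ A, x * y = y * x) (hA3 : ∀ x ∈ A, x ^ 3 = 1) (hA9 : Nat.card ↥A = 9)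
    (hAC : Subgroup.centralizer (A : Set S) = A)
    (r : S) (hr4 : r * r * (r * r) = 1) (hz1 : r * r ≠ 1) :
    ∀ x ∈ A, (r * r) * x * (r * r)⁻¹ = x⁻¹ := by
  obtain ⟨z, hz⟩ : ∃ z, z = r * r := ⟨_, rfl⟩
  rw [← hz] at hz1 ⊢
  have hzz : z * z = 1 := by rw [hz]; exact hr4
  have hzinv : z⁻¹ = z := inv_eq_of_mul_eq_one_left hzz
  have hzr : z * r = r * z := by rw [hz]; group
  let D : Subgroup S :=
    { carrier := {x | x ∈ A ∧ z * x * z⁻¹ = x⁻¹}
      mul_mem' := by
        rintro x y ⟨hx, hx'⟩ ⟨hy, hy'⟩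
        refine ⟨A.mul_mem hx hy, ?_⟩
        calc z * (x * y) * z⁻¹ = (z * x * z⁻¹) * (z * y * z⁻¹) := by group
          _ = x⁻¹ * y⁻¹ := by rw [hx', hy']
          _ = (y * x)⁻¹ := by group
          _ = (x * y)⁻¹ := by rw [hAab x hx y hy]
      one_mem' := ⟨A.one_mem, by group⟩
      inv_mem' := by
        rintro x ⟨hx, hx'⟩
        refine ⟨A.inv_mem hx, ?_⟩
        calc z * x⁻¹ * z⁻¹ = (z * x * z⁻¹)⁻¹ := by group
          _ = x⁻¹⁻¹ := by rw [hx'] }
  have hDA : D ≤ A := fun x hx => hx.1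
  have hDmem : ∀ x, x ∈ D ↔ (x ∈ A ∧ z * x * z⁻¹ = x⁻¹) := fun x => Iff.rfl
  -- D is nontrivial
  obtain ⟨d, hdD, hd1⟩ : ∃ d ∈ D, d ≠ 1 := by
    by_contra hcon
    push Not at hcon
    have hcent : z ∈ Subgroup.centralizer (A : Set S) := by
      rw [Subgroup.mem_centralizer_iff]
      intro x hx
      have hc : z * x * z⁻¹ ∈ A := hAn.conj_mem x hx z
      have hmem : x * (z * x * z⁻¹)⁻¹ ∈ D := by
        refine ⟨A.mul_mem hx (A.inv_mem hc), ?_⟩
        calc z * (x * (z * x * z⁻¹)⁻¹) * z⁻¹ = (z * x * z⁻¹) * ((z * z) * x⁻¹ * (z * z)⁻¹) := by group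
          _ = (z * x * z⁻¹) * x⁻¹ := by rw [hzz]; group
          _ = (x * (z * x * z⁻¹)⁻¹)⁻¹ := by group
      have h1 := hcon _ hmem
      have h2 : x = z * x * z⁻¹ := by
        calc x = (x * (z * x * z⁻¹)⁻¹) * (z * x * z⁻¹) := by group
          _ = z * x * z⁻¹ := by rw [h1, one_mul]
      calc x * z = (z * x * z⁻¹) * z := by rw [← h2]
        _ = z * x := by group
    rw [hAC] at hcent
    have h3 := hA3 z hcent
    apply hz1
    calc z = z ^ 3 * (z * z)⁻¹ := by group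
      _ = 1 := by rw [h3, hzz]; group
  have hdA : d ∈ A := hDA hdD
  have hdvd : Nat.card ↥D ∣ 3 ^ 2 := by
    have := Subgroup.card_dvd_of_le hDA
    rw [hA9] at this; exact this
  obtain ⟨k, hk, hkk⟩ := (Nat.dvd_prime_pow Nat.prime_three).1 hdvd
  interval_cases k
  · exfalso
    rw [pow_zero, Subgroup.card_eq_one] at hkk
    rw [hkk] at hdD
    exact hd1 (Subgroup.mem_bot.1 hdD)
  · exfalso
    have : Fact (Nat.Prime 3) := ⟨Nat.prime_three⟩
    have hod : orderOf d = 3 := orderOf_eq_prime (hA3 d hdA) hd1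
    have hzp : Subgroup.zpowers d = D :=
      Subgroup.eq_of_le_of_card_ge (Subgroup.zpowers_le.2 hdD) (by rw [hkk, Nat.card_zpowers, hod]; norm_num)
    have hmem : r * d * r⁻¹ ∈ D := by
      refine ⟨hAn.conj_mem d hdA r, ?_⟩
      calc z * (r * d * r⁻¹) * z⁻¹ = (z * r) * d * (z * r)⁻¹ := by group
        _ = (r * z) * d * (r * z)⁻¹ := by rw [hzr]
        _ = r * (z * d * z⁻¹) * r⁻¹ := by group
        _ = r * d⁻¹ * r⁻¹ := by rw [hdD.2]
        _ = (r * d * r⁻¹)⁻¹ := by group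
    rw [← hzp] at hmem
    obtain ⟨k, hk⟩ := Subgroup.mem_zpowers_iff.1 hmem
    have h1 : z * d * z⁻¹ = d ^ (k * k) := by
      calc z * d * z⁻¹ = r * (r * d * r⁻¹) * r⁻¹ := by rw [hz]; group
        _ = r * d ^ k * r⁻¹ := by rw [hk]
        _ = (r * d * r⁻¹) ^ k := by rw [conj_zpow]
        _ = (d ^ k) ^ k := by rw [hk]
        _ = d ^ (k * k) := by rw [← zpow_mul]
    have h2 : d ^ (k * k + 1) = 1 := by
      rw [zpow_add, zpow_one, ← h1, hdD.2]; group
    have h3 : (orderOf d : ℤ) ∣ k * k + 1 := orderOf_dvd_iff_zpow_eq_one.2 h2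
    rw [hod] at h3
    have h4 : (k * k + 1) % 3 = 0 := Int.emod_eq_zero_of_dvd (by exact_mod_cast h3)
    have hk3 : k % 3 = 0 ∨ k % 3 = 1 ∨ k % 3 = 2 := by omega
    rcases hk3 with h | h | h <;> simp [Int.add_emod, Int.mul_emod, h] at h4
  · intro x hx
    have hDA' : D = A := Subgroup.eq_of_le_of_card_ge hDA (by rw [hkk, hA9]; norm_num)
    have : x ∈ D := by rw [hDA']; exact hx
    exact this.2

/-- a nontrivial element of `A` centralized by the reflection `s`. -/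
theorem exists_centralized (A : Subgroup S) [hAn : A.Normal]
    (hAab : ∀ x ∈ A, ∀ y ∈ A, x * y = y * x) (hA3 : ∀ x ∈ A, x ^ 3 = 1)
    (hAC : Subgroup.centralizer (A : Set S) = A)
    (s z : S) (hs2 : s * s = 1) (hzz : z * z = 1) (hsz : s * z = z * s) (hne : s ≠ z)
    (hzA : ∀ x ∈ A, z * x * z⁻¹ = x⁻¹) :
    ∃ a ∈ A, a ≠ 1 ∧ s * a = a * s := by
  by_contra hcon
  push Not at hcon
  have hsinv : s⁻¹ = s := inv_eq_of_mul_eq_one_left hs2
  have hinv : ∀ x ∈ A, s * x * s⁻¹ = x⁻¹ := by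
    intro x hx
    have hc : s * x * s⁻¹ ∈ A := hAn.conj_mem x hx s
    have hmem : x * (s * x * s⁻¹) ∈ A := A.mul_mem hx hc
    have hcomm : s * (x * (s * x * s⁻¹)) = (x * (s * x * s⁻¹)) * s := by
      calc s * (x * (s * x * s⁻¹)) = (s * x * s⁻¹) * ((s * s) * x * s⁻¹) := by group
        _ = (s * x * s⁻¹) * x * s⁻¹ := by rw [hs2]; group
        _ = x * (s * x * s⁻¹) * s⁻¹ := by rw [hAab _ hc x hx]
        _ = x * (s * x * s⁻¹) * s := by rw [hsinv]
    have h1 : x * (s * x * s⁻¹) = 1 := by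
      by_contra h
      exact hcon _ hmem h hcomm
    calc s * x * s⁻¹ = x⁻¹ * (x * (s * x * s⁻¹)) := by group
      _ = x⁻¹ := by rw [h1, mul_one]
  have hcent : s * z ∈ Subgroup.centralizer (A : Set S) := by
    rw [Subgroup.mem_centralizer_iff]
    intro x hx
    have h1 := hzA x hx
    have h2 := hinv x⁻¹ (A.inv_mem hx)
    calc x * (s * z) = s * (s⁻¹ * x * s) * z := by group
      _ = s * (s * x * s⁻¹) * z := by rw [hsinv]
      _ = s * x⁻¹ * z := by rw [hinv x hx]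
      _ = s * (z * x * z⁻¹) * z := by rw [h1]
      _ = s * z * x := by group
  rw [hAC] at hcent
  have h3 := hA3 _ hcent
  have h4 : (s * z) * (s * z) = 1 := by
    calc (s * z) * (s * z) = s * (z * s) * z := by group
      _ = s * (s * z) * z := by rw [hsz]
      _ = (s * s) * (z * z) := by group
      _ = 1 := by rw [hs2, hzz, one_mul]
  have h5 : s * z = 1 := by
    rw [pow_succ, pow_two, h4, one_mul] at h3; exact h3
  apply hne
  calc s = (s * z) * z⁻¹ := by group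
    _ = z := by rw [h5, one_mul]; exact inv_eq_of_mul_eq_one_left hzz

/-- relations between `a`, `b = r a r⁻¹`, `r`, `s`. -/
theorem basic_rels (A : Subgroup S) (r s a : S) (hsr : s * r = r⁻¹ * s) (hr4 : r * r * (r * r) = 1)
    (ha : a ∈ A) (hsa : s * a = a * s) (hzA : ∀ x ∈ A, (r * r) * x * (r * r)⁻¹ = x⁻¹) :
    (r * a * r⁻¹)⁻¹ = r⁻¹ * a * r ∧ s * (r * a * r⁻¹) = (r * a * r⁻¹)⁻¹ * s := by
  have hb' : (r * a * r⁻¹)⁻¹ = r⁻¹ * a * r := by
    calc (r * a * r⁻¹)⁻¹ = r * a⁻¹ * r⁻¹ := by group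
      _ = r * ((r * r) * a * (r * r)⁻¹) * r⁻¹ := by rw [hzA a ha]
      _ = (r * r * (r * r)) * (r⁻¹ * a * r) * (r * r * (r * r))⁻¹ := by group
      _ = r⁻¹ * a * r := by rw [hr4]; group
  refine ⟨hb', ?_⟩
  have hsr' : s * r⁻¹ = r * s := by
    calc s * r⁻¹ = r * (r⁻¹ * s) * r⁻¹ := by group
      _ = r * (s * r) * r⁻¹ := by rw [hsr]
      _ = r * s := by group
  calc s * (r * a * r⁻¹) = (s * r) * a * r⁻¹ := by group
    _ = (r⁻¹ * s) * a * r⁻¹ := by rw [hsr]
    _ = r⁻¹ * (s * a) * r⁻¹ := by group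
    _ = r⁻¹ * (a * s) * r⁻¹ := by rw [hsa]
    _ = r⁻¹ * a * (s * r⁻¹) := by group
    _ = r⁻¹ * a * (r * s) := by rw [hsr']
    _ = (r⁻¹ * a * r) * s := by group
    _ = (r * a * r⁻¹)⁻¹ * s := by rw [hb']

variable {M : Type*} [AddCommGroup M] [Module (ZMod 2) M]

/-- one of `a`, `b`, `ab` has a nonzero fixed vector. -/
theorem fix_exists (ρ : Representation (ZMod 2) S M) (hfaith : Function.Injective ρ)
    (a b : S) (hab : a * b = b * a) (ha3 : a ^ 3 = 1) (hb3 : b ^ 3 = 1) (hne : a ≠ b) :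
    (∃ m : M, m ≠ 0 ∧ ρ a m = m) ∨ (∃ m : M, m ≠ 0 ∧ ρ b m = m) ∨ (∃ m : M, m ≠ 0 ∧ ρ (a * b) m = m) := by
  by_contra hcon
  push Not at hcon
  obtain ⟨h1, h2, h3⟩ := hcon
  have hm := rho_mul ρ
  have hE : ∀ c : S, c ^ 3 = 1 → (∀ m : M, m ≠ 0 → ρ c m ≠ m) → ∀ m : M, ρ c (ρ c m) = m + ρ c m := by
    intro c hc3 hc m
    have hc3' : c * c * c = 1 := by rw [pow_succ, pow_two] at hc3; exact hc3
    have h0 : m + ρ c m + ρ c (ρ c m) = 0 := by
      by_contra hne0
      apply hc _ hne0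
      rw [map_add, map_add, hm c c (ρ c m), hm (c * c) c m, hc3', rho_one]; abel
    exact (eq_of_add2 h0).symm
  have hEa := hE a ha3 h1
  have hEb := hE b hb3 h2
  have hab3 : (a * b) ^ 3 = 1 := by rw [(show Commute a b from hab).mul_pow, ha3, hb3, one_mul]
  have hEab := hE (a * b) hab3 h3
  apply hne
  apply hfaith
  apply LinearMap.ext
  intro m
  have e1 : ρ (a * b) (ρ (a * b) m) = ρ a (ρ a (ρ b (ρ b m))) := by
    rw [hm, hm, hm, hm]
    congr 2
    calc a * b * (a * b) = a * (b * a) * b := by group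
      _ = a * (a * b) * b := by rw [hab]
      _ = a * a * b * b := by group
  have e2 := hEab m
  rw [e1, hEb m, map_add, map_add, hEa m, hEa (ρ b m), ← hm a b m] at e2
  -- e2 : (m + ρ a m) + (ρ b m + ρ a (ρ b m)) = m + ρ a (ρ b m)
  have e3 : ρ a m + ρ b m = 0 := by
    have : ρ a m + ρ b m = ((m + ρ a m) + (ρ b m + ρ a (ρ b m))) - (m + ρ a (ρ b m)) := by abel
    rw [this, e2, sub_self]
  exact eq_of_add2 e3

/-- `A` has no nonzero fixed vectors. -/
theorem no_fixed (A : Subgroup S) [hAn : A.Normal] (hA9 : Nat.card ↥A = 9)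
    (ρ : Representation (ZMod 2) S M) (hfaith : Function.Injective ρ)
    (hirr : ∀ N : Submodule (ZMod 2) M, (∀ s : S, ∀ m ∈ N, ρ s m ∈ N) → N = ⊥ ∨ N = ⊤) :
    ∀ m : M, (∀ x ∈ A, ρ x m = m) → m = 0 := by
  let N : Submodule (ZMod 2) M :=
    { carrier := {m | ∀ x ∈ A, ρ x m = m}
      add_mem' := by intro m m' h h' x hx; rw [map_add, h x hx, h' x hx]
      zero_mem' := by intro x _; exact map_zero _
      smul_mem' := by intro c m h x hx; rw [map_smul, h x hx] }
  have hN : ∀ s : S, ∀ m ∈ N, ρ s m ∈ N := by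
    intro s m h x hx
    have hc : s⁻¹ * x * s⁻¹⁻¹ ∈ A := hAn.conj_mem x hx s⁻¹
    have : x * s = s * (s⁻¹ * x * s⁻¹⁻¹) := by group
    rw [rho_mul, this, ← rho_mul, h _ hc]
  rcases hirr N hN with h | h
  · intro m hm
    have : m ∈ N := hm
    rw [h] at this
    exact (Submodule.mem_bot _).1 this
  · exfalso
    have hall : ∀ x ∈ A, x = 1 := by
      intro x hx
      apply hfaith
      apply LinearMap.ext
      intro m
      have : m ∈ N := by rw [h]; trivial
      rw [this x hx, map_one]; rfl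
    have : A = ⊥ := (Subgroup.eq_bot_iff_forall _).2 hall
    rw [this, Subgroup.card_bot] at hA9
    omega

/-- fixed points of a four-group `{1, z, u, uz}`. -/
theorem fix_congr (ρ : Representation (ZMod 2) S M) (B : Subgroup S) (u z : S)
    (hB : ∀ x, x ∈ B ↔ (x = 1 ∨ x = z ∨ x = u ∨ x = u * z)) :
    Nat.card {m : M // ∀ b ∈ B, ρ b m = m} = Nat.card {m : M // ρ z m = m ∧ ρ u m = m} := by
  apply Nat.card_congr
  apply Equiv.subtypeEquivRight
  intro m
  constructor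
  · intro h
    exact ⟨h z ((hB z).2 (Or.inr (Or.inl rfl))), h u ((hB u).2 (Or.inr (Or.inr (Or.inl rfl))))⟩
  · rintro ⟨h1, h2⟩ b hb
    rcases (hB b).1 hb with rfl | rfl | rfl | rfl
    · exact rho_one ρ m
    · exact h1
    · exact h2
    · rw [← rho_mul, h1, h2]

end Cfsg.Agent.Lib.Helper60.NineD8
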