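import Cfsg.Agent.Lib.Helper60.NineD8

set_option autoImplicit false
set_option maxHeartbeats 1600000

namespace Cfsg.Agent.Lib.Helper60.NineD8

variable {S : Type*} [Group S] {M : Type*} [AddCommGroup M] [Module (ZMod 2) M]

theorem main_lemma [Finite S] (A : Subgroup S) [hAn : A.Normal]
    (hAab : ∀ x ∈ A, ∀ y ∈ A, x * y = y * x) (hA3 : ∀ x ∈ A, x ^ 3 = 1) (hA9 : Nat.card ↥A = 9)
    (ρ : Representation (ZMod 2) S M)
    (hirr : ∀ N : Submodule (ZMod 2) M, (∀ s : S, ∀ m ∈ N, ρ s m ∈ N) → N = ⊥ ∨ N = ⊤)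
    (hCA : ∀ m : M, (∀ x ∈ A, ρ x m = m) → m = 0)
    (r s a : S) (hs2 : s * s = 1) (hsr : s * r = r⁻¹ * s) (hr4 : r * r * (r * r) = 1)
    (ha : a ∈ A) (ha1 : a ≠ 1) (hsa : s * a = a * s)
    (hzA : ∀ x ∈ A, (r * r) * x * (r * r)⁻¹ = x⁻¹)
    (hgen : A ⊔ Subgroup.closure {r, s} = ⊤)
    (hfix : ∃ m : M, m ≠ 0 ∧ ρ a m = m) :
    Nat.card M = 16 ∧ Nat.card {m : M // ρ (r * r) m = m ∧ ρ s m = m} ≠ 2 ∧
      Nat.card {m : M // ρ (r * r) m = m ∧ ρ (s * r) m = m} = 2 := by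
  obtain ⟨b, hb⟩ : ∃ b, b = r * a * r⁻¹ := ⟨_, rfl⟩
  obtain ⟨z, hz⟩ : ∃ z, z = r * r := ⟨_, rfl⟩
  rw [← hz] at hzA ⊢
  have hzz : z * z = 1 := by rw [hz]; exact hr4
  have hbA : b ∈ A := by rw [hb]; exact hAn.conj_mem a ha r
  have hab : a * b = b * a := hAab a ha b hbA
  have hb3 : b * b * b = 1 := by have := hA3 b hbA; rwa [pow_succ, pow_two] at this
  have hbinv : b⁻¹ = b * b := inv_eq_of_mul_eq_one_left hb3
  have hr3 : r⁻¹ = r * r * r := inv_eq_of_mul_eq_one_left (by rw [← hr4]; group)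
  have hzinv : z⁻¹ = z := inv_eq_of_mul_eq_one_left hzz
  have hb' : b⁻¹ = r⁻¹ * a * r := by
    calc b⁻¹ = r * a⁻¹ * r⁻¹ := by rw [hb]; group
      _ = r * ((r * r) * a * (r * r)⁻¹) * r⁻¹ := by rw [← hz, hzA a ha]
      _ = (r * r * (r * r)) * (r⁻¹ * a * r) * (r * r * (r * r))⁻¹ := by group
      _ = r⁻¹ * a * r := by rw [hr4]; group
  have Rbr : b * r = r * a := by rw [hb]; group
  have Rar : a * r = r * (b * b) := by rw [← hbinv, hb']; group
  have Rzb : z * b = (b * b) * z := by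
    have := hzA b hbA
    rw [← hbinv, ← this]; group
  have Rza : a * z = z * a⁻¹ := by
    rw [← hzA a ha, hzinv]
    calc a * z = (z * z) * a * z := by rw [hzz, one_mul]
      _ = z * (z * a * z) := by group
  have hsr' : s * r⁻¹ = r * s := by
    calc s * r⁻¹ = r * (r⁻¹ * s) * r⁻¹ := by group
      _ = r * (s * r) * r⁻¹ := by rw [hsr]
      _ = r * s := by group
  have Rsb : s * b = (b * b) * s := by
    rw [← hbinv]
    calc s * b = (s * r) * a * r⁻¹ := by rw [hb]; group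
      _ = (r⁻¹ * s) * a * r⁻¹ := by rw [hsr]
      _ = r⁻¹ * (s * a) * r⁻¹ := by group
      _ = r⁻¹ * (a * s) * r⁻¹ := by rw [hsa]
      _ = r⁻¹ * a * (s * r⁻¹) := by group
      _ = r⁻¹ * a * (r * s) := by rw [hsr']
      _ = (r⁻¹ * a * r) * s := by group
      _ = b⁻¹ * s := by rw [hb']
  have Rsr : s * r = r * (z * s) := by rw [hsr, hr3, hz]; group
  have Rzr : z * r = r * z := by rw [hz]; group
  have Rsz : s * z = z * s := by
    calc s * z = (s * r) * r := by rw [hz]; group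
      _ = (r⁻¹ * s) * r := by rw [hsr]
      _ = r⁻¹ * (s * r) := by group
      _ = r⁻¹ * (r⁻¹ * s) := by rw [hsr]
      _ = z⁻¹ * s := by rw [hz]; group
      _ = z * s := by rw [hzinv]
  have hb1 : b ≠ 1 := by
    intro h
    apply ha1
    have : a = r⁻¹ * (r * a * r⁻¹) * r := by group
    rw [this, ← hb, h]; group
  -- A is generated by a and b
  have hsup : A ≤ Subgroup.zpowers a ⊔ Subgroup.zpowers b := by
    have hKA : Subgroup.zpowers a ⊔ Subgroup.zpowers b ≤ A :=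
      sup_le (Subgroup.zpowers_le.2 ha) (Subgroup.zpowers_le.2 hbA)
    have : Fact (Nat.Prime 3) := ⟨Nat.prime_three⟩
    have hoa : Nat.card (Subgroup.zpowers a) = 3 := by
      rw [Nat.card_zpowers]; exact orderOf_eq_prime (hA3 a ha) ha1
    have hob : Nat.card (Subgroup.zpowers b) = 3 := by
      rw [Nat.card_zpowers]; exact orderOf_eq_prime (hA3 b hbA) hb1
    have hdvd : Nat.card ↥(Subgroup.zpowers a ⊔ Subgroup.zpowers b) ∣ 3 ^ 2 := by
      have := Subgroup.card_dvd_of_le hKA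
      rw [hA9] at this; exact this
    have h3 : 3 ∣ Nat.card ↥(Subgroup.zpowers a ⊔ Subgroup.zpowers b) := by
      have := Subgroup.card_dvd_of_le (le_sup_left : Subgroup.zpowers a ≤ Subgroup.zpowers a ⊔ Subgroup.zpowers b)
      rw [hoa] at this; exact this
    obtain ⟨k, hk, hkk⟩ := (Nat.dvd_prime_pow Nat.prime_three).1 hdvd
    interval_cases k
    · rw [hkk] at h3; norm_num at h3
    · exfalso
      have e1 : Subgroup.zpowers a = Subgroup.zpowers a ⊔ Subgroup.zpowers b :=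
        Subgroup.eq_of_le_of_card_ge le_sup_left (by rw [hkk, hoa]; norm_num)
      have e2 : Subgroup.zpowers b = Subgroup.zpowers a ⊔ Subgroup.zpowers b :=
        Subgroup.eq_of_le_of_card_ge le_sup_right (by rw [hkk, hob]; norm_num)
      have hba : b ∈ Subgroup.zpowers a := by rw [e1, ← e2]; exact Subgroup.mem_zpowers b
      obtain ⟨k, hk⟩ := Subgroup.mem_zpowers_iff.1 hba
      have hc : s * b = b * s := by
        rw [← hk]; exact ((show Commute s a from hsa).zpow_right k).eq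
      rw [Rsb] at hc
      have h2 : b * b = b := mul_right_cancel hc
      exact hb1 (by simpa using h2)
    · intro x hx
      have : Subgroup.zpowers a ⊔ Subgroup.zpowers b = A :=
        Subgroup.eq_of_le_of_card_ge hKA (by rw [hkk, hA9]; norm_num)
      rw [this]; exact hx
  have hm := rho_mul ρ
  have hfix0 : ∀ m : M, ρ a m = m → ρ b m = m → m = 0 := by
    intro m h1 h2
    apply hCA
    intro x hx
    have : Subgroup.zpowers a ⊔ Subgroup.zpowers b ≤ fixer ρ m :=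
      sup_le (Subgroup.zpowers_le.2 h1) (Subgroup.zpowers_le.2 h2)
    exact this (hsup hx)
  -- the vector w
  obtain ⟨m₀, hm₀, hm₀a⟩ := hfix
  obtain ⟨m₁, hm₁a, hm₁, hm₁z⟩ := exists_fix_of_invol ρ (fun m => ρ a m = m)
    (by intro x y hx hy; simp only [map_add, hx, hy]) z hzz
    (by intro x hx; show ρ a (ρ z x) = ρ z x; rw [hm, Rza, ← hm, rho_inv_fix ρ hx]) m₀ hm₀a hm₀
  obtain ⟨w, ⟨hwa, hwz⟩, hw, hws⟩ := exists_fix_of_invol ρ (fun m => ρ a m = m ∧ ρ z m = m)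
    (by rintro x y ⟨h1, h2⟩ ⟨h3, h4⟩; exact ⟨by rw [map_add, h1, h3], by rw [map_add, h2, h4]⟩) s hs2
    (by
      rintro x ⟨h1, h2⟩
      exact ⟨by rw [hm, ← hsa, ← hm, h1], by rw [hm, ← Rsz, ← hm, h2]⟩) m₁ ⟨hm₁a, hm₁z⟩ hm₁
  have hwab : ρ a (ρ b w) = ρ b w := by rw [hm, hab, ← hm, hwa]
  have hE : ρ b (ρ b w) = w + ρ b w := by
    have h0 : w + ρ b w + ρ b (ρ b w) = 0 := by
      apply hfix0
      · rw [map_add, map_add, hwa, hwab, hm a b (ρ b w), hab, ← hm, hwab]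
      · rw [map_add, map_add, hm b b (ρ b w), hm (b * b) b w, hb3, rho_one]; abel
    exact (eq_of_add2 h0).symm
  have A2 : ρ a (ρ r w) = ρ r w + ρ r (ρ b w) := by rw [hm, Rar, ← hm, ← hm, hE, map_add]
  have A3 : ρ a (ρ r (ρ b w)) = ρ r w := by rw [hm, Rar, ← hm, hm (b * b), hb3, rho_one]
  have B2 : ρ b (ρ r w) = ρ r w := by rw [hm, Rbr, ← hm, hwa]
  have B3 : ρ b (ρ r (ρ b w)) = ρ r (ρ b w) := by rw [hm, Rbr, ← hm, hwab]
  have R2 : ρ r (ρ r w) = w := by rw [hm, ← hz, hwz]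
  have Z1 : ρ z (ρ b w) = w + ρ b w := by rw [hm, Rzb, ← hm, hwz, ← hm, hE]
  have R3 : ρ r (ρ r (ρ b w)) = w + ρ b w := by rw [hm, ← hz, Z1]
  have S1 : ρ s (ρ b w) = w + ρ b w := by rw [hm, Rsb, ← hm, hws, ← hm, hE]
  have S2 : ρ s (ρ r w) = ρ r w := by rw [hm, Rsr, ← hm, ← hm, hws, hwz]
  have S3 : ρ s (ρ r (ρ b w)) = ρ r (ρ b w) := by
    rw [hm, Rsr, ← hm, ← hm, S1, map_add, hwz, Z1, ← add_assoc, add_self2, zero_add]
  have Z2 : ρ z (ρ r w) = ρ r w := by rw [hm, Rzr, ← hm, hwz]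
  have Z3 : ρ z (ρ r (ρ b w)) = ρ r w + ρ r (ρ b w) := by rw [hm, Rzr, ← hm, Z1, map_add]
  -- the spanned submodule
  obtain ⟨V, hV⟩ : ∃ V : Submodule (ZMod 2) M,
      V = Submodule.span (ZMod 2) ({w, ρ b w, ρ r w, ρ r (ρ b w)} : Set M) := ⟨_, rfl⟩
  have hv0 : w ∈ V := by rw [hV]; exact Submodule.subset_span (by simp)
  have hv1 : ρ b w ∈ V := by rw [hV]; exact Submodule.subset_span (by simp)
  have hv2 : ρ r w ∈ V := by rw [hV]; exact Submodule.subset_span (by simp)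
  have hv3 : ρ r (ρ b w) ∈ V := by rw [hV]; exact Submodule.subset_span (by simp)
  have hstab : ∀ g : S, (ρ g w ∈ V ∧ ρ g (ρ b w) ∈ V ∧ ρ g (ρ r w) ∈ V ∧ ρ g (ρ r (ρ b w)) ∈ V) →
      g ∈ stab ρ V := by
    rintro g ⟨h0, h1, h2, h3⟩ m hmV
    have := (Submodule.map_span_le (ρ g) ({w, ρ b w, ρ r w, ρ r (ρ b w)} : Set M) V).2 (by
      intro x hx
      simp only [Set.mem_insert_iff, Set.mem_singleton_iff] at hx
      rcases hx with rfl | rfl | rfl | rfl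
      exacts [h0, h1, h2, h3])
    rw [← hV] at this
    exact this (Submodule.mem_map_of_mem hmV)
  have haS : a ∈ stab ρ V := hstab a ⟨by rw [hwa]; exact hv0, by rw [hwab]; exact hv1,
    by rw [A2]; exact V.add_mem hv2 hv3, by rw [A3]; exact hv2⟩
  have hbS : b ∈ stab ρ V := hstab b ⟨hv1, by rw [hE]; exact V.add_mem hv0 hv1,
    by rw [B2]; exact hv2, by rw [B3]; exact hv3⟩
  have hrS : r ∈ stab ρ V := hstab r ⟨hv2, hv3, by rw [R2]; exact hv0,
    by rw [R3]; exact V.add_mem hv0 hv1⟩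
  have hsS : s ∈ stab ρ V := hstab s ⟨by rw [hws]; exact hv0, by rw [S1]; exact V.add_mem hv0 hv1,
    by rw [S2]; exact hv2, by rw [S3]; exact hv3⟩
  have hall : (⊤ : Subgroup S) ≤ stab ρ V := by
    rw [← hgen]
    refine sup_le (le_trans hsup (sup_le (Subgroup.zpowers_le.2 haS) (Subgroup.zpowers_le.2 hbS))) ?_
    rw [Subgroup.closure_le]
    intro x hx
    simp only [Set.mem_insert_iff, Set.mem_singleton_iff] at hx
    rcases hx with rfl | rfl
    exacts [hrS, hsS]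
  have hVtop : V = ⊤ := by
    rcases hirr V (fun g m hmV => hall (Subgroup.mem_top g) m hmV) with h | h
    · exfalso; rw [h] at hv0; exact hw ((Submodule.mem_bot _).1 hv0)
    · exact h
  have hcoord : ∀ m : M, ∃ x0 x1 x2 x3 : ZMod 2,
      m = x0 • w + (x1 • ρ b w + (x2 • ρ r w + x3 • ρ r (ρ b w))) := by
    intro m
    have hmV : m ∈ V := by rw [hVtop]; trivial
    rw [hV, Submodule.mem_span_insert] at hmV
    obtain ⟨x0, m1, hm1, rfl⟩ := hmV
    rw [Submodule.mem_span_insert] at hm1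
    obtain ⟨x1, m2, hm2, rfl⟩ := hm1
    rw [Submodule.mem_span_insert] at hm2
    obtain ⟨x2, m3, hm3, rfl⟩ := hm2
    rw [Submodule.mem_span_singleton] at hm3
    obtain ⟨x3, rfl⟩ := hm3
    exact ⟨x0, x1, x2, x3, rfl⟩
  -- independence
  have ind2 : ∀ x y : ZMod 2, x • w + y • ρ b w = 0 → x = 0 ∧ y = 0 := by
    intro x y h
    rcases zmod2_cases x with rfl | rfl <;> rcases zmod2_cases y with rfl | rfl
    · exact ⟨rfl, rfl⟩
    · exfalso
      rw [zero_smul, zero_add, one_smul] at h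
      exact hw (rho_inj ρ h)
    · exfalso
      rw [zero_smul, add_zero, one_smul] at h
      exact hw h
    · exfalso
      rw [one_smul, one_smul] at h
      exact hw (hfix0 w hwa (eq_of_add2 h).symm)
  have ind4 : ∀ x0 x1 x2 x3 : ZMod 2,
      x0 • w + (x1 • ρ b w + (x2 • ρ r w + x3 • ρ r (ρ b w))) = 0 →
      x0 = 0 ∧ x1 = 0 ∧ x2 = 0 ∧ x3 = 0 := by
    intro x0 x1 x2 x3 h
    have hu : ρ a (x0 • w + x1 • ρ b w) = x0 • w + x1 • ρ b w := by
      rw [map_add, map_smul, map_smul, hwa, hwab]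
    have hu' : ρ a (x2 • w + x3 • ρ b w) = x2 • w + x3 • ρ b w := by
      rw [map_add, map_smul, map_smul, hwa, hwab]
    have hru' : ρ r (x2 • w + x3 • ρ b w) = x2 • ρ r w + x3 • ρ r (ρ b w) := by
      rw [map_add, map_smul, map_smul]
    have h' : (x0 • w + x1 • ρ b w) + ρ r (x2 • w + x3 • ρ b w) = 0 := by
      rw [hru', add_assoc]; exact h
    have hueq := eq_of_add2 h'
    have hub : ρ b (x0 • w + x1 • ρ b w) = x0 • w + x1 • ρ b w := by
      rw [hueq, hm, Rbr, ← hm, hu']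
    have hu0 := hfix0 _ hu hub
    have hu'0 : x2 • w + x3 • ρ b w = 0 := by
      rw [hu0] at hueq
      exact rho_inj ρ hueq.symm
    obtain ⟨e0, e1⟩ := ind2 _ _ hu0
    obtain ⟨e2, e3⟩ := ind2 _ _ hu'0
    exact ⟨e0, e1, e2, e3⟩
  have hinj : ∀ x0 x1 x2 x3 y0 y1 y2 y3 : ZMod 2,
      x0 • w + (x1 • ρ b w + (x2 • ρ r w + x3 • ρ r (ρ b w))) =
      y0 • w + (y1 • ρ b w + (y2 • ρ r w + y3 • ρ r (ρ b w))) →
      x0 = y0 ∧ x1 = y1 ∧ x2 = y2 ∧ x3 = y3 := by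
    intro x0 x1 x2 x3 y0 y1 y2 y3 h
    have h0 : (x0 + y0) • w + ((x1 + y1) • ρ b w + ((x2 + y2) • ρ r w + (x3 + y3) • ρ r (ρ b w))) = 0 := by
      have : (x0 + y0) • w + ((x1 + y1) • ρ b w + ((x2 + y2) • ρ r w + (x3 + y3) • ρ r (ρ b w)))
          = (x0 • w + (x1 • ρ b w + (x2 • ρ r w + x3 • ρ r (ρ b w)))) +
            (y0 • w + (y1 • ρ b w + (y2 • ρ r w + y3 • ρ r (ρ b w)))) := by
        simp only [add_smul]; abel
      rw [this, h]; exact add_self2 _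
    obtain ⟨e0, e1, e2, e3⟩ := ind4 _ _ _ _ h0
    exact ⟨zmod2_add _ _ e0, zmod2_add _ _ e1, zmod2_add _ _ e2, zmod2_add _ _ e3⟩
  -- cardinality
  have hcard : Nat.card M = 16 := by
    let f : ZMod 2 × ZMod 2 × ZMod 2 × ZMod 2 → M := fun x =>
      x.1 • w + (x.2.1 • ρ b w + (x.2.2.1 • ρ r w + x.2.2.2 • ρ r (ρ b w)))
    have hf : Function.Bijective f := by
      constructor
      · rintro ⟨x0, x1, x2, x3⟩ ⟨y0, y1, y2, y3⟩ h
        obtain ⟨e0, e1, e2, e3⟩ := hinj _ _ _ _ _ _ _ _ h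
        simp only [Prod.mk.injEq]; exact ⟨e0, e1, e2, e3⟩
      · intro m
        obtain ⟨x0, x1, x2, x3, rfl⟩ := hcoord m
        exact ⟨(x0, x1, x2, x3), rfl⟩
    rw [← Nat.card_eq_of_bijective f hf]
    simp
  have hzf : ∀ x0 x1 x2 x3 : ZMod 2,
      ρ z (x0 • w + (x1 • ρ b w + (x2 • ρ r w + x3 • ρ r (ρ b w)))) =
      (x0 + x1) • w + (x1 • ρ b w + ((x2 + x3) • ρ r w + x3 • ρ r (ρ b w))) := by
    intro x0 x1 x2 x3
    simp only [map_add, map_smul, hwz, Z1, Z2, Z3, smul_add, add_smul]; abel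
  have hFz : ∀ m : M, ρ z m = m → m = 0 ∨ m = w ∨ m = ρ r w ∨ m = w + ρ r w := by
    intro m hmz
    obtain ⟨x0, x1, x2, x3, rfl⟩ := hcoord m
    rw [hzf] at hmz
    obtain ⟨e0, -, e2, -⟩ := hinj _ _ _ _ _ _ _ _ hmz
    have e1' : x1 = 0 := by simpa using e0
    have e3' : x3 = 0 := by simpa using e2
    subst e1' e3'
    rcases zmod2_cases x0 with rfl | rfl <;> rcases zmod2_cases x2 with rfl | rfl <;> simp
  have hv2ne : ρ r w ≠ 0 := fun h => hw (rho_inj ρ h)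
  have hwv2 : w ≠ ρ r w := by
    intro h
    apply hw
    apply hfix0 w hwa
    calc ρ b w = ρ b (ρ r w) := by rw [← h]
      _ = ρ r w := B2
      _ = w := h.symm
  have hsr_w : ρ (s * r) w = ρ r w := by rw [← hm, S2]
  have hsr_v2 : ρ (s * r) (ρ r w) = w := by rw [← hm, R2, hws]
  refine ⟨hcard, ?_, ?_⟩
  · intro h2
    have h0 : ρ z (0 : M) = 0 ∧ ρ s (0 : M) = 0 := ⟨map_zero _, map_zero _⟩
    obtain ⟨y, -, hy⟩ := (Nat.card_eq_two_iff' (⟨0, h0⟩ : {m : M // ρ z m = m ∧ ρ s m = m})).1 h2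
    have e1 := hy ⟨w, hwz, hws⟩ (by intro h; exact hw (congrArg Subtype.val h))
    have e2 := hy ⟨ρ r w, Z2, S2⟩ (by intro h; exact hv2ne (congrArg Subtype.val h))
    exact hwv2 (congrArg Subtype.val (e1.trans e2.symm))
  · have h0 : ρ z (0 : M) = 0 ∧ ρ (s * r) (0 : M) = 0 := ⟨map_zero _, map_zero _⟩
    have h3 : ρ z (w + ρ r w) = w + ρ r w ∧ ρ (s * r) (w + ρ r w) = w + ρ r w := by
      constructor
      · rw [map_add, hwz, Z2]
      · rw [map_add, hsr_w, hsr_v2, add_comm]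
    rw [Nat.card_eq_two_iff' (⟨0, h0⟩ : {m : M // ρ z m = m ∧ ρ (s * r) m = m})]
    refine ⟨⟨w + ρ r w, h3⟩, ?_, ?_⟩
    · intro h; exact hwv2 (eq_of_add2 (congrArg Subtype.val h))
    · rintro ⟨m, hmz, hmsr⟩ hne
      rcases hFz m hmz with rfl | rfl | rfl | rfl
      · exact absurd rfl hne
      · exfalso; rw [hsr_w] at hmsr; exact hwv2 hmsr.symm
      · exfalso; rw [hsr_v2] at hmsr; exact hwv2 hmsr
      · rfl

end Cfsg.Agent.Lib.Helper60.NineD8
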