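import Mathlib
import Cfsg.Agent.Lib.Helper14.P4Defs

/-! # S6000 hive (helper14), leaf P4-P3: cube roots of unity in the prime field -/

set_option autoImplicit false

namespace Cfsg.Agent.Lib.Helper14.P4

open Matrix

variable {F : Type*} [Field F] [Fintype F]

/-- P4-P3.  Cube roots of unity in `𝔽_p`. -/
theorem cube_root_facts {p : ℕ} [Fact p.Prime] [CharP F p] (hF : Fintype.card F = p) :
    (p % 3 = 2 → ∀ w : F, w * w + w + 1 ≠ 0) ∧ (p % 3 = 1 → ∃ w : F, w * w + w + 1 = 0) := by
  have hp : p.Prime := Fact.out
  have hcard : Nat.card Fˣ = p - 1 := by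
    rw [Nat.card_units, Nat.card_eq_fintype_card, hF]
  have h3 : p % 3 ≠ 0 → (3 : F) ≠ 0 := by
    intro h h0
    have : ((3 : ℕ) : F) = 0 := by exact_mod_cast h0
    rw [CharP.cast_eq_zero_iff F p] at this
    have := (Nat.prime_dvd_prime_iff_eq hp Nat.prime_three).mp this
    omega
  constructor
  · intro hp3 w hw
    have hw3 : w ^ 3 = 1 := by
      have : w ^ 3 - 1 = (w - 1) * (w * w + w + 1) := by ring
      rw [hw, mul_zero, sub_eq_zero] at this
      exact this
    have hw1 : w ≠ 1 := by
      rintro rfl
      apply h3 (by omega)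
      rw [← hw]; ring
    have hw0 : w ≠ 0 := by
      rintro rfl
      simp at hw3
    have ho : orderOf (Units.mk0 w hw0) = 3 := by
      apply orderOf_eq_prime
      · apply Units.ext
        simpa using hw3
      · intro h
        apply hw1
        simpa using congrArg Units.val h
    have hdvd : 3 ∣ p - 1 := by
      rw [← hcard, ← ho]
      exact orderOf_dvd_natCard _
    have := hp.two_le
    omega
  · intro hp1
    have hdvd : 3 ∣ Nat.card Fˣ := by
      rw [hcard]
      have := hp.two_le
      omega
    have : Fact (Nat.Prime 3) := ⟨Nat.prime_three⟩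
    obtain ⟨g, hg⟩ := exists_prime_orderOf_dvd_card' 3 hdvd
    refine ⟨(g : F), ?_⟩
    have hg3 : (g : F) ^ 3 = 1 := by
      have := pow_orderOf_eq_one g
      rw [hg] at this
      simpa using congrArg Units.val this
    have hg1 : (g : F) ≠ 1 := by
      intro h
      have : g = 1 := Units.ext (by simpa using h)
      rw [this, orderOf_one] at hg
      omega
    have hfac : ((g : F) - 1) * ((g : F) * g + g + 1) = 0 := by
      have : ((g : F) - 1) * ((g : F) * g + g + 1) = (g : F) ^ 3 - 1 := by ring
      rw [this, hg3, sub_self]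
    exact (mul_eq_zero.mp hfac).resolve_left (sub_ne_zero.mpr hg1)

end Cfsg.Agent.Lib.Helper14.P4
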