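import Mathlib
import Cfsg.Agent.Lib.Helper14.P4Defs

/-! # S6000 hive (helper14), leaf P4-PR: `r`-th roots in the prime field -/

set_option autoImplicit false

namespace Cfsg.Agent.Lib.Helper14.P4

open Matrix

variable {F : Type*} [Field F] [Fintype F]

/-- P4-PR.  `r`-th roots exist when `r` is prime to `p - 1` (`r ≠ 0` is needed for `p = 2`,
`z = 0`). -/
theorem exists_root_of_coprime {p : ℕ} [Fact p.Prime] [CharP F p] (hF : Fintype.card F = p)
    (r : ℕ) (hr : Nat.Coprime r (p - 1)) (hr0 : r ≠ 0) (z : F) : ∃ c : F, c ^ r = z := by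
  by_cases hz : z = 0
  · exact ⟨0, by rw [hz, zero_pow hr0]⟩
  · have hcard : Nat.card Fˣ = p - 1 := by
      rw [Nat.card_units, Nat.card_eq_fintype_card, hF]
    have hcop : (Nat.card Fˣ).Coprime r := by
      rw [hcard]; exact hr.symm
    obtain ⟨c, hc⟩ := (powCoprime hcop).surjective (Units.mk0 z hz)
    refine ⟨(c : F), ?_⟩
    have := congrArg Units.val hc
    simpa [powCoprime_apply] using this

/-- variant: `2 < p` instead of `r ≠ 0` -/
theorem exists_root_of_coprime_of_two_lt {p : ℕ} [Fact p.Prime] [CharP F p]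
    (hF : Fintype.card F = p) (hp2 : 2 < p)
    (r : ℕ) (hr : Nat.Coprime r (p - 1)) (z : F) : ∃ c : F, c ^ r = z := by
  apply exists_root_of_coprime hF r hr _ z
  rintro rfl
  rw [Nat.coprime_zero_left] at hr
  omega

end Cfsg.Agent.Lib.Helper14.P4
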