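import Mathlib
import Cfsg.Agent.Lib.Helper14.P4Defs
import Cfsg.Agent.Lib.Helper60.P4P3
import Cfsg.Agent.Lib.Helper60.P4P5

/-! # S6001 hive (helper14), leaf P4U-P: arithmetic of `𝔽_{p²}`, `p ≡ 3 (mod 4)` -/

set_option autoImplicit false

namespace Cfsg.Agent.Lib.Helper14.P4

open Matrix

variable {F : Type*} [Field F] [Fintype F] {p : ℕ} [Fact p.Prime] [CharP F p]

omit [Fintype F] in
/-- Elements of the prime field are fixed by Frobenius. -/
theorem up_cast_pow (a : ZMod p) : (ZMod.castHom (dvd_refl p) F a) ^ p = ZMod.castHom (dvd_refl p) F a := by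
  rw [← map_pow, ZMod.pow_card]

/-- An element of order 3 in a field whose unit group has order divisible by 3. -/
theorem up_exists_cube_root (h3 : 3 ∣ Fintype.card F - 1) :
    ∃ w : F, w * w + w + 1 = 0 := by
  classical
  have : Fact (Nat.Prime 3) := ⟨Nat.prime_three⟩
  have hcard : Nat.card Fˣ = Fintype.card F - 1 := by
    rw [Nat.card_units, Nat.card_eq_fintype_card]
  obtain ⟨g, hg⟩ := exists_prime_orderOf_dvd_card' (G := Fˣ) 3 (by rw [hcard]; exact h3)
  refine ⟨(g : F), ?_⟩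
  have hg3 : g ^ 3 = 1 := by rw [← hg]; exact pow_orderOf_eq_one g
  have hg1 : g ≠ 1 := by
    intro h1
    rw [h1, orderOf_one] at hg
    omega
  have h3F : ((g : F)) ^ 3 = 1 := by
    have := congrArg (fun u : Fˣ => (u : F)) hg3
    simpa using this
  have hne : (g : F) - 1 ≠ 0 := by
    intro h0
    apply hg1
    ext
    rw [sub_eq_zero] at h0
    simpa using h0
  have hfac : ((g : F) - 1) * ((g : F) * (g : F) + (g : F) + 1) = 0 := by
    have : ((g : F) - 1) * ((g : F) * (g : F) + (g : F) + 1) = (g : F) ^ 3 - 1 := by ring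
    rw [this, h3F, sub_self]
  exact (mul_eq_zero.mp hfac).resolve_left hne

/-- P4U-P.  Arithmetic facts in `F = 𝔽_{p²}`, `p ≡ 3 (mod 4)`. -/
theorem unitary_field_facts (hF : Fintype.card F = p ^ 2) (hp4 : p % 4 = 3) :
    (∃ i : F, i * i = -1 ∧ i ^ p = -i) ∧
    (p % 3 = 1 → ∃ w : F, w * w + w + 1 = 0 ∧ w ^ p = w) ∧
    (p % 3 = 2 → ∃ w : F, w * w + w + 1 = 0 ∧ w ^ (p + 1) = 1) ∧
    (orderOf (p : ZMod 5) ≠ 4 → ∃ u : F, u * u + u - 1 = 0 ∧ u ^ p = u) := by
  have hp : p.Prime := Fact.out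
  have hp2 : p ≠ 2 := by
    intro h; rw [h] at hp4; omega
  have h2 : (2 : F) ≠ 0 := by
    intro h0
    have : ((2 : ℕ) : F) = 0 := by exact_mod_cast h0
    rw [CharP.cast_eq_zero_iff F p] at this
    have := (Nat.prime_dvd_prime_iff_eq hp Nat.prime_two).mp this
    omega
  let φ : ZMod p →+* F := ZMod.castHom (dvd_refl p) F
  refine ⟨?_, ?_, ?_, ?_⟩
  · -- `-1` is a square as `p² ≡ 1 (mod 4)`
    have hsq : IsSquare (-1 : F) := by
      rw [FiniteField.isSquare_neg_one_iff, hF]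
      have : p ^ 2 % 4 = 1 := by
        rw [Nat.pow_mod, hp4]
      omega
    obtain ⟨i, hi⟩ := hsq
    refine ⟨i, hi.symm, ?_⟩
    obtain ⟨k, hk⟩ : ∃ k, p = 4 * k + 3 := ⟨p / 4, by omega⟩
    have hi4 : i ^ 4 = 1 := by
      have : i ^ 4 = (i * i) * (i * i) := by ring
      rw [this, ← hi]; ring
    rw [hk, pow_add, pow_mul, hi4, one_pow, one_mul]
    have : i ^ 3 = (i * i) * i := by ring
    rw [this, ← hi]; ring
  · intro hp3
    have hZ : Fintype.card (ZMod p) = p := ZMod.card p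
    obtain ⟨w0, hw0⟩ := (cube_root_facts (F := ZMod p) (p := p) hZ).2 hp3
    refine ⟨φ w0, ?_, up_cast_pow w0⟩
    have := congrArg φ hw0
    simpa using this
  · intro hp3
    have h3 : 3 ∣ Fintype.card F - 1 := by
      rw [hF]
      have h3' : 3 ∣ p + 1 := by omega
      have : p ^ 2 - 1 = (p + 1) * (p - 1) := by
        have hp1 : 1 ≤ p := hp.one_lt.le
        obtain ⟨m, rfl⟩ : ∃ m, p = m + 1 := ⟨p - 1, by omega⟩
        simp only [Nat.add_sub_cancel]
        have : (m + 1) ^ 2 = (m + 1 + 1) * m + 1 := by ring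
        rw [this, Nat.add_sub_cancel]
      rw [this]
      exact Dvd.dvd.mul_right h3' _
    obtain ⟨w, hw⟩ := up_exists_cube_root (F := F) h3
    refine ⟨w, hw, ?_⟩
    have hw3 : w ^ 3 = 1 := by
      have : w ^ 3 - 1 = (w - 1) * (w * w + w + 1) := by ring
      rw [hw, mul_zero, sub_eq_zero] at this
      exact this
    obtain ⟨k, hk⟩ : ∃ k, p + 1 = 3 * k := ⟨(p + 1) / 3, by omega⟩
    rw [hk, pow_mul, hw3, one_pow]
  · intro ho
    have : Fact (Nat.Prime 5) := ⟨by norm_num⟩
    have hp5 : p ≠ 5 := by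
      intro h; rw [h] at hp4; omega
    have hcast : ((p : ℕ) : ZMod 5) = ((p % 5 : ℕ) : ZMod 5) := by
      rw [ZMod.natCast_mod]
    have hmod : p % 5 = 1 ∨ p % 5 = 4 := by
      have hlt : p % 5 < 5 := Nat.mod_lt _ (by norm_num)
      interval_cases h : p % 5
      · exfalso
        have : 5 ∣ p := Nat.dvd_of_mod_eq_zero h
        exact hp5 ((Nat.prime_dvd_prime_iff_eq (by norm_num) hp).mp this).symm
      · left; rfl
      · exfalso; apply ho; rw [hcast]; exact p5_orderOf_two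
      · exfalso; apply ho; rw [hcast]; exact p5_orderOf_three
      · right; rfl
    have hsq5 : IsSquare ((p : ℕ) : ZMod 5) := by
      rw [hcast]
      rcases hmod with h | h <;> rw [h]
      · exact ⟨1, by norm_num⟩
      · refine ⟨2, ?_⟩
        have : ((4 : ℕ) : ZMod 5) = 2 * 2 := by
          norm_num
        exact this
    have hsq : IsSquare ((5 : ℕ) : ZMod p) :=
      (ZMod.exists_sq_eq_prime_iff_of_mod_four_eq_one (p := 5) (q := p) (by norm_num) hp2).mp hsq5
    obtain ⟨s0, hs0⟩ := hsq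
    have h2Z : (2 : ZMod p) ≠ 0 := by
      intro h0
      have : ((2 : ℕ) : ZMod p) = 0 := by exact_mod_cast h0
      rw [ZMod.natCast_eq_zero_iff] at this
      have := (Nat.prime_dvd_prime_iff_eq hp Nat.prime_two).mp this
      omega
    have hu0 : ((-1 + s0) / 2) * ((-1 + s0) / 2) + ((-1 + s0) / 2) - 1 = (0 : ZMod p) := by
      have hs5 : s0 * s0 = 5 := by rw [← hs0]; norm_num
      field_simp
      linear_combination hs5
    refine ⟨φ ((-1 + s0) / 2), ?_, up_cast_pow _⟩
    have := congrArg φ hu0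
    simpa using this

end Cfsg.Agent.Lib.Helper14.P4
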