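import Cfsg.Agent.Lib.Helper38.RhDefsB

/-! # Rh hive (helper38), Part B, leaf RH-FIX3 (core): the possible numbers of fixed points of `g ≠ 1` on `G / B`,
with the statements of RH-FIX2 / RH-FIXH / RH-FIXC as hypotheses. -/

set_option autoImplicit false

namespace Cfsg.Agent.Lib.Helper38.Rh

open Cfsg.Agent.Lib.Helper12.Rt

section partB
variable {K : Type*} [Field K] [Fintype K] {G : Type*} [Group G] {m : ℕ} (D : RtData K G m)

/-- RH-FIX3 core: involutions fix `q + 1` points (given RH-FIXC `fixN_conj` and RH-FIXH `fixN_a`). -/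
theorem fix3_invol_core
    (hconj : ∀ g c : G, fixN D (c * g * c⁻¹) = fixN D g)
    (ha : fixN D (D.R.h (-1)) = qq m + 1)
    (g : G) (hg : g ≠ 1) (hg2 : g * g = 1) : fixN D g = qq m + 1 := by
  obtain ⟨c, hc⟩ := D.inv_conj g hg hg2
  rw [← hc, hconj, D.hIa, ha]

/-- RH-FIX3 core: the possible numbers of fixed points of `g ≠ 1` (given RH-FIXC `fixN_conj`, RH-FIXH `fixN_a` / `fixN_h`,
RH-FIX2 `conj_h_of_two_le`). -/
theorem fix3_cases_core
    (hconj : ∀ g c : G, fixN D (c * g * c⁻¹) = fixN D g)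
    (ha : fixN D (D.R.h (-1)) = qq m + 1)
    (hh : ∀ s : Kˣ, s ≠ 1 → s ≠ -1 → fixN D (D.R.h s) = 2)
    (h2 : ∀ g : G, 2 ≤ fixN D g → ∃ (c : G) (s : Kˣ), c * g * c⁻¹ = D.R.h s)
    (g : G) (hg : g ≠ 1) :
    fixN D g = 0 ∨ fixN D g = 1 ∨ fixN D g = 2 ∨ (fixN D g = qq m + 1 ∧ g * g = 1) := by
  by_cases hk : 2 ≤ fixN D g
  · obtain ⟨c, s, hcs⟩ := h2 g hk
    have hfix : fixN D g = fixN D (D.R.h s) := by rw [← hcs, hconj]
    have hgc : g = c⁻¹ * D.R.h s * c := by rw [← hcs]; group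
    by_cases hs1 : s = 1
    · exfalso
      apply hg
      rw [hgc, hs1, map_one]
      group
    by_cases hs2 : s = -1
    · right; right; right
      refine ⟨by rw [hfix, hs2, ha], ?_⟩
      have hsq : D.R.h s * D.R.h s = 1 := by
        rw [← map_mul, hs2]
        simp
      calc g * g = c⁻¹ * (D.R.h s * D.R.h s) * c := by rw [hgc]; group
        _ = 1 := by rw [hsq]; group
    · right; right; left
      rw [hfix]
      exact hh s hs1 hs2
  · omega

end partB

end Cfsg.Agent.Lib.Helper38.Rh
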