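import Mathlib
import Cfsg.Prelude.Def_Classical
import Cfsg.Prelude.Def_LieRecognition
import Cfsg.Agent.Lib.Helper5.HermCount

/-!
# The Sylow 2-subgroup of `SU_3(q)`, `q` even (helper60)

`T F q` is the abstract group of pairs `(s, a)`, `a + a^q = s * s^q`, with
`(s, a) (s', a') = (s + s', a + a' + s' * s^q)`; it embeds in `Cfsg.SU 3 F q` (identity Hermitian form,
isotropic vector `(1, 1, 0)`), and injects into `Cfsg.PSU 3 F q`.
-/

set_option autoImplicit false

namespace Cfsg.Agent.Lib.Helper60.SU3Even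

open Matrix
open scoped commutatorElement

/-- hypotheses: `|F| = q ^ 2` and characteristic two -/
class EvenQ (F : Type*) [Field F] [Fintype F] (q : ℕ) : Prop where
  card : Fintype.card F = q ^ 2
  two : (2 : F) = 0

variable {F : Type*} [Field F] [Fintype F] {q : ℕ}

theorem EvenQ.of_pow {n : ℕ} (hF : Fintype.card F = (2 ^ n) ^ 2) : EvenQ F (2 ^ n) := by
  refine ⟨hF, ?_⟩
  have h0 : ((Fintype.card F : ℕ) : F) = 0 := Nat.cast_card_eq_zero F
  rw [hF] at h0
  push_cast at h0
  exact pow_eq_zero_iff (M₀ := F) (a := (2 : F)) (n := 2) (by norm_num) |>.mp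
    (pow_eq_zero_iff (M₀ := F) (a := (2 : F) ^ 2) (n := n) (by
      rintro rfl
      have := Fintype.one_lt_card (α := F)
      simp at hF
      omega) |>.mp (by rw [← pow_mul, mul_comm, pow_mul]; exact h0))

theorem two0 (F : Type*) [Field F] [Fintype F] (q : ℕ) [EvenQ F q] : (2 : F) = 0 :=
  EvenQ.two q

theorem two_le_q (F : Type*) [Field F] [Fintype F] (q : ℕ) [EvenQ F q] : 2 ≤ q :=
  Cfsg.Agent.Lib.Helper5.two_le_of_card (EvenQ.card (F := F) (q := q))

theorem fa [EvenQ F q] (x y : F) : (x + y) ^ q = x ^ q + y ^ q :=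
  Cfsg.Agent.Lib.Helper5.frob_add EvenQ.card x y

theorem ff [EvenQ F q] (x : F) : (x ^ q) ^ q = x :=
  Cfsg.Agent.Lib.Helper5.pow_q_pow_q EvenQ.card x

theorem z0 [EvenQ F q] : (0 : F) ^ q = 0 :=
  zero_pow (by have := two_le_q F q; omega)

theorem add_self0 (q : ℕ) [EvenQ F q] (x : F) : x + x = 0 := by
  linear_combination x * two0 F q

/-- the trace map `x ↦ x + x ^ q` -/
def tr (F : Type*) [Field F] [Fintype F] (q : ℕ) [EvenQ F q] : F →+ F where
  toFun x := x + x ^ q
  map_zero' := by simp [z0]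
  map_add' x y := by rw [fa]; ring

theorem tr_apply [EvenQ F q] (x : F) : tr F q x = x + x ^ q := rfl

theorem mem_ker_tr [EvenQ F q] (x : F) : x ∈ (tr F q).ker ↔ x ^ q = x := by
  rw [AddMonoidHom.mem_ker, tr_apply]
  constructor
  · intro h; linear_combination h - x * two0 F q
  · intro h; linear_combination h + x * two0 F q

theorem card_ker_le [EvenQ F q] : Nat.card (tr F q).ker ≤ q := by
  classical
  have hq1 : 1 < q := by have := two_le_q F q; omega
  have hp0 : (Polynomial.X ^ q - Polynomial.X : Polynomial F) ≠ 0 :=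
    FiniteField.X_pow_card_sub_X_ne_zero F hq1
  have hsub : (Finset.univ.filter (fun x : F => x ∈ (tr F q).ker)) ⊆
      (Polynomial.X ^ q - Polynomial.X : Polynomial F).roots.toFinset := by
    intro x hx
    simp only [Finset.mem_filter, Finset.mem_univ, true_and] at hx
    rw [Multiset.mem_toFinset, Polynomial.mem_roots hp0]
    simp [(mem_ker_tr x).mp hx]
  calc Nat.card (tr F q).ker = (Finset.univ.filter (fun x : F => x ∈ (tr F q).ker)).card := by
        rw [Nat.card_eq_fintype_card, Fintype.card_subtype]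
    _ ≤ (Polynomial.X ^ q - Polynomial.X : Polynomial F).roots.toFinset.card :=
        Finset.card_le_card hsub
    _ ≤ Multiset.card (Polynomial.X ^ q - Polynomial.X : Polynomial F).roots :=
        Multiset.toFinset_card_le _
    _ ≤ (Polynomial.X ^ q - Polynomial.X : Polynomial F).natDegree := Polynomial.card_roots' _
    _ = q := FiniteField.X_pow_card_sub_X_natDegree_eq F hq1

theorem range_le_ker [EvenQ F q] : (tr F q).range ≤ (tr F q).ker := by
  rintro _ ⟨x, rfl⟩
  rw [mem_ker_tr, tr_apply, fa, ff]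
  ring

theorem card_ker [EvenQ F q] : Nat.card (tr F q).ker = q := by
  have h1 : Nat.card (tr F q).ker * (tr F q).ker.index = Nat.card F :=
    AddSubgroup.card_mul_index _
  have h2 : (tr F q).ker.index = Nat.card (tr F q).range := AddSubgroup.index_ker _
  have h3 : Nat.card F = q ^ 2 := by rw [Nat.card_eq_fintype_card, EvenQ.card (F := F) (q := q)]
  have h4 : Nat.card (tr F q).range ≤ Nat.card (tr F q).ker :=
    AddSubgroup.card_le_of_le range_le_ker
  have h5 := card_ker_le (F := F) (q := q)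
  rw [h2, h3] at h1
  by_contra hne
  have : Nat.card (tr F q).ker < q := lt_of_le_of_ne h5 hne
  nlinarith

theorem range_eq_ker [EvenQ F q] : (tr F q).range = (tr F q).ker := by
  apply AddSubgroup.eq_of_le_of_card_ge range_le_ker
  have h1 : Nat.card (tr F q).ker * (tr F q).ker.index = Nat.card F :=
    AddSubgroup.card_mul_index _
  have h2 : (tr F q).ker.index = Nat.card (tr F q).range := AddSubgroup.index_ker _
  have h3 : Nat.card F = q ^ 2 := by rw [Nat.card_eq_fintype_card, EvenQ.card (F := F) (q := q)]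
  rw [h2, h3, card_ker] at h1
  rw [card_ker]
  have hq := two_le_q F q
  nlinarith

theorem exists_tr [EvenQ F q] (c : F) (hc : c ^ q = c) : ∃ x : F, x + x ^ q = c := by
  have : c ∈ (tr F q).range := by rw [range_eq_ker]; exact (mem_ker_tr c).mpr hc
  obtain ⟨x, hx⟩ := this
  exact ⟨x, hx⟩

theorem exists_not_fixed [EvenQ F q] : ∃ w : F, w ^ q ≠ w := by
  by_contra hcon
  push Not at hcon
  have htop : (tr F q).ker = ⊤ := by
    rw [eq_top_iff]; intro x _; exact (mem_ker_tr x).mpr (hcon x)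
  have h1 := card_ker (F := F) (q := q)
  rw [htop, AddSubgroup.card_top, Nat.card_eq_fintype_card, EvenQ.card (F := F) (q := q)] at h1
  have hq := two_le_q F q
  nlinarith


theorem q_eq_two_pow (F : Type*) [Field F] [Fintype F] (q : ℕ) [EvenQ F q] : ∃ j : ℕ, q = 2 ^ j := by
  obtain ⟨p, j, hp, hchar, hj⟩ := Cfsg.Agent.Lib.Helper5.exists_prime_pow
    (EvenQ.card (F := F) (q := q))
  have h2 : ((2 : ℕ) : F) = 0 := by exact_mod_cast two0 F q
  have hdvd : p ∣ 2 := (CharP.cast_eq_zero_iff F p 2).mp h2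
  have : p = 2 := (Nat.prime_dvd_prime_iff_eq hp Nat.prime_two).mp hdvd
  subst this
  exact ⟨j, hj⟩

/-- the abstract Sylow 2-subgroup of `SU_3(q)`, `q` even -/
@[ext] structure T (F : Type*) [Field F] (q : ℕ) where
  s : F
  a : F
  h : a + a ^ q = s * s ^ q

namespace T

instance : Finite (T F q) :=
  Finite.of_injective (fun x : T F q => (x.s, x.a))
    (fun x y h => T.ext (congrArg Prod.fst h) (congrArg Prod.snd h))

variable [EvenQ F q]

instance : Mul (T F q) := ⟨fun x y => ⟨x.s + y.s, x.a + y.a + y.s * x.s ^ q, by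
  rw [fa, fa, mul_pow, ff, fa]
  linear_combination x.h + y.h⟩⟩

instance : One (T F q) := ⟨⟨0, 0, by simp [z0]⟩⟩

instance : Inv (T F q) := ⟨fun x => ⟨x.s, x.a ^ q, by rw [ff]; linear_combination x.h⟩⟩

@[simp] theorem mul_s (x y : T F q) : (x * y).s = x.s + y.s := rfl
@[simp] theorem mul_a (x y : T F q) : (x * y).a = x.a + y.a + y.s * x.s ^ q := rfl
@[simp] theorem one_s : (1 : T F q).s = 0 := rfl
@[simp] theorem one_a : (1 : T F q).a = 0 := rfl
@[simp] theorem inv_s (x : T F q) : (x⁻¹).s = x.s := rfl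
@[simp] theorem inv_a (x : T F q) : (x⁻¹).a = x.a ^ q := rfl

instance : Group (T F q) where
  mul_assoc x y z := by
    ext
    · simp only [mul_s]; ring
    · simp only [mul_a, mul_s, fa]; ring
  one_mul x := by ext <;> simp [z0]
  mul_one x := by ext <;> simp
  inv_mul_cancel x := by
    ext
    · simp only [mul_s, inv_s, one_s]; exact add_self0 q _
    · simp only [mul_a, inv_s, inv_a, one_a]
      linear_combination x.h + (x.s * x.s ^ q) * two0 F q

theorem exists_s (s : F) : ∃ x : T F q, x.s = s := by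
  obtain ⟨a, ha⟩ := exists_tr (q := q) (s * s ^ q) (by rw [mul_pow, ff]; ring)
  exact ⟨⟨s, a, ha⟩, rfl⟩

/-- a chosen solution of `c + c^q = s * s^q` -/
noncomputable def cc (q : ℕ) [EvenQ F q] (s : F) : F :=
  Classical.choose (exists_tr (q := q) (s * s ^ q) (by rw [mul_pow, ff]; ring))

theorem cc_spec (s : F) : cc q s + (cc q s) ^ q = s * s ^ q :=
  Classical.choose_spec (exists_tr (q := q) (s * s ^ q) (by rw [mul_pow, ff]; ring))

noncomputable def equivProd : T F q ≃ F × (tr F q).ker where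
  toFun x := (x.s, ⟨x.a + cc q x.s, by
    rw [AddMonoidHom.mem_ker, tr_apply, fa]
    linear_combination x.h + cc_spec (q := q) x.s + (x.s * x.s ^ q) * two0 F q⟩)
  invFun p := ⟨p.1, p.2.1 + cc q p.1, by
    have h := p.2.2
    rw [AddMonoidHom.mem_ker, tr_apply] at h
    rw [fa]
    linear_combination h + cc_spec (q := q) p.1⟩
  left_inv x := by
    ext
    · rfl
    · simp only [add_assoc, add_self0 q, add_zero]
  right_inv p := by
    refine Prod.ext rfl (Subtype.ext ?_)
    simp only [add_assoc, add_self0 q, add_zero]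

theorem card_eq : Nat.card (T F q) = q ^ 3 := by
  rw [Nat.card_congr (equivProd (F := F) (q := q)), Nat.card_prod, card_ker,
    Nat.card_eq_fintype_card, EvenQ.card (F := F) (q := q)]
  ring

theorem mem_center_iff (x : T F q) : x ∈ Subgroup.center (T F q) ↔ x.s = 0 := by
  constructor
  · intro hx
    rw [Subgroup.mem_center_iff] at hx
    obtain ⟨y1, h1⟩ := exists_s (F := F) (q := q) 1
    obtain ⟨w, hw⟩ := exists_not_fixed (F := F) (q := q)
    obtain ⟨y2, h2⟩ := exists_s (F := F) (q := q) w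
    have e1 := congrArg T.a (hx y1)
    have e2 := congrArg T.a (hx y2)
    simp only [mul_a, h1, h2, one_pow, mul_one, one_mul] at e1 e2
    have e3 : x.s ^ q = x.s := by linear_combination -e1
    rw [e3] at e2
    have e4 : x.s * (w ^ q - w) = 0 := by linear_combination e2
    rcases mul_eq_zero.mp e4 with h | h
    · exact h
    · exact absurd (sub_eq_zero.mp h) hw
  · intro hx
    rw [Subgroup.mem_center_iff]
    intro g
    ext
    · simp only [mul_s]; ring
    · simp only [mul_a, hx, z0]; ring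

theorem mul_self_mem_center (x : T F q) : x * x ∈ Subgroup.center (T F q) := by
  rw [mem_center_iff, mul_s]; exact add_self0 q _

theorem mul_self_eq_one_iff (x : T F q) : x * x = 1 ↔ x.s = 0 := by
  constructor
  · intro h
    have e := congrArg T.a h
    simp only [mul_a, one_a] at e
    have e2 : x.s * x.s ^ q = 0 := by linear_combination e - x.a * two0 F q
    rcases mul_eq_zero.mp e2 with h | h
    · exact h
    · exact (pow_eq_zero_iff (by have := two_le_q F q; omega)).mp h
  · intro h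
    ext
    · simp only [mul_s, one_s]; exact add_self0 q _
    · simp only [mul_a, one_a, h, z0]; linear_combination x.a * two0 F q

theorem comm_s (x y : T F q) : (⁅x, y⁆).s = 0 := by
  rw [commutatorElement_def]
  simp only [mul_s, inv_s]
  linear_combination (x.s + y.s) * two0 F q

theorem comm_a (x y : T F q) : (⁅x, y⁆).a = y.s * x.s ^ q + x.s * y.s ^ q := by
  rw [commutatorElement_def]
  simp only [mul_s, mul_a, inv_s, inv_a, fa]
  linear_combination x.h + y.h + (x.s * x.s ^ q + y.s * y.s ^ q + y.s * x.s ^ q) * two0 F q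

theorem comm_mem_center (x y : T F q) : ⁅x, y⁆ ∈ Subgroup.center (T F q) :=
  (mem_center_iff _).mpr (comm_s x y)

theorem a_fixed_of_s_eq_zero (x : T F q) (hx : x.s = 0) : x.a ^ q = x.a := by
  have := x.h
  rw [hx] at this
  linear_combination this - x.a * two0 F q

theorem exists_comm_of_mem_center (z : T F q) (hz : z ∈ Subgroup.center (T F q)) :
    ∃ x y : T F q, ⁅x, y⁆ = z := by
  rw [mem_center_iff] at hz
  obtain ⟨x, hx⟩ := exists_s (F := F) (q := q) 1
  obtain ⟨t, ht⟩ := exists_tr (q := q) z.a (a_fixed_of_s_eq_zero z hz)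
  obtain ⟨y, hy⟩ := exists_s (F := F) (q := q) t
  refine ⟨x, y, ?_⟩
  ext
  · rw [comm_s, hz]
  · rw [comm_a, hx, hy, ← ht]; ring

/-- the centre corresponds to the fixed field -/
noncomputable def centerEquiv : Subgroup.center (T F q) ≃ (tr F q).ker where
  toFun z := ⟨z.1.a, (mem_ker_tr _).mpr (a_fixed_of_s_eq_zero z.1 ((mem_center_iff z.1).mp z.2))⟩
  invFun b := ⟨⟨0, b.1, by
      have h := b.2
      rw [AddMonoidHom.mem_ker, tr_apply] at h
      rw [h]; simp [z0]⟩, (mem_center_iff _).mpr rfl⟩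
  left_inv z := Subtype.ext (T.ext ((mem_center_iff z.1).mp z.2).symm rfl)
  right_inv b := Subtype.ext rfl

theorem card_center : Nat.card (Subgroup.center (T F q)) = q := by
  rw [Nat.card_congr (centerEquiv (F := F) (q := q)), card_ker]


/-! ### the cyclic group of automorphisms -/

theorem sq_inj (q : ℕ) [EvenQ F q] {x y : F} (h : x * x = y * y) : x = y := by
  have h2 : (x - y) ^ 2 = 0 := by
    linear_combination h + (y * y - x * y) * two0 F q
  exact sub_eq_zero.mp ((pow_eq_zero_iff (by norm_num)).mp h2)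

/-- the units fixed by `x ↦ x ^ q` -/
def U (F : Type*) [Field F] (q : ℕ) : Subgroup Fˣ where
  carrier := {u | (u : F) ^ q = u}
  mul_mem' := by
    intro a b ha hb
    simp only [Set.mem_setOf_eq, Units.val_mul, mul_pow] at *
    rw [ha, hb]
  one_mem' := by simp
  inv_mem' := by
    intro a ha
    simp only [Set.mem_setOf_eq, Units.val_inv_eq_inv_val, inv_pow] at *
    rw [ha]

theorem U_fix (u : U F q) : ((u : Fˣ) : F) ^ q = ((u : Fˣ) : F) := u.2

/-- `(s, a) ↦ (c s, c² a)` for `c` fixed -/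
def kMap (c : F) (hc : c ^ q = c) (x : T F q) : T F q :=
  ⟨c * x.s, c ^ 2 * x.a, by
    have hc2 : (c ^ 2) ^ q = c ^ 2 := by rw [← pow_mul, mul_comm, pow_mul, hc]
    rw [mul_pow, hc2, mul_pow, hc]
    linear_combination c ^ 2 * x.h⟩

@[simp] theorem kMap_s (c : F) (hc : c ^ q = c) (x : T F q) : (kMap c hc x).s = c * x.s := rfl
@[simp] theorem kMap_a (c : F) (hc : c ^ q = c) (x : T F q) : (kMap c hc x).a = c ^ 2 * x.a := rfl

/-- the automorphism attached to a fixed unit -/
def kAut (u : U F q) : MulAut (T F q) where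
  toFun := kMap ((u : Fˣ) : F) (U_fix u)
  invFun := kMap (((u⁻¹ : U F q) : Fˣ) : F) (U_fix u⁻¹)
  left_inv x := by
    ext
    · simp
    · simp only [kMap_a, Subgroup.coe_inv, Units.val_inv_eq_inv_val]
      field_simp
  right_inv x := by
    ext
    · simp
    · simp only [kMap_a, Subgroup.coe_inv, Units.val_inv_eq_inv_val]
      field_simp
  map_mul' x y := by
    ext
    · simp only [kMap_s, mul_s]; ring
    · simp only [kMap_a, kMap_s, mul_a, mul_pow, U_fix]; ring

@[simp] theorem kAut_apply (u : U F q) (x : T F q) :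
    kAut u x = kMap ((u : Fˣ) : F) (U_fix u) x := rfl

/-- the homomorphism from the fixed units to the automorphisms -/
def psi (F : Type*) [Field F] [Fintype F] (q : ℕ) [EvenQ F q] : U F q →* MulAut (T F q) where
  toFun := kAut
  map_one' := by
    ext x
    · simp
    · simp
  map_mul' u v := by
    ext x
    · simp only [kAut_apply, MulAut.mul_apply, kMap_s, Subgroup.coe_mul, Units.val_mul]; ring
    · simp only [kAut_apply, MulAut.mul_apply, kMap_a, Subgroup.coe_mul, Units.val_mul]; ring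

theorem psi_apply (u : U F q) (x : T F q) :
    psi F q u x = kMap ((u : Fˣ) : F) (U_fix u) x := rfl

theorem K_cyclic : IsCyclic (psi F q).range :=
  isCyclic_of_surjective (psi F q).rangeRestrict (psi F q).rangeRestrict_surjective

theorem ne_one_iff (x : T F q) (hx : x.s = 0) : x ≠ 1 ↔ x.a ≠ 0 := by
  constructor
  · intro h ha
    exact h (T.ext hx ha)
  · intro h he
    exact h (by rw [he]; rfl)

theorem K_regular (x y : T F q) (hx1 : x ≠ 1) (hx : x * x = 1) (hy1 : y ≠ 1) (hy : y * y = 1) :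
    ∃! k : (psi F q).range, (k : MulAut (T F q)) x = y := by
  rw [mul_self_eq_one_iff] at hx hy
  rw [ne_one_iff x hx] at hx1
  rw [ne_one_iff y hy] at hy1
  have hxa := a_fixed_of_s_eq_zero x hx
  have hya := a_fixed_of_s_eq_zero y hy
  haveI : CharP F 2 := CharTwo.of_one_ne_zero_of_two_eq_zero one_ne_zero (two0 F q)
  have hchar : ringChar F = 2 := ringChar.eq F 2
  obtain ⟨r, hr⟩ := FiniteField.isSquare_of_char_two hchar (y.a / x.a)
  have hc : (y.a / x.a) ^ q = y.a / x.a := by rw [div_pow, hxa, hya]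
  have hrq : r ^ q = r := by
    apply sq_inj q
    rw [← mul_pow, ← hr, hc]
  have hr0 : r ≠ 0 := by
    rintro rfl
    have : y.a / x.a = 0 := by rw [hr]; ring
    rcases div_eq_zero_iff.mp this with h | h
    · exact hy1 h
    · exact hx1 h
  let u : U F q := ⟨Units.mk0 r hr0, hrq⟩
  have hux : psi F q u x = y := by
    ext
    · rw [psi_apply, kMap_s, hx, hy, mul_zero]
    · rw [psi_apply, kMap_a]
      show r ^ 2 * x.a = y.a
      rw [pow_two, ← hr]
      field_simp
  refine ⟨⟨psi F q u, ⟨u, rfl⟩⟩, hux, ?_⟩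
  rintro ⟨_, ⟨v, rfl⟩⟩ hv
  apply Subtype.ext
  show psi F q v = psi F q u
  have hv' : psi F q v x = y := hv
  have e := congrArg T.a hv'
  rw [psi_apply, kMap_a] at e
  have e2 : ((v : Fˣ) : F) * ((v : Fˣ) : F) = r * r := by
    rw [← hr]
    field_simp
    linear_combination e
  have e3 : ((v : Fˣ) : F) = r := sq_inj q e2
  have : v = u := Subtype.ext (Units.ext e3)
  rw [this]

theorem exists_two_involutions (hq : 4 ≤ q) :
    ∃ x y : T F q, x ≠ y ∧ x ≠ 1 ∧ x * x = 1 ∧ y ≠ 1 ∧ y * y = 1 := by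
  classical
  have hcard : 2 < Nat.card (tr F q).ker := by rw [card_ker]; omega
  rw [Nat.card_eq_fintype_card, Fintype.two_lt_card_iff] at hcard
  obtain ⟨a, b, c, hab, hac, hbc⟩ := hcard
  have key : ∀ b1 b2 : (tr F q).ker, b1 ≠ b2 → b1.1 ≠ 0 → b2.1 ≠ 0 →
      ∃ x y : T F q, x ≠ y ∧ x ≠ 1 ∧ x * x = 1 ∧ y ≠ 1 ∧ y * y = 1 := by
    intro b1 b2 h12 h1 h2
    have hh : ∀ b : (tr F q).ker, b.1 + b.1 ^ q = (0 : F) * 0 ^ q := by
      intro b
      have h := b.2
      rw [AddMonoidHom.mem_ker, tr_apply] at h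
      rw [h]; simp
    refine ⟨⟨0, b1.1, hh b1⟩, ⟨0, b2.1, hh b2⟩, ?_, ?_, ?_, ?_, ?_⟩
    · intro h
      exact h12 (Subtype.ext (congrArg T.a h))
    · exact (ne_one_iff _ rfl).mpr h1
    · exact (mul_self_eq_one_iff _).mpr rfl
    · exact (ne_one_iff _ rfl).mpr h2
    · exact (mul_self_eq_one_iff _).mpr rfl
  by_cases ha : a.1 = 0
  · have hb : b.1 ≠ 0 := fun h => hab (Subtype.ext (ha.trans h.symm))
    have hc : c.1 ≠ 0 := fun h => hac (Subtype.ext (ha.trans h.symm))
    exact key b c hbc hb hc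
  · by_cases hb : b.1 = 0
    · have hc : c.1 ≠ 0 := fun h => hbc (Subtype.ext (hb.trans h.symm))
      exact key a c hac ha hc
    · exact key a b hab ha hb

theorem isPGroup : IsPGroup 2 (T F q) := by
  obtain ⟨j, hj⟩ := q_eq_two_pow F q
  haveI : Fact (Nat.Prime 2) := ⟨Nat.prime_two⟩
  apply IsPGroup.of_card (n := j * 3)
  rw [card_eq, hj, pow_mul]

theorem exists_noncomm : ∃ x y : T F q, x * y ≠ y * x := by
  obtain ⟨x, hx⟩ := exists_s (F := F) (q := q) 1
  obtain ⟨w, hw⟩ := exists_not_fixed (F := F) (q := q)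
  obtain ⟨y, hy⟩ := exists_s (F := F) (q := q) w
  refine ⟨x, y, fun h => hw ?_⟩
  have e := congrArg T.a h
  simp only [mul_a, hx, hy, one_pow, mul_one, one_mul] at e
  linear_combination -e

theorem isSuzuki (hq : 4 ≤ q) : Cfsg.IsSuzukiTwoGroup (T F q) :=
  ⟨inferInstance, isPGroup, exists_noncomm, exists_two_involutions hq,
    (psi F q).range, K_cyclic, fun x y hx1 hx hy1 hy => K_regular x y hx1 hx hy1 hy⟩

end T

/-! ### the embedding into `SU_3` and `PSU_3` -/

/-- the matrix of `(s, a)` -/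
def M (q : ℕ) (s a : F) : Matrix (Fin 3) (Fin 3) F :=
  !![1 + a, a, s ^ q; a, 1 + a, s ^ q; s, s, 1]

theorem det_M [EvenQ F q] (s a : F) : (M q s a).det = 1 := by
  rw [Matrix.det_fin_three]
  simp [M]
  linear_combination (a - s ^ q * s) * two0 F q

theorem M_mulVec (s a : F) (u : Fin 3 → F) :
    M q s a *ᵥ u = ![(1 + a) * u 0 + a * u 1 + s ^ q * u 2, a * u 0 + (1 + a) * u 1 + s ^ q * u 2,
      s * u 0 + s * u 1 + u 2] := by
  ext i
  fin_cases i <;> simp [M, Matrix.mulVec, dotProduct, Fin.sum_univ_three]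

theorem M_herm [EvenQ F q] (s a : F) (h : a + a ^ q = s * s ^ q) (u v : Fin 3 → F) :
    Cfsg.hermForm 3 F q (M q s a *ᵥ u) (M q s a *ᵥ v) = Cfsg.hermForm 3 F q u v := by
  rw [M_mulVec, M_mulVec]
  simp [Cfsg.hermForm, Fin.sum_univ_three, fa, mul_pow, ff]
  linear_combination ((u 0 + u 1) * (v 0 ^ q + v 1 ^ q)) * h +
    ((u 0 + u 1) * (v 0 ^ q + v 1 ^ q) * s * s ^ q +
      (a * (u 0 + u 1) + s ^ q * u 2) * (a ^ q * (v 0 ^ q + v 1 ^ q) + s * v 2 ^ q) +
      (u 0 + u 1) * s * v 2 ^ q + s ^ q * u 2 * (v 0 ^ q + v 1 ^ q)) * two0 F q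

theorem M_one [EvenQ F q] : M q (0 : F) 0 = 1 := by
  ext i j
  fin_cases i <;> fin_cases j <;> simp [M, z0]

theorem M_mul [EvenQ F q] (s a s' a' : F) :
    M q s a * M q s' a' = M q (s + s') (a + a' + s' * s ^ q) := by
  ext i j
  fin_cases i <;> fin_cases j <;>
    simp [M, Matrix.mul_apply, Fin.sum_univ_three, fa] <;>
    first
    | linear_combination (a * a') * two0 F q
    | linear_combination (a * s' ^ q) * two0 F q
    | linear_combination (s * a') * two0 F q
    | linear_combination (s * s' ^ q) * two0 F q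

theorem M_inj {s a s' a' : F} (h : M q s a = M q s' a') : s = s' ∧ a = a' := by
  have h1 := congrFun (congrFun h 2) 0
  have h2 := congrFun (congrFun h 0) 1
  simp [M] at h1 h2
  exact ⟨h1, h2⟩

/-- the embedding `T → SU_3` -/
def iota (F : Type*) [Field F] [Fintype F] (q : ℕ) [EvenQ F q] : T F q →* Cfsg.SU 3 F q where
  toFun x := ⟨⟨M q x.s x.a, det_M _ _⟩, fun u v => M_herm x.s x.a x.h u v⟩
  map_one' := Subtype.ext (Subtype.ext M_one)
  map_mul' x y := Subtype.ext (Subtype.ext (M_mul x.s x.a y.s y.a).symm)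

theorem iota_val [EvenQ F q] (x : T F q) : ((iota F q x).1).1 = M q x.s x.a := rfl

theorem iota_injective [EvenQ F q] : Function.Injective (iota F q) := by
  intro x y h
  have h' : M q x.s x.a = M q y.s y.a := by rw [← iota_val, ← iota_val, h]
  obtain ⟨h1, h2⟩ := M_inj h'
  exact T.ext h1 h2

/-- the cyclic permutation matrix -/
def cyc (F : Type*) [Field F] : Matrix (Fin 3) (Fin 3) F := !![0, 0, 1; 1, 0, 0; 0, 1, 0]

theorem det_cyc : (cyc F).det = 1 := by
  rw [Matrix.det_fin_three]; simp [cyc]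

theorem cyc_herm (u v : Fin 3 → F) :
    Cfsg.hermForm 3 F q (cyc F *ᵥ u) (cyc F *ᵥ v) = Cfsg.hermForm 3 F q u v := by
  simp [Cfsg.hermForm, Fin.sum_univ_three, cyc, Matrix.mulVec, dotProduct]
  ring

/-- the cyclic permutation matrix as an element of `SU_3` -/
def cycSU (F : Type*) [Field F] [Fintype F] (q : ℕ) : Cfsg.SU 3 F q :=
  ⟨⟨cyc F, det_cyc⟩, fun u v => cyc_herm u v⟩

/-- the embedding `T → PSU_3` -/
def f (F : Type*) [Field F] [Fintype F] (q : ℕ) [EvenQ F q] : T F q →* Cfsg.PSU 3 F q :=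
  (QuotientGroup.mk' (Subgroup.center (Cfsg.SU 3 F q))).comp (iota F q)

theorem f_injective [EvenQ F q] : Function.Injective (f F q) := by
  rw [injective_iff_map_eq_one]
  intro x hx
  have hc : iota F q x ∈ Subgroup.center (Cfsg.SU 3 F q) := (QuotientGroup.eq_one_iff _).mp hx
  rw [Subgroup.mem_center_iff] at hc
  have hxc : x ∈ Subgroup.center (T F q) := by
    rw [Subgroup.mem_center_iff]
    intro g
    apply iota_injective
    rw [map_mul, map_mul]
    exact hc (iota F q g)
  have hs := (T.mem_center_iff x).mp hxc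
  have h2 := hc (cycSU F q)
  have h3 : cyc F * M q x.s x.a = M q x.s x.a * cyc F :=
    congrArg (fun g : Cfsg.SU 3 F q => (g.1).1) h2
  have h4 := congrFun (congrFun h3 0) 0
  simp [cyc, M, Matrix.mul_apply, Fin.sum_univ_three, hs] at h4
  ext
  · exact hs
  · simpa using h4.symm

end Cfsg.Agent.Lib.Helper60.SU3Even
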