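import Mathlib
import Cfsg.Agent.Lib.Helper60.SU3Even
import Cfsg.Agent.S0280

/-!
# Sylow 2-subgroups of `PSU_3(q)`, `q` even, are isomorphic to `T F q` (helper60)
-/

set_option autoImplicit false

namespace Cfsg.Agent.Lib.Helper60.SU3Even

open scoped commutatorElement

variable {F : Type*} [Field F] [Fintype F] {q : ℕ}

instance finite_SL3 : Finite (Matrix.SpecialLinearGroup (Fin 3) F) :=
  Finite.of_injective (fun g : Matrix.SpecialLinearGroup (Fin 3) F => g.1) Subtype.val_injective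

theorem odd_part [EvenQ F q] :
    Odd ((q + 1) * (q ^ 2 - 1) * (q ^ 3 + 1)) := by
  obtain ⟨j, hj⟩ := q_eq_two_pow F q
  have hq2 := two_le_q F q
  have hj0 : j ≠ 0 := by
    rintro rfl
    simp at hj
    omega
  have hqe : Even q := by rw [hj]; exact (Nat.even_pow.mpr ⟨even_two, hj0⟩)
  have h1 : Odd (q + 1) := hqe.add_one
  have h2 : Odd (q ^ 2 - 1) :=
    Nat.Even.sub_odd (Nat.one_le_pow _ _ (by omega)) (Nat.even_pow.mpr ⟨hqe, by norm_num⟩) odd_one
  have h3 : Odd (q ^ 3 + 1) := (Nat.even_pow.mpr ⟨hqe, by norm_num⟩).add_one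
  exact (h1.mul h2).mul h3

theorem card_psu_eq [EvenQ F q] :
    Nat.gcd 3 (q + 1) * ((q + 1) * Nat.card (Cfsg.PSU 3 F q)) =
      q ^ 3 * ((q + 1) * (q ^ 2 - 1) * (q ^ 3 + 1)) := by
  have h := Cfsg.Agent.S0280.result (EvenQ.card (F := F) (q := q)) 3 (by norm_num)
  rw [h]
  simp [Finset.prod_range_succ]

theorem exists_equiv_sylow [EvenQ F q] (S : Sylow 2 (Cfsg.PSU 3 F q)) :
    Nonempty (↥(S : Subgroup (Cfsg.PSU 3 F q)) ≃* T F q) := by
  haveI : Fact (Nat.Prime 2) := ⟨Nat.prime_two⟩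
  obtain ⟨j, hj⟩ := q_eq_two_pow F q
  have hRcard : Nat.card (f F q).range = q ^ 3 := by
    rw [← T.card_eq (F := F) (q := q)]
    exact Nat.card_congr (MonoidHom.ofInjective f_injective).toEquiv.symm
  have hR2 : IsPGroup 2 (f F q).range :=
    IsPGroup.of_card (n := j * 3) (by rw [hRcard, hj, pow_mul])
  obtain ⟨P, hP⟩ := hR2.exists_le_sylow
  obtain ⟨k, hk⟩ := IsPGroup.iff_card.mp P.2
  have hdvd : Nat.card (P : Subgroup (Cfsg.PSU 3 F q)) ∣ Nat.card (Cfsg.PSU 3 F q) :=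
    Subgroup.card_subgroup_dvd_card _
  have hdvd2 : Nat.card (P : Subgroup (Cfsg.PSU 3 F q)) ∣
      q ^ 3 * ((q + 1) * (q ^ 2 - 1) * (q ^ 3 + 1)) := by
    rw [← card_psu_eq (F := F)]
    exact dvd_trans hdvd ⟨Nat.gcd 3 (q + 1) * (q + 1), by ring⟩
  have hcop : Nat.Coprime (Nat.card (P : Subgroup (Cfsg.PSU 3 F q)))
      ((q + 1) * (q ^ 2 - 1) * (q ^ 3 + 1)) := by
    rw [hk]
    exact Nat.Coprime.pow_left k (Nat.coprime_two_left.mpr (odd_part (F := F)))
  have hdvd3 : Nat.card (P : Subgroup (Cfsg.PSU 3 F q)) ∣ q ^ 3 :=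
    Nat.Coprime.dvd_of_dvd_mul_right hcop hdvd2
  have hqpos : 0 < q ^ 3 := by have := two_le_q F q; positivity
  have hRP : (f F q).range = (P : Subgroup (Cfsg.PSU 3 F q)) :=
    Subgroup.eq_of_le_of_card_ge hP (by rw [hRcard]; exact Nat.le_of_dvd hqpos hdvd3)
  obtain ⟨g, hg⟩ := MulAction.exists_smul_eq (Cfsg.PSU 3 F q) S P
  have e1 : ↥(S : Subgroup (Cfsg.PSU 3 F q)) ≃* ↥((g • S : Sylow 2 (Cfsg.PSU 3 F q)) :
      Subgroup (Cfsg.PSU 3 F q)) := Sylow.equivSMul S g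
  have e2 : ↥((g • S : Sylow 2 (Cfsg.PSU 3 F q)) : Subgroup (Cfsg.PSU 3 F q)) ≃*
      ↥(f F q).range := MulEquiv.subgroupCongr (by rw [hg, hRP])
  exact ⟨(e1.trans e2).trans (MonoidHom.ofInjective f_injective).symm⟩

/-! ### transport -/

theorem mem_center_equiv {G H : Type*} [Group G] [Group H] (e : G ≃* H) (x : G) :
    x ∈ Subgroup.center G ↔ e x ∈ Subgroup.center H := by
  simp only [Subgroup.mem_center_iff]
  constructor
  · intro h g
    have := congrArg e (h (e.symm g))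
    simpa using this
  · intro h g
    apply e.injective
    simpa using h (e g)

theorem isSuzuki_of_equiv {P Q : Type*} [Group P] [Group Q] (e : P ≃* Q)
    (h : Cfsg.IsSuzukiTwoGroup Q) : Cfsg.IsSuzukiTwoGroup P := by
  obtain ⟨hfin, hp, ⟨x0, y0, hxy0⟩, ⟨x1, y1, h1, h2, h3, h4, h5⟩, K, hK, hreg⟩ := h
  haveI := hfin
  refine ⟨Finite.of_equiv Q e.symm.toEquiv, hp.of_equiv e.symm,
    ⟨e.symm x0, e.symm y0, ?_⟩, ⟨e.symm x1, e.symm y1, ?_, ?_, ?_, ?_, ?_⟩,
    K.map (MulAut.congr e.symm).toMonoidHom, ?_, ?_⟩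
  · rw [← map_mul, ← map_mul]; exact fun hh => hxy0 (e.symm.injective hh)
  · exact fun hh => h1 (e.symm.injective hh)
  · exact fun hh => h2 (by simpa using congrArg e hh)
  · rw [← map_mul, h3, map_one]
  · exact fun hh => h4 (by simpa using congrArg e hh)
  · rw [← map_mul, h5, map_one]
  · haveI := hK
    exact isCyclic_of_surjective ((MulAut.congr e.symm).subgroupMap K)
      ((MulAut.congr e.symm).subgroupMap K).surjective
  · intro x y hx1 hx hy1 hy
    have hx1' : e x ≠ 1 := fun hh => hx1 (by simpa using congrArg e.symm hh)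
    have hy1' : e y ≠ 1 := fun hh => hy1 (by simpa using congrArg e.symm hh)
    have hx' : e x * e x = 1 := by rw [← map_mul, hx, map_one]
    have hy' : e y * e y = 1 := by rw [← map_mul, hy, map_one]
    obtain ⟨k, hk, hku⟩ := hreg (e x) (e y) hx1' hx' hy1' hy'
    refine ⟨⟨MulAut.congr e.symm k.1, ⟨k.1, k.2, rfl⟩⟩, ?_, ?_⟩
    · show e.symm (k.1 (e.symm.symm x)) = y
      simp only [MulEquiv.symm_symm]
      rw [hk]; simp
    · rintro ⟨_, ⟨k2, hk2, rfl⟩⟩ hk2y
      have hk2y' : e.symm (k2 (e.symm.symm x)) = y := hk2y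
      simp only [MulEquiv.symm_symm] at hk2y'
      have : k2 (e x) = e y := by rw [← hk2y']; simp
      have := hku ⟨k2, hk2⟩ this
      apply Subtype.ext
      show MulAut.congr e.symm k2 = MulAut.congr e.symm k.1
      rw [← this]

end Cfsg.Agent.Lib.Helper60.SU3Even
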