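import Mathlib
import Cfsg.Agent.Lib.Helper60.SU3EvenSylow

/-!
# Automorphisms of the Sylow 2-subgroup `T F q` of `SU_3(q)`, `q` even (helper60)

An automorphism induces an additive permutation `sA` of `F` (the `s`-coordinate) and acts on the centre,
compatibly with the norm `s ↦ s * s ^ q`.
-/

set_option autoImplicit false

namespace Cfsg.Agent.Lib.Helper60.SU3Even

open scoped commutatorElement

variable {F : Type*} [Field F] [Fintype F] {q : ℕ} [EvenQ F q]

/-- a chosen element with a given `s`-coordinate -/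
noncomputable def lift (q : ℕ) [EvenQ F q] (s : F) : T F q :=
  Classical.choose (T.exists_s (q := q) s)

theorem lift_s (s : F) : (lift q s).s = s := Classical.choose_spec (T.exists_s (q := q) s)

theorem eq_of_add_eq_zero (q : ℕ) [EvenQ F q] {x y : F} (h : x + y = 0) : x = y := by
  linear_combination h - y * two0 F q

theorem s_eq_of_s_eq (φ : MulAut (T F q)) {x y : T F q} (h : x.s = y.s) : (φ x).s = (φ y).s := by
  have hc : (x⁻¹ * y) ∈ Subgroup.center (T F q) :=
    (T.mem_center_iff _).mpr (by rw [T.mul_s, T.inv_s, h]; exact add_self0 q _)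
  have hc' := (mem_center_equiv φ _).mp hc
  have h0 := (T.mem_center_iff _).mp hc'
  rw [map_mul, map_inv, T.mul_s, T.inv_s] at h0
  exact eq_of_add_eq_zero q h0

/-- the action of an automorphism on the `s`-coordinate -/
noncomputable def sA (φ : MulAut (T F q)) (s : F) : F := (φ (lift q s)).s

theorem sA_spec (φ : MulAut (T F q)) (x : T F q) : (φ x).s = sA φ x.s :=
  s_eq_of_s_eq φ (lift_s x.s).symm

theorem sA_add (φ : MulAut (T F q)) (s s' : F) : sA φ (s + s') = sA φ s + sA φ s' := by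
  have h : (lift q (s + s')).s = (lift q s * lift q s').s := by
    rw [T.mul_s, lift_s, lift_s, lift_s]
  show (φ (lift q (s + s'))).s = _
  rw [s_eq_of_s_eq φ h, map_mul, T.mul_s]
  rfl

theorem sA_mul (φ ψ : MulAut (T F q)) (s : F) : sA (φ * ψ) s = sA φ (sA ψ s) := by
  show ((φ * ψ) (lift q s)).s = _
  rw [MulAut.mul_apply, sA_spec φ]
  rfl

theorem sA_one (s : F) : sA (1 : MulAut (T F q)) s = s := by
  show ((1 : MulAut (T F q)) (lift q s)).s = s
  rw [MulAut.one_apply, lift_s]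

theorem sA_zero (φ : MulAut (T F q)) : sA φ 0 = 0 := by
  have h := sA_add φ 0 0
  rw [add_zero] at h
  linear_combination -h

/-- `s ↦ sA φ s + s` as an additive map -/
noncomputable def gA (φ : MulAut (T F q)) : F →+ F where
  toFun s := sA φ s + s
  map_zero' := by rw [sA_zero, add_zero]
  map_add' s s' := by rw [sA_add]; ring

theorem gA_apply (φ : MulAut (T F q)) (s : F) : gA φ s = sA φ s + s := rfl

theorem mem_ker_gA (φ : MulAut (T F q)) (s : F) : s ∈ (gA φ).ker ↔ sA φ s = s := by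
  rw [AddMonoidHom.mem_ker, gA_apply]
  constructor
  · intro h; exact eq_of_add_eq_zero q h
  · intro h; rw [h]; exact add_self0 q s

/-- the central element with `a`-coordinate `b` -/
def zel (q : ℕ) [EvenQ F q] (b : F) (hb : b ^ q = b) : T F q :=
  ⟨0, b, by rw [hb, z0, mul_zero]; exact add_self0 q b⟩

theorem zel_mem_center (b : F) (hb : b ^ q = b) : zel q b hb ∈ Subgroup.center (T F q) :=
  (T.mem_center_iff _).mpr rfl

theorem eq_zel_of_mem_center (z : T F q) (hz : z ∈ Subgroup.center (T F q)) :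
    z = zel q z.a (T.a_fixed_of_s_eq_zero z ((T.mem_center_iff z).mp hz)) :=
  T.ext ((T.mem_center_iff z).mp hz) rfl

theorem norm_fixed (s : F) : (s * s ^ q) ^ q = s * s ^ q := by
  rw [mul_pow, ff]; ring

theorem mul_self_eq_zel (x : T F q) : x * x = zel q (x.s * x.s ^ q) (norm_fixed x.s) := by
  ext
  · rw [T.mul_s]; exact add_self0 q _
  · rw [T.mul_a]
    show x.a + x.a + x.s * x.s ^ q = x.s * x.s ^ q
    rw [add_self0 q, zero_add]

/-- compatibility of an automorphism with the norm -/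
theorem norm_compat (φ : MulAut (T F q)) (s : F) :
    (φ (zel q (s * s ^ q) (norm_fixed s))).a = sA φ s * (sA φ s) ^ q := by
  have h1 := mul_self_eq_zel (lift q s)
  rw [lift_s] at h1
  have h2 := mul_self_eq_zel (φ (lift q s))
  rw [← map_mul, h1, sA_spec, lift_s] at h2
  rw [h2]
  rfl

theorem zel_add (b c : F) (hb : b ^ q = b) (hc : c ^ q = c) :
    zel q (b + c) (by rw [fa, hb, hc]) = zel q b hb * zel q c hc := by
  ext
  · rw [T.mul_s]; show (0 : F) = 0 + 0; rw [add_zero]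
  · rw [T.mul_a]
    show b + c = b + c + 0 * (0 : F) ^ q
    ring

/-- the subgroup of the fixed field whose central elements are fixed by `φ` -/
def fixK (φ : MulAut (T F q)) : AddSubgroup F where
  carrier := {b | ∃ hb : b ^ q = b, φ (zel q b hb) = zel q b hb}
  zero_mem' := ⟨z0, by
    have : zel q (0 : F) z0 = 1 := rfl
    rw [this, map_one]⟩
  add_mem' := by
    rintro b c ⟨hb, hb'⟩ ⟨hc, hc'⟩
    refine ⟨by rw [fa, hb, hc], ?_⟩
    rw [zel_add b c hb hc, map_mul, hb', hc']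
  neg_mem' := by
    rintro b ⟨hb, hb'⟩
    have : -b = b := by linear_combination -b * two0 F q
    rw [this]
    exact ⟨hb, hb'⟩

theorem fixK_le (φ : MulAut (T F q)) : fixK φ ≤ (tr F q).ker := by
  rintro b ⟨hb, _⟩
  exact (mem_ker_tr b).mpr hb

theorem fixed_on_center_of_fixK_eq (φ : MulAut (T F q)) (h : fixK φ = (tr F q).ker)
    (z : T F q) (hz : z ∈ Subgroup.center (T F q)) : φ z = z := by
  have hz' := eq_zel_of_mem_center z hz
  have hmem : z.a ∈ fixK φ := by
    rw [h]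
    exact (mem_ker_tr _).mpr (T.a_fixed_of_s_eq_zero z ((T.mem_center_iff z).mp hz))
  obtain ⟨hb, hb'⟩ := hmem
  rw [hz']
  exact hb'

/-- norms of `sA`-fixed elements are fixed -/
theorem norm_mem_fixK (φ : MulAut (T F q)) (s : F) (hs : sA φ s = s) : s * s ^ q ∈ fixK φ := by
  refine ⟨norm_fixed s, ?_⟩
  have h := norm_compat φ s
  rw [hs] at h
  have hc := (mem_center_equiv φ _).mp (zel_mem_center (s * s ^ q) (norm_fixed s))
  rw [eq_zel_of_mem_center _ hc]
  ext
  · rfl
  · exact h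


/-! ### `q = 4` -/

section four

variable {F : Type*} [Field F] [Fintype F] [EvenQ F 4]

theorem no_equal_norm_triple (x y : F) (h1 : y * y ^ 4 = x * x ^ 4)
    (h2 : (x + y) * (x + y) ^ 4 = x * x ^ 4) (h0 : x * x ^ 4 ≠ 0) : False := by
  have hx : x ≠ 0 := by
    rintro rfl
    exact h0 (by ring)
  have e5 : (y / x) ^ 5 = 1 := by
    rw [div_pow, div_eq_one_iff_eq (pow_ne_zero 5 hx)]
    linear_combination h1
  have e6 : (1 + y / x) ^ 5 = 1 := by
    have : 1 + y / x = (x + y) / x := by field_simp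
    rw [this, div_pow, div_eq_one_iff_eq (pow_ne_zero 5 hx)]
    linear_combination h2
  set c := y / x with hc
  have hA : c + c ^ 4 = 1 := by
    linear_combination e6 - e5 - (2 * c + 5 * c ^ 2 + 5 * c ^ 3 + 2 * c ^ 4 + 1) * two0 F 4
  have hB : c ^ 2 + 1 = c := by linear_combination c * hA - e5
  have hC : c ^ 4 = c := by linear_combination (c ^ 2 + c) * hB - c * two0 F 4
  have h10 : (1 : F) = 0 := by linear_combination -hA + hC + c * two0 F 4
  exact one_ne_zero h10

theorem card_ker_gA_ge (φ : MulAut (T F 4)) (hA2 : ∀ s, sA φ (sA φ s) = s) :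
    4 ≤ Nat.card (gA φ).ker := by
  have hrange : (gA φ).range ≤ (gA φ).ker := by
    rintro _ ⟨s, rfl⟩
    rw [AddMonoidHom.mem_ker, gA_apply, gA_apply, sA_add, hA2]
    linear_combination (s + sA φ s) * two0 F 4
  have h1 : Nat.card (gA φ).ker * (gA φ).ker.index = Nat.card F := AddSubgroup.card_mul_index _
  have h2 : (gA φ).ker.index = Nat.card (gA φ).range := AddSubgroup.index_ker _
  have h3 : Nat.card F = 16 := by
    rw [Nat.card_eq_fintype_card, EvenQ.card (F := F) (q := 4)]; norm_num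
  have h4 : Nat.card (gA φ).range ≤ Nat.card (gA φ).ker := AddSubgroup.card_le_of_le hrange
  rw [h2, h3] at h1
  by_contra hlt
  push Not at hlt
  nlinarith

theorem invol_fixK (φ : MulAut (T F 4)) (hA2 : ∀ s, sA φ (sA φ s) = s) :
    fixK φ = (tr F 4).ker := by
  classical
  have hcard := card_ker_gA_ge φ hA2
  have h2 : 2 < Nat.card (gA φ).ker := by omega
  rw [Nat.card_eq_fintype_card, Fintype.two_lt_card_iff] at h2
  obtain ⟨a, b, c, hab, hac, hbc⟩ := h2
  -- two distinct nonzero fixed elements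
  have key : ∀ x y : F, sA φ x = x → sA φ y = y → x ≠ 0 → y ≠ 0 → x ≠ y →
      fixK φ = (tr F 4).ker := by
    intro x y hx hy hx0 hy0 hxy
    have hxy' : sA φ (x + y) = x + y := by rw [sA_add, hx, hy]
    have hxy0 : x + y ≠ 0 := fun h => hxy (eq_of_add_eq_zero 4 h)
    have n1 := norm_mem_fixK φ x hx
    have n2 := norm_mem_fixK φ y hy
    have n3 := norm_mem_fixK φ (x + y) hxy'
    have nz : ∀ s : F, s ≠ 0 → s * s ^ 4 ≠ 0 := fun s hs => mul_ne_zero hs (pow_ne_zero 4 hs)
    -- two distinct nonzero elements of fixK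
    have hex : ∃ u v : F, u ∈ fixK φ ∧ v ∈ fixK φ ∧ u ≠ 0 ∧ v ≠ 0 ∧ u ≠ v := by
      by_cases e1 : y * y ^ 4 = x * x ^ 4
      · by_cases e2 : (x + y) * (x + y) ^ 4 = x * x ^ 4
        · exact (no_equal_norm_triple x y e1 e2 (nz x hx0)).elim
        · exact ⟨_, _, n3, n1, nz _ hxy0, nz _ hx0, e2⟩
      · exact ⟨_, _, n2, n1, nz _ hy0, nz _ hx0, e1⟩
    obtain ⟨u, v, hu, hv, hu0, hv0, huv⟩ := hex
    apply AddSubgroup.eq_of_le_of_card_ge (fixK_le φ)
    rw [card_ker]
    have hdvd : Nat.card (fixK φ) ∣ 4 := by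
      have := AddSubgroup.card_dvd_of_le (fixK_le φ)
      rwa [card_ker] at this
    have hgt : 2 < Nat.card (fixK φ) := by
      rw [Nat.card_eq_fintype_card, Fintype.two_lt_card_iff]
      refine ⟨⟨0, (fixK φ).zero_mem⟩, ⟨u, hu⟩, ⟨v, hv⟩, ?_, ?_, ?_⟩
      · exact fun h => hu0 (congrArg Subtype.val h).symm
      · exact fun h => hv0 (congrArg Subtype.val h).symm
      · exact fun h => huv (congrArg Subtype.val h)
    have hle := Nat.le_of_dvd (by norm_num) hdvd
    interval_cases h : Nat.card (fixK φ) <;> simp_all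
  have hm : ∀ d : (gA φ).ker, sA φ d.1 = d.1 := fun d => (mem_ker_gA φ d.1).mp d.2
  by_cases ha : a.1 = 0
  · have hb : b.1 ≠ 0 := fun h => hab (Subtype.ext (ha.trans h.symm))
    have hc : c.1 ≠ 0 := fun h => hac (Subtype.ext (ha.trans h.symm))
    exact key b.1 c.1 (hm b) (hm c) hb hc (fun h => hbc (Subtype.ext h))
  · by_cases hb : b.1 = 0
    · have hc : c.1 ≠ 0 := fun h => hbc (Subtype.ext (hb.trans h.symm))
      exact key a.1 c.1 (hm a) (hm c) ha hc (fun h => hac (Subtype.ext h))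
    · exact key a.1 b.1 (hm a) (hm b) ha hb (fun h => hab (Subtype.ext h))

theorem order3_trivial (ρ : MulAut (T F 4)) (h3 : ρ * ρ * ρ = 1)
    (hz : fixK ρ = (tr F 4).ker) : ρ = 1 := by
  have hA3 : ∀ s, sA ρ (sA ρ (sA ρ s)) = s := by
    intro s
    rw [← sA_mul, ← sA_mul, h3, sA_one]
  have hN : ∀ s, sA ρ s * (sA ρ s) ^ 4 = s * s ^ 4 := by
    intro s
    have h := norm_compat ρ s
    have hmem : s * s ^ 4 ∈ fixK ρ := by
      rw [hz]; exact (mem_ker_tr _).mpr (norm_fixed s)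
    obtain ⟨hb, hb'⟩ := hmem
    rw [hb'] at h
    exact h.symm
  have hfix : ∀ s, sA ρ s = s := by
    intro s
    by_contra hne
    set w := sA ρ s + s with hw
    have hw0 : w ≠ 0 := fun h => hne (eq_of_add_eq_zero 4 h)
    have hAw : sA ρ w = sA ρ (sA ρ s) + sA ρ s := by rw [hw, sA_add]
    have hAAw : sA ρ (sA ρ w) = w + sA ρ w := by
      rw [hAw, sA_add, hA3, hw]
      linear_combination (-sA ρ s) * two0 F 4
    have e1 : sA ρ w * (sA ρ w) ^ 4 = w * w ^ 4 := hN w
    have e2 : (w + sA ρ w) * (w + sA ρ w) ^ 4 = w * w ^ 4 := by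
      rw [← hAAw, hN, hN]
    exact no_equal_norm_triple w (sA ρ w) e1 e2 (mul_ne_zero hw0 (pow_ne_zero 4 hw0))
  have hsq : ρ * ρ = 1 := by
    apply MulEquiv.ext
    intro x
    rw [MulAut.mul_apply, MulAut.one_apply]
    have hs : (x⁻¹ * ρ x).s = 0 := by
      rw [T.mul_s, T.inv_s, sA_spec, hfix]; exact add_self0 4 _
    have hc : x⁻¹ * ρ x ∈ Subgroup.center (T F 4) := (T.mem_center_iff _).mpr hs
    have hρc := fixed_on_center_of_fixK_eq ρ hz _ hc
    have hcc : (x⁻¹ * ρ x) * (x⁻¹ * ρ x) = 1 := (T.mul_self_eq_one_iff _).mpr hs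
    have hρx : ρ x = x * (x⁻¹ * ρ x) := by group
    calc ρ (ρ x) = ρ (x * (x⁻¹ * ρ x)) := by rw [← hρx]
      _ = ρ x * (x⁻¹ * ρ x) := by rw [map_mul, hρc]
      _ = x * ((x⁻¹ * ρ x) * (x⁻¹ * ρ x)) := by rw [hρx]; group
      _ = x := by rw [hcc, mul_one]
  calc ρ = (ρ * ρ * ρ) * (ρ * ρ)⁻¹ := by group
    _ = 1 := by rw [h3, hsq]; simp

theorem no_S3 (t1 t2 : MulAut (T F 4)) (h1 : t1 * t1 = 1) (h2 : t2 * t2 = 1)
    (h3 : (t1 * t2) * (t1 * t2) * (t1 * t2) = 1) : t1 * t2 = 1 := by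
  have k1 : fixK t1 = (tr F 4).ker :=
    invol_fixK t1 (fun s => by rw [← sA_mul, h1, sA_one])
  have k2 : fixK t2 = (tr F 4).ker :=
    invol_fixK t2 (fun s => by rw [← sA_mul, h2, sA_one])
  apply order3_trivial _ h3
  apply le_antisymm (fixK_le _)
  intro b hb
  have hb' := (mem_ker_tr b).mp hb
  refine ⟨hb', ?_⟩
  have e2 : t2 (zel 4 b hb') = zel 4 b hb' :=
    fixed_on_center_of_fixK_eq t2 k2 _ (zel_mem_center b hb')
  have e1 : t1 (zel 4 b hb') = zel 4 b hb' :=
    fixed_on_center_of_fixK_eq t1 k1 _ (zel_mem_center b hb')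
  rw [MulAut.mul_apply, e2, e1]

end four

end Cfsg.Agent.Lib.Helper60.SU3Even
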