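import Cfsg.Agent.Lib.Helper60.SU3EvenSemi
import Cfsg.Prelude.Def_Solvable
import Mathlib.Algebra.Module.ZMod
import Mathlib.FieldTheory.Finite.GaloisField
import Mathlib.Algebra.CharP.Two

set_option autoImplicit false

/-! # The automorphism group of the Sylow 2-subgroup `T F q` of `SU_3(q)`, `q` even

`Aut (T F q)` acts on `T/Z = F` through `ΓL_1(F)`; the kernel is `Hom (F, F_q)`. -/

namespace Cfsg.Agent.Lib.Helper60.SU3Even

open scoped commutatorElement
open scoped Classical

variable {F : Type*} [Field F] [Fintype F] {q : ℕ} [EvenQ F q]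

/-! ### the automorphisms `(s, a) ↦ (c * τ s, c * c^q * τ a)` -/

/-- the endomorphism `(s, a) ↦ (c * τ s, c * c^q * τ a)` -/
noncomputable def alphaHom (c : Fˣ) (τ : F →+* F) : T F q →* T F q where
  toFun x := ⟨(c : F) * τ x.s, (c : F) * (c : F) ^ q * τ x.a, by
    have h := congrArg τ x.h
    simp only [map_add, map_mul, map_pow] at h
    simp only [mul_pow, ff]
    linear_combination ((c : F) * (c : F) ^ q) * h⟩
  map_one' := by
    ext
    · show (c : F) * τ 0 = 0
      rw [map_zero, mul_zero]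
    · show (c : F) * (c : F) ^ q * τ 0 = 0
      rw [map_zero, mul_zero]
  map_mul' x y := by
    ext
    · show (c : F) * τ (x.s + y.s) = (c : F) * τ x.s + (c : F) * τ y.s
      rw [map_add, mul_add]
    · show (c : F) * (c : F) ^ q * τ (x.a + y.a + y.s * x.s ^ q) =
        (c : F) * (c : F) ^ q * τ x.a + (c : F) * (c : F) ^ q * τ y.a +
          (c : F) * τ y.s * ((c : F) * τ x.s) ^ q
      rw [map_add, map_add, map_mul, map_pow, mul_pow]; ring

theorem alphaHom_injective (c : Fˣ) (τ : F →+* F) :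
    Function.Injective (alphaHom (q := q) c τ) := by
  intro x y h
  have hs : (c : F) * τ x.s = (c : F) * τ y.s := congrArg T.s h
  have ha : (c : F) * (c : F) ^ q * τ x.a = (c : F) * (c : F) ^ q * τ y.a := congrArg T.a h
  have hc : (c : F) ≠ 0 := c.ne_zero
  ext
  · exact τ.injective (mul_left_cancel₀ hc hs)
  · exact τ.injective (mul_left_cancel₀ (mul_ne_zero hc (pow_ne_zero q hc)) ha)

/-- the automorphism `(s, a) ↦ (c * τ s, c * c^q * τ a)` -/
noncomputable def alpha (c : Fˣ) (τ : F →+* F) : MulAut (T F q) :=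
  MulEquiv.ofBijective (alphaHom c τ)
    ⟨alphaHom_injective c τ, Finite.injective_iff_surjective.mp (alphaHom_injective c τ)⟩

theorem sA_alpha (c : Fˣ) (τ : F →+* F) (s : F) :
    sA (alpha (q := q) c τ) s = (c : F) * τ s := by
  show (c : F) * τ (lift q s).s = _
  rw [lift_s]

/-! ### the action on `T/Z` -/

/-- the action of `Aut (T F q)` on `T/Z = F` -/
noncomputable def sPerm : MulAut (T F q) →* Equiv.Perm F where
  toFun φ := ⟨sA φ, sA φ⁻¹, sA_inv_left φ, sA_inv_right φ⟩
  map_one' := Equiv.ext fun s => sA_one s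
  map_mul' φ ψ := Equiv.ext fun s => sA_mul φ ψ s

theorem sPerm_apply (φ : MulAut (T F q)) (s : F) : sPerm φ s = sA φ s := rfl

theorem mem_ker_sPerm (φ : MulAut (T F q)) :
    φ ∈ (sPerm (F := F) (q := q)).ker ↔ ∀ s, sA φ s = s := by
  rw [MonoidHom.mem_ker]
  constructor
  · intro h s; exact congrArg (fun e : Equiv.Perm F => e s) h
  · intro h; exact Equiv.ext h

/-! ### the kernel -/

theorem ker_s {φ : MulAut (T F q)} (h : ∀ s, sA φ s = s) (x : T F q) : (φ x).s = x.s := by
  rw [sA_spec, h]

theorem ker_center_fixed {φ : MulAut (T F q)} (h : ∀ s, sA φ s = s) (z : T F q) (hz : z.s = 0) :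
    φ z = z := by
  obtain ⟨x, y, rfl⟩ := T.exists_comm_of_mem_center z ((T.mem_center_iff z).mpr hz)
  rw [map_commutatorElement]
  ext
  · rw [T.comm_s, T.comm_s]
  · rw [T.comm_a, T.comm_a, ker_s h, ker_s h]

theorem ker_a_aux {φ : MulAut (T F q)} (h : ∀ s, sA φ s = s) (x l : T F q) (hls : l.s = x.s) :
    (φ x).a + x.a = (φ l).a + l.a := by
  have hz : (l⁻¹ * x).s = 0 := by rw [T.mul_s, T.inv_s, hls]; exact add_self0 q _
  have hx : x = l * (l⁻¹ * x) := by group
  have h1 := ker_center_fixed h _ hz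
  have h2 : φ x = φ l * (l⁻¹ * x) := by
    conv_lhs => rw [hx]
    rw [map_mul, h1]
  have h3 := congrArg T.a h2
  have h4 := congrArg T.a hx
  rw [T.mul_a, hz, zero_mul, add_zero] at h3 h4
  linear_combination h3 + h4 + (l⁻¹ * x).a * two0 F q

/-- the deviation of an automorphism in the kernel -/
noncomputable def del (φ : MulAut (T F q)) (s : F) : F := (φ (lift q s)).a + (lift q s).a

theorem ker_a {φ : MulAut (T F q)} (h : ∀ s, sA φ s = s) (x : T F q) :
    (φ x).a = x.a + del φ x.s := by
  have := ker_a_aux h x (lift q x.s) (lift_s x.s)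
  unfold del
  linear_combination this - x.a * two0 F q

theorem del_fixed {φ : MulAut (T F q)} (h : ∀ s, sA φ s = s) (s : F) :
    (del φ s) ^ q = del φ s := by
  apply eq_of_add_eq_zero q
  unfold del
  have h1 := (φ (lift q s)).h
  have h2 := (lift q s).h
  rw [ker_s h] at h1
  rw [fa]
  linear_combination h1 + h2 + ((lift q s).s * (lift q s).s ^ q) * two0 F q

theorem del_add {φ : MulAut (T F q)} (h : ∀ s, sA φ s = s) (s s' : F) :
    del φ (s + s') = del φ s + del φ s' := by
  have hxy : (lift q s * lift q s').s = s + s' := by rw [T.mul_s, lift_s, lift_s]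
  have e1 := ker_a h (lift q s * lift q s')
  rw [hxy, map_mul, T.mul_a, T.mul_a, ker_s h, ker_s h, ker_a h (lift q s), ker_a h (lift q s'),
    lift_s, lift_s] at e1
  linear_combination -e1

theorem del_zero {φ : MulAut (T F q)} (h : ∀ s, sA φ s = s) : del φ 0 = 0 := by
  have h1 := del_add h 0 0
  rw [add_zero] at h1
  have h2 := add_self0 q (del φ 0)
  rw [← h1] at h2; exact h2

/-- central automorphism attached to an additive map into the fixed field -/
noncomputable def phiDelHom (d : F →+ (tr F q).ker) : T F q →* T F q where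
  toFun x := ⟨x.s, x.a + (d x.s : F), by
    have hd : ((d x.s : F)) ^ q = d x.s := (mem_ker_tr _).mp (d x.s).2
    rw [fa, hd]
    linear_combination x.h + (d x.s : F) * two0 F q⟩
  map_one' := by
    ext
    · rfl
    · show (0 : F) + ((d 0 : (tr F q).ker) : F) = 0
      rw [map_zero]; simp
  map_mul' x y := by
    ext
    · rfl
    · show x.a + y.a + y.s * x.s ^ q + ((d (x.s + y.s) : (tr F q).ker) : F) =
        x.a + (d x.s : F) + (y.a + (d y.s : F)) + y.s * x.s ^ q
      rw [map_add, AddSubgroup.coe_add]; ring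

theorem phiDelHom_invol (d : F →+ (tr F q).ker) (x : T F q) :
    phiDelHom d (phiDelHom d x) = x := by
  ext
  · rfl
  · show x.a + (d x.s : F) + (d x.s : F) = x.a
    linear_combination (d x.s : F) * two0 F q

/-- central automorphism attached to an additive map into the fixed field -/
noncomputable def phiDel (d : F →+ (tr F q).ker) : MulAut (T F q) :=
  MonoidHom.toMulEquiv (phiDelHom d) (phiDelHom d)
    (MonoidHom.ext (phiDelHom_invol d)) (MonoidHom.ext (phiDelHom_invol d))

theorem sA_phiDel (d : F →+ (tr F q).ker) (s : F) : sA (phiDel d) s = s := by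
  show (lift q s).s = s
  exact lift_s s

/-- the kernel of the action on `T/Z` is `Hom (F, F_q)` -/
noncomputable def kerEquiv : (sPerm (F := F) (q := q)).ker ≃ (F →+ (tr F q).ker) where
  toFun φ :=
    { toFun := fun s => ⟨del φ.1 s, (mem_ker_tr _).mpr (del_fixed ((mem_ker_sPerm φ.1).mp φ.2) s)⟩
      map_zero' := Subtype.ext (del_zero ((mem_ker_sPerm φ.1).mp φ.2))
      map_add' := fun s s' => Subtype.ext (del_add ((mem_ker_sPerm φ.1).mp φ.2) s s') }
  invFun d := ⟨phiDel d, (mem_ker_sPerm _).mpr (sA_phiDel d)⟩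
  left_inv φ := by
    have h := (mem_ker_sPerm φ.1).mp φ.2
    apply Subtype.ext
    apply MulEquiv.ext
    intro x
    ext
    · exact (ker_s h x).symm
    · exact (ker_a h x).symm
  right_inv d := by
    apply AddMonoidHom.ext
    intro s
    apply Subtype.ext
    show (lift q s).a + (d (lift q s).s : F) + (lift q s).a = d s
    rw [lift_s]
    linear_combination (lift q s).a * two0 F q

theorem card_addMonoidHom_of_two {V W : Type*} [AddCommGroup V] [AddCommGroup W] [Finite V]
    [Finite W] (hV : ∀ x : V, 2 • x = 0) (hW : ∀ x : W, 2 • x = 0) {d : ℕ}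
    (hd : Nat.card V = 2 ^ d) : Nat.card (V →+ W) = Nat.card W ^ d := by
  letI : Module (ZMod 2) V := AddCommGroup.zmodModule hV
  letI : Module (ZMod 2) W := AddCommGroup.zmodModule hW
  have h1 : Nat.card (V →+ W) = Nat.card (V →ₗ[ZMod 2] W) :=
    Nat.card_congr (AddMonoidHom.toZModLinearMapEquiv 2).toEquiv
  let b := Module.finBasis (ZMod 2) V
  have h2 : Nat.card (V →ₗ[ZMod 2] W) = Nat.card (Fin (Module.finrank (ZMod 2) V) → W) :=
    (Nat.card_congr (b.constr (ZMod 2)).toEquiv).symm
  have h3 : Module.finrank (ZMod 2) V = d := by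
    have := Module.natCard_eq_pow_finrank (K := ZMod 2) (V := V)
    rw [hd, Nat.card_zmod] at this
    exact (Nat.pow_right_injective (le_refl 2) this).symm
  rw [h1, h2, Nat.card_fun, Nat.card_fin, h3]

theorem card_ker_sPerm {d : ℕ} (hd : Nat.card F = 2 ^ d) :
    Nat.card (sPerm (F := F) (q := q)).ker = q ^ d := by
  rw [Nat.card_congr (kerEquiv (F := F) (q := q)),
    card_addMonoidHom_of_two (V := F) (W := (tr F q).ker)
      (fun x => by rw [two_nsmul]; exact add_self0 q x)
      (fun x => by rw [two_nsmul]; exact Subtype.ext (add_self0 q x.1)) hd, card_ker]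

theorem ker_comm {φ ψ : MulAut (T F q)} (hφ : ∀ s, sA φ s = s) (hψ : ∀ s, sA ψ s = s) :
    φ * ψ = ψ * φ := by
  apply MulEquiv.ext; intro x
  rw [MulAut.mul_apply, MulAut.mul_apply]
  ext
  · rw [ker_s hφ, ker_s hψ, ker_s hψ, ker_s hφ]
  · rw [ker_a hφ, ker_a hψ, ker_a hψ, ker_a hφ, ker_s hψ, ker_s hφ]; ring

theorem ker_sq {φ : MulAut (T F q)} (hφ : ∀ s, sA φ s = s) : φ * φ = 1 := by
  apply MulEquiv.ext; intro x
  rw [MulAut.mul_apply, MulAut.one_apply]
  ext
  · rw [ker_s hφ, ker_s hφ]
  · rw [ker_a hφ, ker_a hφ, ker_s hφ]; linear_combination (del φ x.s) * two0 F q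

end Cfsg.Agent.Lib.Helper60.SU3Even
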