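import Cfsg.Agent.Lib.Helper60.SU3EvenAutCard
import Cfsg.Prelude.Def_Transfer

set_option autoImplicit false

/-! # Order and `O_2` of the automorphism group of the Sylow 2-subgroup `T F q` of `SU_3(q)` -/

namespace Cfsg.Agent.Lib.Helper60.SU3Even

open scoped Classical

variable {F : Type*} [Field F] [Fintype F] {q : ℕ} [EvenQ F q]

theorem card_ringHom_self' {K : Type*} [Field K] [Finite K] [CharP K 2] {k : ℕ}
    (hk : Nat.card K = 2 ^ k) : Nat.card (K →+* K) = k := by
  have : Fact (Nat.Prime 2) := ⟨Nat.prime_two⟩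
  let _ : Algebra (ZMod 2) K := ZMod.algebra K 2
  have h1 : Module.finrank (ZMod 2) K = k := by
    have := FiniteField.pow_finrank_eq_natCard 2 K
    rw [hk] at this
    exact Nat.pow_right_injective (le_refl 2) this
  have h2 : Nat.card (K →ₐ[ZMod 2] K) = Module.finrank (ZMod 2) K :=
    FiniteField.natCard_algHom_of_finrank_dvd (dvd_refl _)
  let eqv : (K →+* K) ≃ (K →ₐ[ZMod 2] K) :=
    { toFun := fun ι => { ι with
        commutes' := fun r => by
          have := Subsingleton.elim (ι.comp (algebraMap (ZMod 2) K)) (algebraMap (ZMod 2) K)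
          exact DFunLike.congr_fun this r }
      invFun := fun f => f.toRingHom
      left_inv := fun ι => by ext x; rfl
      right_inv := fun f => by ext x; rfl }
  rw [Nat.card_congr eqv, h2, h1]

theorem exists_unit_tau (φ : MulAut (T F q)) :
    ∃ (c : Fˣ) (τ : F →+* F), ∀ s, sA φ s = (c : F) * τ s :=
  ⟨Units.mk0 (sA φ 1) (sA_one_ne_zero φ), tauHom φ, fun s => sA_eq_tau φ s⟩

/-- the parametrisation of the image of `Aut (T F q)` in `Sym F` -/
noncomputable def rangeMap (p : Fˣ × (F →+* F)) : (sPerm (F := F) (q := q)).range :=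
  ⟨sPerm (alpha p.1 p.2), ⟨_, rfl⟩⟩

theorem rangeMap_bijective : Function.Bijective (rangeMap (F := F) (q := q)) := by
  constructor
  · rintro ⟨c, τ⟩ ⟨c', τ'⟩ h
    have h' : ∀ s, (c : F) * τ s = (c' : F) * τ' s := fun s => by
      have := congrArg (fun e : (sPerm (F := F) (q := q)).range => (e : Equiv.Perm F) s) h
      simpa only [rangeMap, sPerm_apply, sA_alpha] using this
    have hc : (c : F) = c' := by simpa using h' 1
    have hcc : c = c' := Units.ext hc
    subst hcc
    have hτ : τ = τ' := RingHom.ext fun s => mul_left_cancel₀ c.ne_zero (h' s)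
    rw [hτ]
  · rintro ⟨e, φ, rfl⟩
    obtain ⟨c, τ, h⟩ := exists_unit_tau φ
    refine ⟨(c, τ), Subtype.ext (Equiv.ext fun s => ?_)⟩
    show sA (alpha c τ) s = sA φ s
    rw [sA_alpha, h]

theorem card_range_sPerm {k : ℕ} (hk : Nat.card F = 2 ^ k) :
    Nat.card (sPerm (F := F) (q := q)).range = (2 ^ k - 1) * k := by
  haveI : CharP F 2 := CharTwo.of_one_ne_zero_of_two_eq_zero one_ne_zero (two0 F q)
  rw [← Nat.card_congr (Equiv.ofBijective _ (rangeMap_bijective (F := F) (q := q))), Nat.card_prod,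
    Nat.card_units, hk, card_ringHom_self' hk]

theorem card_mulAut {k : ℕ} (hk : Nat.card F = 2 ^ k) :
    Nat.card (MulAut (T F q)) = q ^ k * ((2 ^ k - 1) * k) := by
  rw [← card_range_sPerm (q := q) hk, ← card_ker_sPerm (q := q) hk]
  have := Subgroup.card_eq_card_quotient_mul_card_subgroup (sPerm (F := F) (q := q)).ker
  rw [this, Nat.card_congr (QuotientGroup.quotientKerEquivRange sPerm).toEquiv, mul_comm]

theorem sA_pow_of_mul {φ : MulAut (T F q)} {m : F} (h : ∀ s, sA φ s = m * s) (n : ℕ) (s : F) :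
    sA (φ ^ n) s = m ^ n * s := by
  induction n generalizing s with
  | zero => rw [pow_zero, pow_zero, sA_one, one_mul]
  | succ n ih => rw [pow_succ, sA_mul, h, ih, pow_succ]; ring

theorem eq_one_of_pow_two_pow (q : ℕ) [EvenQ F q] (j : ℕ) (x : F) (h : x ^ (2 ^ j) = 1) : x = 1 := by
  induction j with
  | zero => simpa using h
  | succ j ih =>
    apply ih
    apply T.sq_inj q
    rw [one_mul, ← pow_two, ← pow_mul, ← pow_succ]
    exact h

theorem normal_two_le_ker (N : Subgroup (MulAut (T F q))) (hN : N.Normal) (hp : IsPGroup 2 N) :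
    N ≤ (sPerm (F := F) (q := q)).ker := by
  intro θ hθ
  rw [mem_ker_sPerm]
  obtain ⟨c, τ, h⟩ := exists_unit_tau θ
  have hτsurj : Function.Surjective τ := Finite.injective_iff_surjective.mp τ.injective
  -- Step 1: `τ` fixes every unit
  have hτ : ∀ c1 : Fˣ, τ (c1 : F) = c1 := by
    intro c1
    obtain ⟨δ, hδ⟩ : ∃ δ : MulAut (T F q), δ = alpha (q := q) c1 (RingHom.id F) := ⟨_, rfl⟩
    have hδs : ∀ s, sA δ s = (c1 : F) * s := fun s => by rw [hδ, sA_alpha]; rfl
    obtain ⟨κ, hκdef⟩ : ∃ κ : MulAut (T F q), κ = θ * δ * θ⁻¹ * δ⁻¹ := ⟨_, rfl⟩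
    have hκ : κ ∈ N := by
      have h1 : δ * θ⁻¹ * δ⁻¹ ∈ N := hN.conj_mem _ (N.inv_mem hθ) δ
      have h2 := N.mul_mem hθ h1
      rw [hκdef]
      convert h2 using 1
      group
    have hrel : κ * δ * θ = θ * δ := by rw [hκdef]; group
    have hκs : ∀ v, sA κ v = (τ (c1 : F) / (c1 : F)) * v := by
      intro v
      obtain ⟨s, hs⟩ := hτsurj (v / ((c1 : F) * (c : F)))
      have e := congrArg (fun ψ : MulAut (T F q) => sA ψ s) hrel
      simp only [sA_mul, hδs, h, map_mul] at e
      have hv : (c1 : F) * ((c : F) * τ s) = v := by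
        rw [hs]; field_simp
      rw [hv] at e
      rw [e, hs]
      field_simp
    obtain ⟨j, hj⟩ := hp ⟨κ, hκ⟩
    have hj' : κ ^ (2 ^ j) = 1 := congrArg Subtype.val hj
    have e := sA_pow_of_mul hκs (2 ^ j) 1
    rw [hj', sA_one, mul_one] at e
    have hm := eq_one_of_pow_two_pow q j _ e.symm
    rw [div_eq_one_iff_eq c1.ne_zero] at hm
    exact hm
  have hτ' : ∀ s : F, τ s = s := by
    intro s
    by_cases hs : s = 0
    · rw [hs, map_zero]
    · exact hτ (Units.mk0 s hs)
  have hθs : ∀ s, sA θ s = (c : F) * s := fun s => by rw [h, hτ']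
  obtain ⟨j, hj⟩ := hp ⟨θ, hθ⟩
  have hj' : θ ^ (2 ^ j) = 1 := congrArg Subtype.val hj
  have e := sA_pow_of_mul hθs (2 ^ j) 1
  rw [hj', sA_one, mul_one] at e
  have hc := eq_one_of_pow_two_pow q j _ e.symm
  intro s
  rw [hθs, hc, one_mul]

theorem pCore_eq_ker : Cfsg.pCore 2 (MulAut (T F q)) = (sPerm (F := F) (q := q)).ker := by
  apply le_antisymm
  · exact sSup_le fun N hN => normal_two_le_ker N hN.1 hN.2
  · apply le_sSup
    refine ⟨inferInstance, ?_⟩
    intro g
    refine ⟨1, Subtype.ext ?_⟩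
    show (g : MulAut (T F q)) ^ 2 ^ 1 = 1
    rw [pow_one, sq]
    exact ker_sq ((mem_ker_sPerm g.1).mp g.2)

theorem pCore_map_le_aux {A B : Type*} [Group A] [Group B] (p : ℕ) (e : A ≃* B) :
    (Cfsg.pCore p A).map e.toMonoidHom ≤ Cfsg.pCore p B := by
  rw [Subgroup.map_le_iff_le_comap]
  apply sSup_le
  rintro N ⟨hNn, hNc⟩
  rw [← Subgroup.map_le_iff_le_comap]
  apply le_sSup
  exact ⟨hNn.map _ e.surjective, hNc.map _⟩

theorem pCore_map_eq_aux {A B : Type*} [Group A] [Group B] (p : ℕ) (e : A ≃* B) :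
    (Cfsg.pCore p A).map e.toMonoidHom = Cfsg.pCore p B := by
  apply le_antisymm (pCore_map_le_aux p e)
  intro y hy
  have h := pCore_map_le_aux p e.symm (Subgroup.mem_map_of_mem _ hy)
  exact ⟨e.symm y, h, by simp⟩

/-- the automorphism group of a group isomorphic to `T F q`: `O_2` is elementary abelian of order
`q ^ k` and the full group has order `q ^ k * ((2 ^ k - 1) * k)`, where `|F| = 2 ^ k` -/
theorem aut_structure {S : Type*} [Group S] (e : S ≃* T F q) {k : ℕ} (hk : Nat.card F = 2 ^ k) :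
    Cfsg.IsElementaryAbelian 2 (Cfsg.pCore 2 (MulAut S)) ∧
      Nat.card ↥(Cfsg.pCore 2 (MulAut S)) = q ^ k ∧
      Nat.card (MulAut S) = q ^ k * ((2 ^ k - 1) * k) := by
  let E : MulAut S ≃* MulAut (T F q) := MulAut.congr e
  have hcore : (Cfsg.pCore 2 (MulAut S)).map E.toMonoidHom = (sPerm (F := F) (q := q)).ker := by
    rw [pCore_map_eq_aux, pCore_eq_ker]
  have hmem : ∀ a ∈ Cfsg.pCore 2 (MulAut S), ∀ s, sA (E a) s = s := by
    intro a ha
    have : E a ∈ (Cfsg.pCore 2 (MulAut S)).map E.toMonoidHom := Subgroup.mem_map_of_mem _ ha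
    rw [hcore] at this
    exact (mem_ker_sPerm _).mp this
  refine ⟨⟨⟨⟨fun a b => Subtype.ext ?_⟩⟩, ?_⟩, ?_, ?_⟩
  · apply E.injective
    show E (a.1 * b.1) = E (b.1 * a.1)
    rw [map_mul, map_mul]
    exact ker_comm (hmem a.1 a.2) (hmem b.1 b.2)
  · intro a ha
    apply E.injective
    rw [map_pow, map_one, sq]
    exact ker_sq (hmem a ha)
  · rw [← Subgroup.card_map_of_injective (f := E.toMonoidHom) (K := Cfsg.pCore 2 (MulAut S))
      (show Function.Injective E.toMonoidHom from E.injective)]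
    show Nat.card ↥((Cfsg.pCore 2 (MulAut S)).map E.toMonoidHom) = q ^ k
    rw [hcore, card_ker_sPerm hk]
  · rw [Nat.card_congr E.toEquiv, card_mulAut hk]

end Cfsg.Agent.Lib.Helper60.SU3Even
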