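import Mathlib
import Cfsg.Agent.Lib.Helper60.SU3EvenAut

/-!
# No large totally singular subgroup for the norm form (helper60)

`no_large_singular`: if `C ≤ (F, +)` has at least `q` elements and all norms `c * c ^ q`, `c ∈ C`, lie in an
additive subgroup `V0` of the fixed field, then `V0` is the whole fixed field.
-/

set_option autoImplicit false

namespace Cfsg.Agent.Lib.Helper60.SU3Even

open Finset
open scoped Classical

/-- the sign character of `ZMod 2` -/
def sgn (a : ZMod 2) : ℤ := if a = 0 then 1 else -1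

theorem sgn_add (a b : ZMod 2) : sgn (a + b) = sgn a * sgn b := by revert a b; decide

theorem sgn_zero : sgn 0 = 1 := by decide

theorem sgn_one : sgn 1 = -1 := by decide

theorem zmod2_eq_one {a : ZMod 2} (h : a ≠ 0) : a = 1 := by revert a; decide

theorem sgn_eq (a : ZMod 2) : sgn a = 1 ∨ sgn a = -1 := by revert a; decide

variable {F : Type*} [Field F] [Fintype F] [DecidableEq F]

theorem sum_sgn_eq_zero (D : AddSubgroup F) (l : F →+ ZMod 2) {d0 : F} (hd0 : d0 ∈ D)
    (h : l d0 = 1) : ∑ d ∈ univ.filter (· ∈ D), sgn (l d) = 0 := by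
  have e : ∑ d ∈ univ.filter (· ∈ D), sgn (l (d + d0)) = ∑ d ∈ univ.filter (· ∈ D), sgn (l d) := by
    apply Finset.sum_equiv (Equiv.addRight d0)
    · intro d
      simp only [mem_filter, mem_univ, true_and, Equiv.coe_addRight]
      constructor
      · intro hd; exact D.add_mem hd hd0
      · intro hd
        have := D.sub_mem hd hd0
        simpa using this
    · intro d _; rfl
  have e2 : ∑ d ∈ univ.filter (· ∈ D), sgn (l (d + d0)) =
      -∑ d ∈ univ.filter (· ∈ D), sgn (l d) := by
    rw [← Finset.sum_neg_distrib]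
    apply Finset.sum_congr rfl
    intro d _
    rw [map_add, h, sgn_add, sgn_one]; ring
  linarith

theorem sum_sgn_eq_card (D : AddSubgroup F) (l : F →+ ZMod 2) (h : ∀ d ∈ D, l d = 0) :
    ∑ d ∈ univ.filter (· ∈ D), sgn (l d) = ((univ.filter (· ∈ D)).card : ℤ) := by
  rw [Finset.card_eq_sum_ones, Nat.cast_sum]
  apply Finset.sum_congr rfl
  intro d hd
  simp only [mem_filter, mem_univ, true_and] at hd
  rw [h d hd, sgn_zero]; simp

variable {q : ℕ} [EvenQ F q]

theorem card_norm_fiber (y : F) (hy : y ^ q = y) :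
    (univ.filter (fun x : F => x * x ^ q = y)).card = if y = 0 then 1 else q + 1 := by
  split_ifs with h0
  · subst h0
    have : univ.filter (fun x : F => x * x ^ q = 0) = {0} := by
      ext x
      simp only [mem_filter, mem_univ, true_and, mem_singleton]
      constructor
      · intro h
        rcases mul_eq_zero.mp h with h | h
        · exact h
        · exact (pow_eq_zero_iff (by have := two_le_q F q; omega)).mp h
      · rintro rfl; simp [z0]
    rw [this, card_singleton]
  · exact Cfsg.Agent.Lib.Helper5.card_hnorm_fiber (EvenQ.card (F := F) (q := q)) h0 hy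

theorem sum_eps (χ : F →+ ZMod 2) {b0 : F} (hb0 : b0 ∈ (tr F q).ker) (h1 : χ b0 = 1) :
    ∑ s : F, sgn (χ (s * s ^ q)) = -(q : ℤ) := by
  have hmaps : ∀ x ∈ (univ : Finset F), x * x ^ q ∈ univ.filter (· ∈ (tr F q).ker) := by
    intro x _
    simp only [mem_filter, mem_univ, true_and]
    exact (mem_ker_tr _).mpr (norm_fixed x)
  rw [← Finset.sum_fiberwise_of_maps_to hmaps]
  have hinner : ∀ y ∈ univ.filter (· ∈ (tr F q).ker),
      ∑ x ∈ univ.filter (fun x : F => x * x ^ q = y), sgn (χ (x * x ^ q)) =
        ((q : ℤ) + 1) * sgn (χ y) - (if y = 0 then (q : ℤ) else 0) := by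
    intro y hy
    simp only [mem_filter, mem_univ, true_and] at hy
    have hy' := (mem_ker_tr y).mp hy
    have : ∑ x ∈ univ.filter (fun x : F => x * x ^ q = y), sgn (χ (x * x ^ q)) =
        ∑ x ∈ univ.filter (fun x : F => x * x ^ q = y), sgn (χ y) := by
      apply Finset.sum_congr rfl
      intro x hx
      simp only [mem_filter, mem_univ, true_and] at hx
      rw [hx]
    rw [this, Finset.sum_const, card_norm_fiber y hy']
    split_ifs with h0
    · subst h0; rw [map_zero, sgn_zero]; simp
    · simp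
  have hz := sum_sgn_eq_zero (tr F q).ker χ hb0 h1
  have h0mem : (0 : F) ∈ univ.filter (· ∈ (tr F q).ker) := by
    simp only [mem_filter, mem_univ, true_and]; exact (tr F q).ker.zero_mem
  rw [Finset.sum_congr rfl hinner, Finset.sum_sub_distrib, ← Finset.mul_sum,
    Finset.sum_ite_eq', if_pos h0mem]
  have hz' : ∑ i ∈ univ.filter (· ∈ (tr F q).ker), sgn (χ i) = 0 := by convert hz
  rw [hz']; ring


/-- the polarisation of the norm, additive in the second variable -/
def betaHom (q : ℕ) [EvenQ F q] (s : F) : F →+ F where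
  toFun c := s * c ^ q + c * s ^ q
  map_zero' := by simp [z0]
  map_add' c c' := by rw [fa]; ring

theorem betaHom_apply (s c : F) : betaHom q s c = s * c ^ q + c * s ^ q := rfl

theorem norm_add (s c : F) :
    (s + c) * (s + c) ^ q = s * s ^ q + c * c ^ q + betaHom q s c := by
  rw [betaHom_apply, fa]; ring

theorem betaHom_add_left (s s' c : F) :
    betaHom q (s + s') c = betaHom q s c + betaHom q s' c := by
  rw [betaHom_apply, betaHom_apply, betaHom_apply, fa]; ring

theorem betaHom_zero_left (c : F) : betaHom q (0 : F) c = 0 := by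
  rw [betaHom_apply, z0]; ring

omit [DecidableEq F] [EvenQ F q] in
theorem card_dvd_of_invariant (C : AddSubgroup F) (E : Finset F)
    (h : ∀ e ∈ E, ∀ c ∈ C, e + c ∈ E) : (univ.filter (· ∈ C)).card ∣ E.card := by
  induction' hn : E.card using Nat.strong_induction_on with n ih generalizing E
  rcases E.eq_empty_or_nonempty with rfl | ⟨e0, he0⟩
  · simp at hn; subst hn; exact dvd_zero _
  · set Cs := (univ.filter (· ∈ C)).image (fun c => e0 + c) with hCs
    have hsub : Cs ⊆ E := by
      intro x hx
      rw [hCs, mem_image] at hx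
      obtain ⟨c, hc, rfl⟩ := hx
      simp only [mem_filter, mem_univ, true_and] at hc
      exact h e0 he0 c hc
    have hcard : Cs.card = (univ.filter (· ∈ C)).card :=
      Finset.card_image_of_injective _ (add_right_injective e0)
    have hinv : ∀ e ∈ E \ Cs, ∀ c ∈ C, e + c ∈ E \ Cs := by
      intro e he c hc
      rw [mem_sdiff] at he ⊢
      refine ⟨h e he.1 c hc, fun hmem => he.2 ?_⟩
      rw [hCs, mem_image] at hmem ⊢
      obtain ⟨c', hc', hcc⟩ := hmem
      simp only [mem_filter, mem_univ, true_and] at hc'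
      refine ⟨c' - c, by simp only [mem_filter, mem_univ, true_and]; exact C.sub_mem hc' hc, ?_⟩
      linear_combination hcc
    have hpos : 0 < Cs.card := by
      rw [hcard, Finset.card_pos]
      exact ⟨0, by simp only [mem_filter, mem_univ, true_and]; exact C.zero_mem⟩
    have hsplit : (E \ Cs).card + Cs.card = E.card := Finset.card_sdiff_add_card_eq_card hsub
    have hlt : (E \ Cs).card < n := by omega
    have := ih (E \ Cs).card hlt (E \ Cs) hinv rfl
    rw [← hn, ← hsplit]
    exact dvd_add this (by rw [hcard])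

theorem no_large_singular (C V0 : AddSubgroup F) (hV : V0 ≤ (tr F q).ker)
    (hC : ∀ c ∈ C, c * c ^ q ∈ V0) (hcard : q ≤ Nat.card C) : V0 = (tr F q).ker := by
  by_contra hne
  obtain ⟨b0, hb0K, hb0V⟩ := SetLike.exists_of_lt (lt_of_le_of_ne hV hne)
  haveI : CharP F 2 := CharTwo.of_one_ne_zero_of_two_eq_zero one_ne_zero (two0 F q)
  let _ : Algebra (ZMod 2) F := ZMod.algebra F 2
  obtain ⟨f, hf0, hfV⟩ := Submodule.exists_dual_map_eq_bot_of_notMem
    (p := AddSubgroup.toZModSubmodule 2 V0) (x := b0) (by simpa using hb0V) inferInstance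
  let χ : F →+ ZMod 2 := f.toAddMonoidHom
  have hχV : ∀ v ∈ V0, χ v = 0 := by
    intro v hv
    have hmem : f v ∈ (AddSubgroup.toZModSubmodule 2 V0).map f :=
      Submodule.mem_map_of_mem (by simpa using hv)
    rw [hfV] at hmem
    exact (Submodule.mem_bot (ZMod 2)).mp hmem
  have hχb : χ b0 = 1 := zmod2_eq_one hf0
  set ε : F → ℤ := fun s => sgn (χ (s * s ^ q)) with hε
  have hΛ : ∑ s : F, ε s = -(q : ℤ) := sum_eps χ hb0K hχb
  have hεC : ∀ c ∈ C, χ (c * c ^ q) = 0 := fun c hc => hχV _ (hC c hc)
  let lam : F → (F →+ ZMod 2) := fun s => χ.comp (betaHom q s)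
  have hlam : ∀ s c, lam s c = χ (betaHom q s c) := fun s c => rfl
  have heps_add : ∀ s c, c ∈ C → ε (s + c) = ε s * sgn (lam s c) := by
    intro s c hc
    show sgn (χ ((s + c) * (s + c) ^ q)) = sgn (χ (s * s ^ q)) * sgn (χ (betaHom q s c))
    rw [norm_add, map_add, map_add, hεC c hc, add_zero, sgn_add]
  let C' : AddSubgroup F :=
    { carrier := {s | ∀ c ∈ C, lam s c = 0}
      zero_mem' := by
        intro c _
        rw [hlam, betaHom_zero_left, map_zero]
      add_mem' := by
        intro s s' hs hs' c hc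
        rw [hlam, betaHom_add_left, map_add, ← hlam, ← hlam, hs c hc, hs' c hc, add_zero]
      neg_mem' := by
        intro s hs
        have : -s = s := by linear_combination -s * two0 F q
        rw [this]; exact hs }
  have hC'mem : ∀ s, s ∈ C' ↔ ∀ c ∈ C, lam s c = 0 := fun s => Iff.rfl
  have hCC' : C ≤ C' := by
    intro s hs c hc
    have h1 := congrArg χ (norm_add (q := q) s c)
    rw [map_add, map_add, hεC s hs, hεC c hc, hεC (s + c) (C.add_mem hs hc)] at h1
    rw [hlam]
    simpa using h1.symm
  set Cf := univ.filter (· ∈ C) with hCf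
  have hm : Cf.card = Nat.card C := by
    rw [Nat.card_eq_fintype_card, Fintype.card_subtype]
  have hinner : ∀ s : F, ∑ c ∈ Cf, sgn (lam s c) = if s ∈ C' then (Cf.card : ℤ) else 0 := by
    intro s
    split_ifs with hs
    · exact sum_sgn_eq_card C (lam s) hs
    · have : ∃ c0 ∈ C, lam s c0 ≠ 0 := by
        by_contra hcon
        push Not at hcon
        exact hs hcon
      obtain ⟨c0, hc0, hl⟩ := this
      exact sum_sgn_eq_zero C (lam s) hc0 (zmod2_eq_one hl)
  set C'f := univ.filter (· ∈ C') with hC'f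
  have hdouble : (Cf.card : ℤ) * ∑ s : F, ε s = (Cf.card : ℤ) * ∑ s ∈ C'f, ε s := by
    calc (Cf.card : ℤ) * ∑ s : F, ε s = ∑ c ∈ Cf, ∑ s : F, ε s := by
          rw [Finset.sum_const, nsmul_eq_mul]
      _ = ∑ c ∈ Cf, ∑ s : F, ε (s + c) :=
          (Finset.sum_congr rfl (fun c _ => Equiv.sum_comp (Equiv.addRight c) ε)).symm
      _ = ∑ s : F, ∑ c ∈ Cf, ε (s + c) := Finset.sum_comm
      _ = ∑ s : F, ε s * (if s ∈ C' then (Cf.card : ℤ) else 0) := by
          apply Finset.sum_congr rfl
          intro s _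
          rw [← hinner s, Finset.mul_sum]
          apply Finset.sum_congr rfl
          intro c hc
          exact heps_add s c (by simpa [hCf] using hc)
      _ = (Cf.card : ℤ) * ∑ s ∈ C'f, ε s := by
          rw [Finset.mul_sum, hC'f, Finset.sum_filter]
          apply Finset.sum_congr rfl
          intro s _
          split_ifs <;> ring
  have hqpos : 0 < q := by have := two_le_q F q; omega
  have hmpos : 0 < Cf.card := by rw [hm]; omega
  have hsum' : ∑ s ∈ C'f, ε s = -(q : ℤ) := by
    rw [hΛ] at hdouble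
    have h0 : (Cf.card : ℤ) ≠ 0 := by positivity
    exact (mul_left_cancel₀ h0 hdouble).symm
  -- split according to the sign
  set Ep := C'f.filter (fun s => ε s = 1) with hEp
  set Em := C'f.filter (fun s => ¬ ε s = 1) with hEm
  have hsplit : ∑ s ∈ C'f, ε s = (Ep.card : ℤ) - Em.card := by
    rw [← Finset.sum_filter_add_sum_filter_not C'f (fun s => ε s = 1)]
    have h1 : ∑ s ∈ Ep, ε s = Ep.card := by
      rw [Finset.card_eq_sum_ones, Nat.cast_sum]
      apply Finset.sum_congr rfl
      intro s hs
      rw [hEp, mem_filter] at hs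
      rw [hs.2]; simp
    have h2 : ∑ s ∈ Em, ε s = -(Em.card : ℤ) := by
      rw [Finset.card_eq_sum_ones, Nat.cast_sum, ← Finset.sum_neg_distrib]
      apply Finset.sum_congr rfl
      intro s hs
      rw [hEm, mem_filter] at hs
      rcases sgn_eq (χ (s * s ^ q)) with h | h
      · exact absurd h hs.2
      · show sgn (χ (s * s ^ q)) = _
        rw [h]; simp
    rw [h1, h2]; ring
  have hεinv : ∀ s ∈ C', ∀ c ∈ C, ε (s + c) = ε s := by
    intro s hs c hc
    rw [heps_add s c hc, hs c hc, sgn_zero, mul_one]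
  have hmemC'f : ∀ s, s ∈ C'f ↔ s ∈ C' := by
    intro s; rw [hC'f]; simp only [mem_filter, mem_univ, true_and]
  have hdp : Cf.card ∣ Ep.card := by
    apply card_dvd_of_invariant C Ep
    intro e he c hc
    rw [hEp, mem_filter, hmemC'f] at he ⊢
    exact ⟨C'.add_mem he.1 (hCC' hc), by rw [hεinv e he.1 c hc]; exact he.2⟩
  have hdm : Cf.card ∣ Em.card := by
    apply card_dvd_of_invariant C Em
    intro e he c hc
    rw [hEm, mem_filter, hmemC'f] at he ⊢
    exact ⟨C'.add_mem he.1 (hCC' hc), by rw [hεinv e he.1 c hc]; exact he.2⟩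
  obtain ⟨a, ha⟩ := hdp
  obtain ⟨b, hb⟩ := hdm
  have hcardC' : C'f.card = Ep.card + Em.card := by
    rw [hEp, hEm, Finset.card_filter_add_card_filter_not]
  have hC'dvd : C'f.card ∣ q ^ 2 := by
    have h1 : Nat.card C' ∣ Nat.card F := AddSubgroup.card_addSubgroup_dvd_card C'
    rw [Nat.card_eq_fintype_card (α := F), EvenQ.card (F := F) (q := q),
      Nat.card_eq_fintype_card, Fintype.card_subtype] at h1
    exact h1
  have h0Ep : (0 : F) ∈ Ep := by
    rw [hEp, mem_filter, hmemC'f]
    refine ⟨C'.zero_mem, ?_⟩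
    show sgn (χ (0 * 0 ^ q)) = 1
    rw [zero_mul, map_zero, sgn_zero]
  have hEppos : 0 < Ep.card := Finset.card_pos.mpr ⟨0, h0Ep⟩
  -- arithmetic
  have hrel : (Cf.card * b : ℤ) = Cf.card * a + q := by
    have := hsum'
    rw [hsplit, ha, hb] at this
    push_cast at this
    linarith
  have hrel' : Cf.card * b = Cf.card * a + q := by exact_mod_cast hrel
  set m := Cf.card with hmdef
  have hba : a < b := by
    by_contra hle
    push Not at hle
    have : m * b ≤ m * a := Nat.mul_le_mul_left m hle
    omega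
  obtain ⟨d, rfl⟩ : ∃ d, b = a + 1 + d := ⟨b - a - 1, by omega⟩
  have hmq : m = q ∧ d = 0 := by
    have h1 : m * (a + 1 + d) = m * a + m + m * d := by ring
    rw [h1] at hrel'
    have hmq' : q ≤ m := by rw [hm]; exact hcard
    have h2 : m + m * d = q := by omega
    have hd : d = 0 := by
      by_contra hd
      have : m ≤ m * d := Nat.le_mul_of_pos_right m (Nat.pos_of_ne_zero hd)
      omega
    subst hd
    exact ⟨by omega, rfl⟩
  obtain ⟨hmq1, rfl⟩ := hmq
  have hC'card : C'f.card = q * (2 * a + 1) := by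
    rw [hcardC', ha, hb, hmq1]; ring
  have hodd : (2 * a + 1) ∣ q := by
    rw [hC'card, pow_two] at hC'dvd
    exact Nat.dvd_of_mul_dvd_mul_left hqpos hC'dvd
  obtain ⟨j, hj⟩ := q_eq_two_pow F q
  rw [hj] at hodd
  obtain ⟨i, _, hi⟩ := (Nat.dvd_prime_pow Nat.prime_two).mp hodd
  have hi0 : i = 0 := by
    by_contra hi0
    have : 2 ∣ 2 ^ i := dvd_pow_self 2 hi0
    omega
  subst hi0
  have ha0 : a = 0 := by simpa using hi
  rw [ha0, mul_zero] at ha
  omega


omit [DecidableEq F] in
/-- an automorphism whose square acts trivially on the `s`-coordinate fixes the centre pointwise -/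
theorem invol_fixK_gen (φ : MulAut (T F q)) (hA2 : ∀ s, sA φ (sA φ s) = s) :
    fixK φ = (tr F q).ker := by
  classical
  have hrange : (gA φ).range ≤ (gA φ).ker := by
    rintro _ ⟨s, rfl⟩
    rw [AddMonoidHom.mem_ker, gA_apply, gA_apply, sA_add, hA2]
    linear_combination (s + sA φ s) * two0 F q
  have h1 : Nat.card (gA φ).ker * (gA φ).ker.index = Nat.card F := AddSubgroup.card_mul_index _
  have h2 : (gA φ).ker.index = Nat.card (gA φ).range := AddSubgroup.index_ker _
  have h3 : Nat.card F = q ^ 2 := by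
    rw [Nat.card_eq_fintype_card, EvenQ.card (F := F) (q := q)]
  have h4 : Nat.card (gA φ).range ≤ Nat.card (gA φ).ker := AddSubgroup.card_le_of_le hrange
  rw [h2, h3] at h1
  have hcard : q ≤ Nat.card (gA φ).ker := by
    by_contra hlt
    push Not at hlt
    nlinarith
  exact no_large_singular (gA φ).ker (fixK φ) (fixK_le φ)
    (fun c hc => norm_mem_fixK φ c ((mem_ker_gA φ c).mp hc)) hcard

omit [DecidableEq F] in
theorem sA_conj (g : T F q) (s : F) : sA (MulAut.conj g) s = s := by
  show ((MulAut.conj g) (lift q s)).s = s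
  rw [MulAut.conj_apply, T.mul_s, T.mul_s, T.inv_s, lift_s]
  linear_combination g.s * two0 F q

end Cfsg.Agent.Lib.Helper60.SU3Even
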