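import Mathlib
import Cfsg.Agent.Lib.Helper60.SU3EvenSylow
import Cfsg.Agent.Lib.Helper5.SUCard
import Cfsg.Agent.Lib.Helper5.UnitaryCard

/-!
# Sylow 2-subgroups of `SU_3(q)`, `q` even, are isomorphic to `T F q` (helper60)
-/

set_option autoImplicit false

namespace Cfsg.Agent.Lib.Helper60.SU3Even

variable {F : Type*} [Field F] [Fintype F] {q : ℕ}

theorem exists_equiv_sylow_of_card [EvenQ F q] {G : Type*} [Group G] [Finite G]
    (g : T F q →* G) (hg : Function.Injective g) (k k' : ℕ) (hk' : Odd k')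
    (hcard : k * Nat.card G = q ^ 3 * k') (S : Sylow 2 G) :
    Nonempty (↥(S : Subgroup G) ≃* T F q) := by
  haveI : Fact (Nat.Prime 2) := ⟨Nat.prime_two⟩
  obtain ⟨j, hj⟩ := q_eq_two_pow F q
  have hRcard : Nat.card g.range = q ^ 3 := by
    rw [← T.card_eq (F := F) (q := q)]
    exact Nat.card_congr (MonoidHom.ofInjective hg).toEquiv.symm
  have hR2 : IsPGroup 2 g.range :=
    IsPGroup.of_card (n := j * 3) (by rw [hRcard, hj, pow_mul])
  obtain ⟨P, hP⟩ := hR2.exists_le_sylow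
  obtain ⟨i, hi⟩ := IsPGroup.iff_card.mp P.2
  have hdvd : Nat.card (P : Subgroup G) ∣ Nat.card G := Subgroup.card_subgroup_dvd_card _
  have hdvd2 : Nat.card (P : Subgroup G) ∣ q ^ 3 * k' := by
    rw [← hcard]
    exact dvd_trans hdvd ⟨k, by ring⟩
  have hcop : Nat.Coprime (Nat.card (P : Subgroup G)) k' := by
    rw [hi]
    exact Nat.Coprime.pow_left i (Nat.coprime_two_left.mpr hk')
  have hdvd3 : Nat.card (P : Subgroup G) ∣ q ^ 3 :=
    Nat.Coprime.dvd_of_dvd_mul_right hcop hdvd2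
  have hqpos : 0 < q ^ 3 := by have := two_le_q F q; positivity
  have hRP : g.range = (P : Subgroup G) :=
    Subgroup.eq_of_le_of_card_ge hP (by rw [hRcard]; exact Nat.le_of_dvd hqpos hdvd3)
  obtain ⟨x, hx⟩ := MulAction.exists_smul_eq G S P
  have e1 : ↥(S : Subgroup G) ≃* ↥((x • S : Sylow 2 G) : Subgroup G) := Sylow.equivSMul S x
  have e2 : ↥((x • S : Sylow 2 G) : Subgroup G) ≃* ↥g.range :=
    MulEquiv.subgroupCongr (by rw [hx, hRP])
  exact ⟨(e1.trans e2).trans (MonoidHom.ofInjective hg).symm⟩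

theorem card_su_eq [EvenQ F q] :
    (q + 1) * Nat.card (Cfsg.SU 3 F q) = q ^ 3 * ((q + 1) * (q ^ 2 - 1) * (q ^ 3 + 1)) := by
  rw [Cfsg.Agent.Lib.Helper5.card_SU (EvenQ.card (F := F) (q := q)) 3 (by norm_num),
    Cfsg.Agent.Lib.Helper5.card_GU (EvenQ.card (F := F) (q := q)) 3]
  simp [Finset.prod_range_succ]

theorem exists_equiv_sylow_SU [EvenQ F q] (S : Sylow 2 (Cfsg.SU 3 F q)) :
    Nonempty (↥(S : Subgroup (Cfsg.SU 3 F q)) ≃* T F q) :=
  exists_equiv_sylow_of_card (iota F q) iota_injective (q + 1) _ (odd_part (F := F))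
    (card_su_eq (F := F)) S

end Cfsg.Agent.Lib.Helper60.SU3Even
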