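import Cfsg.Agent.Lib.Helper60.SU3EvenGL

set_option autoImplicit false

/-! # Semilinearity of automorphisms of the Sylow 2-subgroup `T F q` of `SU_3(q)`, `q` even

Every automorphism of `T F q` acts on `T/Z = F` as `s ↦ c * τ s` with `c ≠ 0` and `τ` a field
endomorphism of `F`. -/

namespace Cfsg.Agent.Lib.Helper60.SU3Even

open scoped commutatorElement
open scoped Classical

variable {F : Type*} [Field F] [Fintype F] {q : ℕ} [EvenQ F q]

theorem fixed_mul' {b c : F} (hb : b ^ q = b) (hc : c ^ q = c) : (b * c) ^ q = b * c := by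
  rw [mul_pow, hb, hc]

theorem fixed_add' {b c : F} (hb : b ^ q = b) (hc : c ^ q = c) : (b + c) ^ q = b + c := by
  rw [fa, hb, hc]

theorem tr_fixed (s : F) : (s + s ^ q) ^ q = s + s ^ q := by
  rw [fa, ff]; ring

theorem beta_fixed (s c : F) : (betaHom q s c) ^ q = betaHom q s c := by
  rw [betaHom_apply, fa, mul_pow, mul_pow, ff, ff]; ring

theorem exists_sqrt_fixed (b : F) (hb : b ^ q = b) : ∃ l : F, l ^ q = l ∧ l * l = b := by
  have hinj : Function.Injective (fun x : F => x * x) := fun x y h => T.sq_inj q h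
  obtain ⟨l, (hl : l * l = b)⟩ := (Finite.injective_iff_surjective.mp hinj) b
  refine ⟨l, ?_, hl⟩
  apply T.sq_inj q
  have h : (l * l) ^ q = l * l := by rw [hl]; exact hb
  rw [mul_pow] at h
  exact h

theorem quad_id (x : F) : x * x = (x + x ^ q) * x + x * x ^ q := by
  linear_combination (-(x * x ^ q)) * two0 F q

/-- the action of an automorphism on the centre, in the `a`-coordinate -/
noncomputable def gam (φ : MulAut (T F q)) (b : F) : F :=
  if hb : b ^ q = b then (φ (zel q b hb)).a else 0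

theorem gam_eq (φ : MulAut (T F q)) {b : F} (hb : b ^ q = b) : gam φ b = (φ (zel q b hb)).a :=
  dif_pos hb

theorem phi_zel_s (φ : MulAut (T F q)) {b : F} (hb : b ^ q = b) : (φ (zel q b hb)).s = 0 := by
  rw [sA_spec]; exact sA_zero φ

theorem gam_fixed (φ : MulAut (T F q)) {b : F} (hb : b ^ q = b) : (gam φ b) ^ q = gam φ b := by
  rw [gam_eq φ hb]
  exact T.a_fixed_of_s_eq_zero _ (phi_zel_s φ hb)

theorem gam_add (φ : MulAut (T F q)) {b c : F} (hb : b ^ q = b) (hc : c ^ q = c) :
    gam φ (b + c) = gam φ b + gam φ c := by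
  rw [gam_eq φ (fixed_add' hb hc), gam_eq φ hb, gam_eq φ hc, zel_add b c hb hc, map_mul, T.mul_a,
    phi_zel_s φ hc, zero_mul, add_zero]

theorem gam_norm (φ : MulAut (T F q)) (s : F) :
    gam φ (s * s ^ q) = sA φ s * (sA φ s) ^ q := by
  rw [gam_eq φ (norm_fixed s)]; exact norm_compat φ s

theorem gam_zero (φ : MulAut (T F q)) : gam φ 0 = 0 := by
  have h := gam_add φ (z0 (F := F) (q := q)) (z0 (F := F) (q := q))
  rw [add_zero] at h
  have h2 := add_self0 q (gam φ 0)
  rw [← h] at h2; exact h2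

theorem gam_inj (φ : MulAut (T F q)) {b : F} (hb : b ^ q = b) (h : gam φ b = 0) : b = 0 := by
  have h1 : φ (zel q b hb) = 1 := by
    ext
    · rw [phi_zel_s φ hb]; rfl
    · rw [← gam_eq φ hb, h]; rfl
  have h2 : zel q b hb = 1 := φ.injective (by rw [h1, map_one])
  exact congrArg T.a h2

theorem beta_compat (φ : MulAut (T F q)) (s s' : F) :
    betaHom q (sA φ s) (sA φ s') = gam φ (betaHom q s s') := by
  have h1 := gam_norm φ (s + s')
  rw [norm_add, sA_add, norm_add,
    gam_add φ (fixed_add' (norm_fixed s) (norm_fixed s')) (beta_fixed s s'),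
    gam_add φ (norm_fixed s) (norm_fixed s'), gam_norm, gam_norm] at h1
  exact (add_left_cancel h1).symm

theorem sA_inv_left (φ : MulAut (T F q)) (s : F) : sA φ⁻¹ (sA φ s) = s := by
  rw [← sA_mul, inv_mul_cancel, sA_one]

theorem sA_inv_right (φ : MulAut (T F q)) (s : F) : sA φ (sA φ⁻¹ s) = s := by
  rw [← sA_mul, mul_inv_cancel, sA_one]

theorem sA_injective (φ : MulAut (T F q)) : Function.Injective (sA φ) := fun s s' h => by
  rw [← sA_inv_left φ s, h, sA_inv_left]

theorem sA_ne_zero (φ : MulAut (T F q)) {s : F} (hs : s ≠ 0) : sA φ s ≠ 0 := fun h =>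
  hs (sA_injective φ (h.trans (sA_zero φ).symm))

theorem beta_smul_right (x y k : F) (hk : k ^ q = k) :
    betaHom q x (k * y) = k * betaHom q x y := by
  rw [betaHom_apply, betaHom_apply, mul_pow, hk]; ring

theorem beta_self (x : F) : betaHom q x x = 0 := by
  rw [betaHom_apply]; exact add_self0 q _

theorem beta_self_smul (x k : F) (hk : k ^ q = k) : betaHom q x (k * x) = 0 := by
  rw [beta_smul_right x x k hk, beta_self, mul_zero]

theorem beta_symm (x y : F) : betaHom q x y = betaHom q y x := by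
  rw [betaHom_apply, betaHom_apply]; ring

theorem exists_smul_of_beta_zero {x y : F} (hx : x ≠ 0) (h : betaHom q x y = 0) :
    ∃ k : F, k ^ q = k ∧ y = k * x := by
  rw [betaHom_apply] at h
  have h' : x * y ^ q = y * x ^ q := eq_of_add_eq_zero q h
  refine ⟨y / x, ?_, (div_mul_cancel₀ y hx).symm⟩
  rw [div_pow, div_eq_div_iff (pow_ne_zero q hx) hx]
  linear_combination h'

theorem collinear (φ : MulAut (T F q)) {l : F} (hl : l ^ q = l) {s : F} (hs : s ≠ 0) :
    ∃ k : F, k ^ q = k ∧ sA φ (l * s) = k * sA φ s := by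
  apply exists_smul_of_beta_zero (sA_ne_zero φ hs)
  rw [beta_compat, beta_self_smul s l hl, gam_zero]

theorem kappa_eq (φ : MulAut (T F q)) {l : F} (hl : l ^ q = l) {s s' k k' : F}
    (hk : k ^ q = k) (hk' : k' ^ q = k')
    (h1 : sA φ (l * s) = k * sA φ s) (h2 : sA φ (l * s') = k' * sA φ s')
    (hb : betaHom q s s' ≠ 0) : k = k' := by
  have hss : s + s' ≠ 0 := fun h => hb (by rw [eq_of_add_eq_zero q h]; exact beta_self s')
  obtain ⟨kp, hkp, h3⟩ := collinear φ hl hss
  rw [mul_add, sA_add, sA_add, h1, h2] at h3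
  have hne : betaHom q (sA φ s) (sA φ s') ≠ 0 := by
    rw [beta_compat]; exact fun h => hb (gam_inj φ (beta_fixed s s') h)
  have e1 := congrArg (betaHom q (sA φ s)) h3
  rw [map_add, beta_self_smul _ k hk, beta_smul_right _ _ k' hk', mul_add, map_add,
    beta_self_smul _ kp hkp, beta_smul_right _ _ kp hkp, zero_add, zero_add] at e1
  have e2 := congrArg (betaHom q (sA φ s')) h3
  rw [map_add, beta_self_smul _ k' hk', beta_smul_right _ _ k hk, mul_add, map_add,
    beta_self_smul _ kp hkp, beta_smul_right _ _ kp hkp, add_zero, add_zero,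
    beta_symm (sA φ s') (sA φ s)] at e2
  have e1' := mul_right_cancel₀ hne e1
  have e2' := mul_right_cancel₀ hne e2
  rw [e1', e2']

theorem semilinear (φ : MulAut (T F q)) {l : F} (hl : l ^ q = l) (s : F) :
    sA φ (l * s) * sA φ 1 = sA φ l * sA φ s := by
  by_cases hs : s = 0
  · subst hs; rw [mul_zero, sA_zero, zero_mul, mul_zero]
  obtain ⟨k1, hk1, e1⟩ := collinear φ hl (one_ne_zero (α := F))
  obtain ⟨ks, hks, es⟩ := collinear φ hl hs
  have hkk : k1 = ks := by
    by_cases hb : betaHom q (1 : F) s = 0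
    · obtain ⟨w, hw⟩ := exists_not_fixed (F := F) (q := q)
      have hw0 : w ≠ 0 := by
        rintro rfl; exact hw z0
      obtain ⟨kw, hkw, ew⟩ := collinear φ hl hw0
      obtain ⟨c, hc, hsc⟩ := exists_smul_of_beta_zero (one_ne_zero (α := F)) hb
      rw [mul_one] at hsc
      have hc0 : c ≠ 0 := by rintro rfl; exact hs hsc
      have hb1 : betaHom q (1 : F) w ≠ 0 := by
        rw [betaHom_apply, one_pow, mul_one, one_mul]
        intro h
        exact hw (eq_of_add_eq_zero q h)
      have hb2 : betaHom q s w ≠ 0 := by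
        rw [beta_symm, hsc, ← mul_one c, beta_smul_right w 1 c hc, beta_symm]
        exact mul_ne_zero hc0 hb1
      rw [kappa_eq φ hl hk1 hkw e1 ew hb1, kappa_eq φ hl hks hkw es ew hb2]
    · exact kappa_eq φ hl hk1 hks e1 es hb
  rw [mul_one] at e1
  rw [es, e1, hkk]; ring

/-- the normalised action on the `s`-coordinate -/
noncomputable def sp (φ : MulAut (T F q)) (s : F) : F := sA φ s / sA φ 1

theorem sA_one_ne_zero (φ : MulAut (T F q)) : sA φ 1 ≠ 0 := sA_ne_zero φ one_ne_zero

theorem sA_eq_mul_sp (φ : MulAut (T F q)) (s : F) : sA φ s = sA φ 1 * sp φ s := by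
  have h := sA_one_ne_zero φ
  unfold sp
  field_simp

theorem sp_add (φ : MulAut (T F q)) (s s' : F) : sp φ (s + s') = sp φ s + sp φ s' := by
  unfold sp; rw [sA_add, add_div]

theorem sp_one (φ : MulAut (T F q)) : sp φ 1 = 1 := div_self (sA_one_ne_zero φ)

theorem sp_zero (φ : MulAut (T F q)) : sp φ 0 = 0 := by unfold sp; rw [sA_zero, zero_div]

theorem sp_injective (φ : MulAut (T F q)) : Function.Injective (sp φ) := fun s s' h => by
  unfold sp at h
  exact sA_injective φ ((div_left_inj' (sA_one_ne_zero φ)).mp h)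

theorem sp_mul_fixed (φ : MulAut (T F q)) {l : F} (hl : l ^ q = l) (s : F) :
    sp φ (l * s) = sp φ l * sp φ s := by
  have h := semilinear φ hl s
  have h0 := sA_one_ne_zero φ
  unfold sp
  rw [div_mul_div_comm, div_eq_div_iff h0 (mul_ne_zero h0 h0)]
  linear_combination (sA φ 1) * h

theorem sp_fixed (φ : MulAut (T F q)) {l : F} (hl : l ^ q = l) : (sp φ l) ^ q = sp φ l := by
  obtain ⟨k, hk, e⟩ := collinear φ hl (one_ne_zero (α := F))
  rw [mul_one] at e
  have : sp φ l = k := by
    unfold sp; rw [e, mul_div_assoc, div_self (sA_one_ne_zero φ), mul_one]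
  rw [this, hk]

theorem gam_eq_sp (φ : MulAut (T F q)) {b : F} (hb : b ^ q = b) :
    gam φ b = sA φ 1 * (sA φ 1) ^ q * sp φ b := by
  obtain ⟨l, hl, rfl⟩ := exists_sqrt_fixed (q := q) b hb
  have h := gam_norm φ l
  rw [hl] at h
  rw [h, sA_eq_mul_sp φ l, mul_pow, sp_fixed φ hl, sp_mul_fixed φ hl l]
  ring

theorem sp_norm (φ : MulAut (T F q)) (s : F) : sp φ s * (sp φ s) ^ q = sp φ (s * s ^ q) := by
  have h := gam_norm φ s
  rw [gam_eq_sp φ (norm_fixed s), sA_eq_mul_sp φ s, mul_pow] at h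
  have h0 := sA_one_ne_zero φ
  have h1 : sA φ 1 * (sA φ 1) ^ q ≠ 0 := mul_ne_zero h0 (pow_ne_zero q h0)
  apply mul_left_cancel₀ h1
  linear_combination -h

theorem sp_tr (φ : MulAut (T F q)) (s : F) : sp φ s + (sp φ s) ^ q = sp φ (s + s ^ q) := by
  have h := beta_compat φ s 1
  rw [betaHom_apply, betaHom_apply, one_pow, mul_one, one_mul, gam_eq_sp φ (tr_fixed s),
    sA_eq_mul_sp φ s, mul_pow] at h
  have h0 := sA_one_ne_zero φ
  have h1 : sA φ 1 * (sA φ 1) ^ q ≠ 0 := mul_ne_zero h0 (pow_ne_zero q h0)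
  apply mul_left_cancel₀ h1
  linear_combination h

theorem sp_mul_w (φ : MulAut (T F q)) {w : F} (hw : w ^ q ≠ w) (s : F) :
    sp φ (s * w) = sp φ s * sp φ w := by
  have ht : w + w ^ q ≠ 0 := fun h => hw (eq_of_add_eq_zero q h).symm
  obtain ⟨l', hl'_def⟩ : ∃ l' : F, l' = (s + s ^ q) / (w + w ^ q) := ⟨_, rfl⟩
  have hl' : l' ^ q = l' := by rw [hl'_def, div_pow, tr_fixed, tr_fixed]
  have hl't : l' * (w + w ^ q) = s + s ^ q := by rw [hl'_def]; exact div_mul_cancel₀ _ ht
  obtain ⟨l, hl_def⟩ : ∃ l : F, l = s + l' * w := ⟨_, rfl⟩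
  have hl : l ^ q = l := by
    apply eq_of_add_eq_zero q
    rw [hl_def, fa, mul_pow, hl']
    linear_combination hl't + (s + s ^ q) * two0 F q
  have hs : s = l + l' * w := by
    rw [hl_def]; linear_combination (-(l' * w)) * two0 F q
  have hww := quad_id (q := q) w
  have key : s * w = (l + l' * (w + w ^ q)) * w + l' * (w * w ^ q) := by
    linear_combination w * hs + l' * hww
  have hq := quad_id (q := q) (sp φ w)
  rw [sp_tr, sp_norm] at hq
  rw [key, sp_add, sp_mul_fixed φ (fixed_add' hl (fixed_mul' hl' (tr_fixed w))) w,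
    sp_mul_fixed φ hl' (w * w ^ q), sp_add, sp_mul_fixed φ hl' (w + w ^ q)]
  have hs2 : sp φ s = sp φ l + sp φ l' * sp φ w := by
    conv_lhs => rw [hs]
    rw [sp_add, sp_mul_fixed φ hl' w]
  rw [hs2]
  linear_combination (-(sp φ l')) * hq

theorem sp_mul (φ : MulAut (T F q)) (s s' : F) : sp φ (s * s') = sp φ s * sp φ s' := by
  by_cases h : s' ^ q = s'
  · rw [mul_comm s s', sp_mul_fixed φ h s, mul_comm]
  · exact sp_mul_w φ h s

/-- the field endomorphism induced by an automorphism -/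
noncomputable def tauHom (φ : MulAut (T F q)) : F →+* F where
  toFun := sp φ
  map_one' := sp_one φ
  map_mul' := sp_mul φ
  map_zero' := sp_zero φ
  map_add' := sp_add φ

theorem sA_eq_tau (φ : MulAut (T F q)) (s : F) : sA φ s = sA φ 1 * tauHom φ s :=
  sA_eq_mul_sp φ s

end Cfsg.Agent.Lib.Helper60.SU3Even
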