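import Cfsg.Agent.Lib.Helper76.SlDefs
import Cfsg.Agent.Lib.Helper3.CharOps
import Cfsg.Agent.S2336

set_option autoImplicit false

namespace Cfsg.Agent.Lib.Helper76.Sl

open Matrix Cfsg

variable {F : Type*} [Field F] [Fintype F] [DecidableEq F]

/-- EX1 (backup copy; THE leaf `card_fixed_one` is in Helper74.SlEX1) -/
theorem ex1_card_fixed_one_h60 (n : ℕ) :
    Nat.card {v : Fin n → F // v ≠ 0 ∧ ((1 : Matrix.SpecialLinearGroup (Fin n) F) : Matrix (Fin n) (Fin n) F).mulVec v = v}
      = Fintype.card F ^ n - 1 := by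
  classical
  have e : {v : Fin n → F // v ≠ 0 ∧
      ((1 : Matrix.SpecialLinearGroup (Fin n) F) : Matrix (Fin n) (Fin n) F).mulVec v = v} ≃
      {v : Fin n → F // ¬ (v = 0)} :=
    Equiv.subtypeEquivRight (fun v => by simp)
  rw [Nat.card_congr e, Nat.card_eq_fintype_card, Fintype.card_subtype_compl,
    Fintype.card_subtype_eq, Fintype.card_pi]
  simp

end Cfsg.Agent.Lib.Helper76.Sl
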