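import Cfsg.Agent.Lib.Helper60.SzAutSemi

set_option autoImplicit false

/-! # The automorphism group of the Sylow 2-subgroup of `Sz(q)` (abstract model `SzT θ`) -/

namespace Cfsg.Agent.Lib.Helper60.SzAut

open scoped Classical

variable {F : Type*} [Field F] [Fintype F] [CharP F 2]

/-- the abstract Sylow 2-subgroup of `Sz(q)`: `(a, b) (a', b') = (a + a', b + b' + θ a * a')` -/
@[ext] structure SzT (θ : F →+* F) where
  a : F
  b : F

namespace SzT

variable {θ : F →+* F}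

instance : Mul (SzT θ) := ⟨fun x y => ⟨x.a + y.a, x.b + y.b + θ x.a * y.a⟩⟩
instance : One (SzT θ) := ⟨⟨0, 0⟩⟩
instance : Inv (SzT θ) := ⟨fun x => ⟨x.a, x.b + θ x.a * x.a⟩⟩

@[simp] theorem mul_a (x y : SzT θ) : (x * y).a = x.a + y.a := rfl
@[simp] theorem mul_b (x y : SzT θ) : (x * y).b = x.b + y.b + θ x.a * y.a := rfl
@[simp] theorem one_a : (1 : SzT θ).a = 0 := rfl
@[simp] theorem one_b : (1 : SzT θ).b = 0 := rfl
@[simp] theorem inv_a (x : SzT θ) : (x⁻¹).a = x.a := rfl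
@[simp] theorem inv_b (x : SzT θ) : (x⁻¹).b = x.b + θ x.a * x.a := rfl

instance : Group (SzT θ) where
  mul_assoc x y z := by
    ext
    · simp only [mul_a]; ring
    · simp only [mul_b, mul_a, map_add]; ring
  one_mul x := by ext <;> simp
  mul_one x := by ext <;> simp
  inv_mul_cancel x := by
    ext
    · simp only [mul_a, inv_a, one_a]; exact CharTwo.add_self_eq_zero _
    · simp only [mul_b, inv_a, inv_b, one_b]
      have : x.b + θ x.a * x.a + x.b + θ x.a * x.a =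
          (x.b + θ x.a * x.a) + (x.b + θ x.a * x.a) := by ring
      rw [this]; exact CharTwo.add_self_eq_zero _

/-- the underlying set is `F × F` -/
def equivProd : SzT θ ≃ F × F :=
  ⟨fun x => (x.a, x.b), fun p => ⟨p.1, p.2⟩, fun _ => rfl, fun _ => rfl⟩

instance : Finite (SzT θ) := Finite.of_equiv _ (equivProd (θ := θ)).symm

theorem mem_center_iff (hne : ∃ y : F, θ y ≠ y) (x : SzT θ) :
    x ∈ Subgroup.center (SzT θ) ↔ x.a = 0 := by
  rw [Subgroup.mem_center_iff]
  constructor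
  · intro h
    obtain ⟨w, hw⟩ := hne
    have h1 : (0 : F) + x.b + θ 1 * x.a = x.b + 0 + θ x.a * 1 := congrArg SzT.b (h ⟨1, 0⟩)
    have h2 : (0 : F) + x.b + θ w * x.a = x.b + 0 + θ x.a * w := congrArg SzT.b (h ⟨w, 0⟩)
    rw [map_one] at h1
    have e1 : θ x.a = x.a := by linear_combination -h1
    rw [e1] at h2
    have e2 : (θ w - w) * x.a = 0 := by linear_combination h2
    rcases mul_eq_zero.mp e2 with h3 | h3
    · exact absurd (sub_eq_zero.mp h3) hw
    · exact h3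
  · intro h g
    ext
    · simp only [mul_a]; ring
    · simp only [mul_b, h, map_zero, zero_mul, mul_zero]; ring

end SzT

theorem map_mem_center {G : Type*} [Group G] (φ : MulAut G) {z : G}
    (hz : z ∈ Subgroup.center G) : φ z ∈ Subgroup.center G := by
  rw [Subgroup.mem_center_iff] at hz ⊢
  intro g
  obtain ⟨g', rfl⟩ := φ.surjective g
  rw [← map_mul, ← map_mul, hz g']

variable {θ : F →+* F}

/-- the action of an automorphism on the `a`-coordinate -/
def sA (φ : MulAut (SzT θ)) (a : F) : F := (φ ⟨a, 0⟩).a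

/-- the action of an automorphism on the centre -/
def gam (φ : MulAut (SzT θ)) (b : F) : F := (φ ⟨0, b⟩).b

/-- the deviation of an automorphism in the kernel -/
def del (φ : MulAut (SzT θ)) (a : F) : F := (φ ⟨a, 0⟩).b

theorem sA_one (a : F) : sA (1 : MulAut (SzT θ)) a = a := rfl

theorem sA_zero (φ : MulAut (SzT θ)) : sA φ 0 = 0 := by
  show (φ (1 : SzT θ)).a = 0
  rw [map_one]; rfl

theorem gam_zero (φ : MulAut (SzT θ)) : gam φ 0 = 0 := by
  show (φ (1 : SzT θ)).b = 0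
  rw [map_one]; rfl

theorem del_zero (φ : MulAut (SzT θ)) : del φ 0 = 0 := by
  show (φ (1 : SzT θ)).b = 0
  rw [map_one]; rfl

theorem sq_compat (φ : MulAut (SzT θ)) (a : F) : gam φ (θ a * a) = θ (sA φ a) * sA φ a := by
  have h : (⟨a, 0⟩ : SzT θ) * ⟨a, 0⟩ = ⟨0, θ a * a⟩ := by
    ext
    · show a + a = 0; exact CharTwo.add_self_eq_zero a
    · show (0 : F) + 0 + θ a * a = θ a * a; ring
  have h2 := congrArg (fun x => (φ x).b) h
  simp only [map_mul, SzT.mul_b] at h2
  rw [CharTwo.add_self_eq_zero, zero_add] at h2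
  exact h2.symm

section withCenter

variable (hne : ∃ y : F, θ y ≠ y)
include hne

theorem a_eq_of_a_eq (φ : MulAut (SzT θ)) {x y : SzT θ} (h : x.a = y.a) : (φ x).a = (φ y).a := by
  have hc : (x⁻¹ * y) ∈ Subgroup.center (SzT θ) :=
    (SzT.mem_center_iff hne _).mpr
      (by rw [SzT.mul_a, SzT.inv_a, h]; exact CharTwo.add_self_eq_zero _)
  have h0 := (SzT.mem_center_iff hne _).mp (map_mem_center φ hc)
  rw [map_mul, map_inv, SzT.mul_a, SzT.inv_a] at h0
  exact CharTwo.add_eq_zero.mp h0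

theorem sA_spec (φ : MulAut (SzT θ)) (x : SzT θ) : (φ x).a = sA φ x.a :=
  a_eq_of_a_eq hne φ rfl

theorem sA_add (φ : MulAut (SzT θ)) (a a' : F) : sA φ (a + a') = sA φ a + sA φ a' := by
  have h : (⟨a + a', 0⟩ : SzT θ).a = ((⟨a, 0⟩ : SzT θ) * ⟨a', 0⟩).a := rfl
  show (φ ⟨a + a', 0⟩).a = _
  rw [a_eq_of_a_eq hne φ h, map_mul, SzT.mul_a]
  rfl

theorem sA_mul (φ ψ : MulAut (SzT θ)) (a : F) : sA (φ * ψ) a = sA φ (sA ψ a) := by
  show (φ (ψ ⟨a, 0⟩)).a = _
  rw [sA_spec hne φ]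
  rfl

theorem sA_inv_left (φ : MulAut (SzT θ)) (a : F) : sA φ⁻¹ (sA φ a) = a := by
  rw [← sA_mul hne, inv_mul_cancel, sA_one]

theorem sA_inv_right (φ : MulAut (SzT θ)) (a : F) : sA φ (sA φ⁻¹ a) = a := by
  rw [← sA_mul hne, mul_inv_cancel, sA_one]

theorem sA_injective (φ : MulAut (SzT θ)) : Function.Injective (sA φ) := fun a a' h => by
  rw [← sA_inv_left hne φ a, h, sA_inv_left hne]

theorem sA_ne_zero (φ : MulAut (SzT θ)) {a : F} (ha : a ≠ 0) : sA φ a ≠ 0 := fun h =>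
  ha (sA_injective hne φ (h.trans (sA_zero φ).symm))

theorem phi_zel_a (φ : MulAut (SzT θ)) (b : F) : (φ ⟨0, b⟩).a = 0 := by
  rw [sA_spec hne]; exact sA_zero φ

theorem gam_add (φ : MulAut (SzT θ)) (b c : F) : gam φ (b + c) = gam φ b + gam φ c := by
  have h : (⟨0, b + c⟩ : SzT θ) = ⟨0, b⟩ * ⟨0, c⟩ := by
    ext
    · show (0 : F) = 0 + 0; ring
    · show b + c = b + c + θ 0 * 0; ring
  show (φ ⟨0, b + c⟩).b = _
  rw [h, map_mul, SzT.mul_b, phi_zel_a hne, map_zero, zero_mul, add_zero]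
  rfl

/-- `sA` as an additive map -/
def sAHom (φ : MulAut (SzT θ)) : F →+ F where
  toFun := sA φ
  map_zero' := sA_zero φ
  map_add' := sA_add hne φ

/-- `gam` as an additive map -/
def gamHom (φ : MulAut (SzT θ)) : F →+ F where
  toFun := gam φ
  map_zero' := gam_zero φ
  map_add' := gam_add hne φ

theorem exists_unit_tau {n : ℕ} (hn : Nat.card F = 2 ^ n) (hθ : ∀ x, θ (θ x) = x ^ 2)
    (h4 : ∃ x : F, x ^ 4 ≠ x) (φ : MulAut (SzT θ)) :
    ∃ (k : Fˣ) (τ : F →+* F), ∀ a, sA φ a = (k : F) * τ a := by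
  obtain ⟨k, α, h⟩ := semilinear_of_compat θ hn hθ h4 (sAHom hne φ) (gamHom hne φ)
    ⟨1, sA_ne_zero hne φ one_ne_zero⟩ (fun a => sq_compat φ a)
  have h' : ∀ a, sA φ a = k * α a := h
  have hk : k ≠ 0 := by
    rintro rfl
    exact sA_ne_zero hne φ one_ne_zero (by rw [h' 1, zero_mul])
  exact ⟨Units.mk0 k hk, α, h'⟩

/-! ### the automorphisms `(a, b) ↦ (k * τ a, θ k * k * τ b)` -/

omit hne in
/-- the endomorphism `(a, b) ↦ (k * τ a, θ k * k * τ b)` -/
def alphaHom (k : Fˣ) (τ : F →+* F) : SzT θ →* SzT θ where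
  toFun x := ⟨(k : F) * τ x.a, θ (k : F) * (k : F) * τ x.b⟩
  map_one' := by
    ext
    · show (k : F) * τ 0 = 0
      rw [map_zero, mul_zero]
    · show θ (k : F) * (k : F) * τ 0 = 0
      rw [map_zero, mul_zero]
  map_mul' x y := by
    ext
    · show (k : F) * τ (x.a + y.a) = (k : F) * τ x.a + (k : F) * τ y.a
      rw [map_add, mul_add]
    · show θ (k : F) * (k : F) * τ (x.b + y.b + θ x.a * y.a) =
        θ (k : F) * (k : F) * τ x.b + θ (k : F) * (k : F) * τ y.b +
          θ ((k : F) * τ x.a) * ((k : F) * τ y.a)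
      rw [map_add, map_add, map_mul, map_mul, ringHom_comm τ θ x.a]; ring

omit hne in
theorem alphaHom_injective (k : Fˣ) (τ : F →+* F) :
    Function.Injective (alphaHom (θ := θ) k τ) := by
  intro x y h
  have hs : (k : F) * τ x.a = (k : F) * τ y.a := congrArg SzT.a h
  have hb : θ (k : F) * (k : F) * τ x.b = θ (k : F) * (k : F) * τ y.b := congrArg SzT.b h
  have hk : (k : F) ≠ 0 := k.ne_zero
  ext
  · exact τ.injective (mul_left_cancel₀ hk hs)
  · exact τ.injective (mul_left_cancel₀ (mul_ne_zero ((map_ne_zero θ).mpr hk) hk) hb)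

omit hne in
/-- the automorphism `(a, b) ↦ (k * τ a, θ k * k * τ b)` -/
noncomputable def alpha (k : Fˣ) (τ : F →+* F) : MulAut (SzT θ) :=
  MulEquiv.ofBijective (alphaHom k τ)
    ⟨alphaHom_injective k τ, Finite.injective_iff_surjective.mp (alphaHom_injective k τ)⟩

omit hne in
theorem sA_alpha (k : Fˣ) (τ : F →+* F) (a : F) :
    sA (alpha (θ := θ) k τ) a = (k : F) * τ a := rfl

/-- the action of `Aut (SzT θ)` on `T/Z = F` -/
noncomputable def sPerm : MulAut (SzT θ) →* Equiv.Perm F where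
  toFun φ := ⟨sA φ, sA φ⁻¹, sA_inv_left hne φ, sA_inv_right hne φ⟩
  map_one' := Equiv.ext fun a => sA_one (θ := θ) a
  map_mul' φ ψ := Equiv.ext fun a => sA_mul hne φ ψ a

theorem sPerm_apply (φ : MulAut (SzT θ)) (a : F) : sPerm hne φ a = sA φ a := rfl

theorem mem_ker_sPerm (φ : MulAut (SzT θ)) :
    φ ∈ (sPerm hne).ker ↔ ∀ a, sA φ a = a := by
  rw [MonoidHom.mem_ker]
  constructor
  · intro h a; exact congrArg (fun e : Equiv.Perm F => e a) h
  · intro h; exact Equiv.ext h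

/-! ### the kernel -/

theorem ker_a {φ : MulAut (SzT θ)} (h : ∀ a, sA φ a = a) (x : SzT θ) : (φ x).a = x.a := by
  rw [sA_spec hne, h]

omit hne in
theorem theta_mul_injective (hθ : ∀ x, θ (θ x) = x ^ 2) :
    Function.Injective (fun t : F => θ t * t) := by
  intro t s h
  have h : θ t * t = θ s * s := h
  by_cases hs : s = 0
  · subst hs
    rw [map_zero, zero_mul] at h
    rcases mul_eq_zero.mp h with h1 | h1
    · exact (map_eq_zero θ).mp h1
    · exact h1
  · have hθs : θ s ≠ 0 := (map_ne_zero θ).mpr hs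
    have hu : θ (t / s) * (t / s) = 1 := by
      rw [map_div₀, div_mul_div_comm, h, div_self (mul_ne_zero hθs hs)]
    have hu2 : θ (θ (t / s)) * θ (t / s) = 1 := by rw [← map_mul, hu, map_one]
    rw [hθ] at hu2
    have hune : θ (t / s) ≠ 0 := by
      intro h0; rw [h0, zero_mul] at hu; exact zero_ne_one hu
    have hsq : (t / s) ^ 2 = t / s := by
      apply mul_right_cancel₀ hune
      rw [hu2, mul_comm, hu]
    have hu0 : t / s ≠ 0 := by
      intro h0; rw [h0, map_zero, zero_mul] at hu; exact zero_ne_one hu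
    have h1 : t / s = 1 := by
      have h2 : (t / s) * (t / s) = (t / s) * 1 := by rw [mul_one, ← pow_two]; exact hsq
      exact mul_left_cancel₀ hu0 h2
    exact (div_eq_one_iff_eq hs).mp h1

omit hne in
theorem exists_theta_mul (hθ : ∀ x, θ (θ x) = x ^ 2) (b : F) : ∃ t : F, θ t * t = b :=
  (Finite.injective_iff_surjective.mp (theta_mul_injective hθ)) b

theorem ker_center_fixed (hθ : ∀ x, θ (θ x) = x ^ 2) {φ : MulAut (SzT θ)}
    (h : ∀ a, sA φ a = a) (b : F) : φ ⟨0, b⟩ = ⟨0, b⟩ := by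
  ext
  · exact phi_zel_a hne φ b
  · obtain ⟨t, rfl⟩ := exists_theta_mul hθ b
    show gam φ (θ t * t) = θ t * t
    rw [sq_compat, h]

theorem ker_b (hθ : ∀ x, θ (θ x) = x ^ 2) {φ : MulAut (SzT θ)}
    (h : ∀ a, sA φ a = a) (x : SzT θ) : (φ x).b = x.b + del φ x.a := by
  have hx : x = (⟨x.a, 0⟩ : SzT θ) * ⟨0, x.b⟩ := by
    ext
    · show x.a = x.a + 0; ring
    · show x.b = 0 + x.b + θ x.a * 0; ring
  have e : (φ x).b = (φ ((⟨x.a, 0⟩ : SzT θ) * ⟨0, x.b⟩)).b := congrArg (fun y => (φ y).b) hx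
  rw [e, map_mul, ker_center_fixed hne hθ h, SzT.mul_b]
  show del φ x.a + x.b + θ (φ ⟨x.a, 0⟩).a * 0 = x.b + del φ x.a
  rw [mul_zero, add_zero, add_comm]

theorem del_add (hθ : ∀ x, θ (θ x) = x ^ 2) {φ : MulAut (SzT θ)}
    (h : ∀ a, sA φ a = a) (a a' : F) : del φ (a + a') = del φ a + del φ a' := by
  have e1 := ker_b hne hθ h ((⟨a, 0⟩ : SzT θ) * ⟨a', 0⟩)
  rw [map_mul, SzT.mul_b, SzT.mul_b, SzT.mul_a, ker_a hne h, ker_a hne h] at e1
  have e2 : del φ a + del φ a' + θ a * a' = 0 + 0 + θ a * a' + del φ (a + a') := e1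
  linear_combination -e2

omit hne in
/-- central automorphism attached to an additive map -/
def phiDelHom (d : F →+ F) : SzT θ →* SzT θ where
  toFun x := ⟨x.a, x.b + d x.a⟩
  map_one' := by
    ext
    · rfl
    · show (0 : F) + d 0 = 0
      rw [map_zero, add_zero]
  map_mul' x y := by
    ext
    · rfl
    · show x.b + y.b + θ x.a * y.a + d (x.a + y.a) = x.b + d x.a + (y.b + d y.a) + θ x.a * y.a
      rw [map_add]; ring

omit hne in
theorem phiDelHom_invol (d : F →+ F) (x : SzT θ) :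
    phiDelHom d (phiDelHom d x) = x := by
  ext
  · rfl
  · show x.b + d x.a + d x.a = x.b
    rw [add_assoc, CharTwo.add_self_eq_zero, add_zero]

omit hne in
/-- central automorphism attached to an additive map -/
def phiDel (d : F →+ F) : MulAut (SzT θ) :=
  MonoidHom.toMulEquiv (phiDelHom d) (phiDelHom d)
    (MonoidHom.ext (phiDelHom_invol d)) (MonoidHom.ext (phiDelHom_invol d))

omit hne in
theorem sA_phiDel (d : F →+ F) (a : F) : sA (phiDel (θ := θ) d) a = a := rfl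

/-- the kernel of the action on `T/Z` is `Hom (F, F)` -/
noncomputable def kerEquiv (hθ : ∀ x, θ (θ x) = x ^ 2) : (sPerm hne).ker ≃ (F →+ F) where
  toFun φ :=
    { toFun := del φ.1
      map_zero' := del_zero φ.1
      map_add' := del_add hne hθ ((mem_ker_sPerm hne φ.1).mp φ.2) }
  invFun d := ⟨phiDel d, (mem_ker_sPerm hne _).mpr (sA_phiDel d)⟩
  left_inv φ := by
    have h := (mem_ker_sPerm hne φ.1).mp φ.2
    apply Subtype.ext
    apply MulEquiv.ext
    intro x
    ext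
    · exact (ker_a hne h x).symm
    · exact (ker_b hne hθ h x).symm
  right_inv d := by
    apply AddMonoidHom.ext
    intro a
    show (0 : F) + d a = d a
    rw [zero_add]

theorem card_ker_sPerm (hθ : ∀ x, θ (θ x) = x ^ 2) {n : ℕ} (hn : Nat.card F = 2 ^ n) :
    Nat.card (sPerm hne).ker = Nat.card F ^ n := by
  rw [Nat.card_congr (kerEquiv hne hθ),
    SU3Even.card_addMonoidHom_of_two (V := F) (W := F)
      (fun x => by rw [two_nsmul]; exact CharTwo.add_self_eq_zero x)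
      (fun x => by rw [two_nsmul]; exact CharTwo.add_self_eq_zero x) hn]

theorem ker_comm (hθ : ∀ x, θ (θ x) = x ^ 2) {φ ψ : MulAut (SzT θ)}
    (hφ : ∀ a, sA φ a = a) (hψ : ∀ a, sA ψ a = a) : φ * ψ = ψ * φ := by
  apply MulEquiv.ext; intro x
  rw [MulAut.mul_apply, MulAut.mul_apply]
  ext
  · rw [ker_a hne hφ, ker_a hne hψ, ker_a hne hψ, ker_a hne hφ]
  · rw [ker_b hne hθ hφ, ker_b hne hθ hψ, ker_b hne hθ hψ, ker_b hne hθ hφ, ker_a hne hψ,
      ker_a hne hφ]; ring

theorem ker_sq (hθ : ∀ x, θ (θ x) = x ^ 2) {φ : MulAut (SzT θ)}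
    (hφ : ∀ a, sA φ a = a) : φ * φ = 1 := by
  apply MulEquiv.ext; intro x
  rw [MulAut.mul_apply, MulAut.one_apply]
  ext
  · rw [ker_a hne hφ, ker_a hne hφ]
  · rw [ker_b hne hθ hφ, ker_b hne hθ hφ, ker_a hne hφ, add_assoc, CharTwo.add_self_eq_zero,
      add_zero]

end withCenter

end Cfsg.Agent.Lib.Helper60.SzAut
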