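import Cfsg.Agent.Lib.Helper60.SzAutCard

set_option autoImplicit false

/-! # Order and `O_2` of the automorphism group of the Sylow 2-subgroup `SzT θ` of `Sz(q)` -/

namespace Cfsg.Agent.Lib.Helper60.SzAut

open scoped Classical

variable {F : Type*} [Field F] [Fintype F] [CharP F 2] {θ : F →+* F}

/-- the parametrisation of the image of `Aut (SzT θ)` in `Sym F` -/
noncomputable def rangeMap (hne : ∃ y : F, θ y ≠ y) (p : Fˣ × (F →+* F)) : (sPerm hne).range :=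
  ⟨sPerm hne (alpha p.1 p.2), ⟨_, rfl⟩⟩

theorem rangeMap_bijective (hne : ∃ y : F, θ y ≠ y) {n : ℕ} (hn : Nat.card F = 2 ^ n)
    (hθ : ∀ x, θ (θ x) = x ^ 2) (h4 : ∃ x : F, x ^ 4 ≠ x) :
    Function.Bijective (rangeMap (θ := θ) hne) := by
  constructor
  · rintro ⟨c, τ⟩ ⟨c', τ'⟩ h
    have h' : ∀ s, (c : F) * τ s = (c' : F) * τ' s := fun s => by
      have := congrArg (fun e : (sPerm hne).range => (e : Equiv.Perm F) s) h
      simpa only [rangeMap, sPerm_apply, sA_alpha] using this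
    have hc : (c : F) = c' := by simpa using h' 1
    have hcc : c = c' := Units.ext hc
    subst hcc
    have hτ : τ = τ' := RingHom.ext fun s => mul_left_cancel₀ c.ne_zero (h' s)
    rw [hτ]
  · rintro ⟨e, φ, rfl⟩
    obtain ⟨c, τ, h⟩ := exists_unit_tau hne hn hθ h4 φ
    refine ⟨(c, τ), Subtype.ext (Equiv.ext fun s => ?_)⟩
    show sA (alpha c τ) s = sA φ s
    rw [sA_alpha, h]

theorem card_range_sPerm (hne : ∃ y : F, θ y ≠ y) {n : ℕ} (hn : Nat.card F = 2 ^ n)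
    (hθ : ∀ x, θ (θ x) = x ^ 2) (h4 : ∃ x : F, x ^ 4 ≠ x) :
    Nat.card (sPerm hne).range = (2 ^ n - 1) * n := by
  rw [← Nat.card_congr (Equiv.ofBijective _ (rangeMap_bijective hne hn hθ h4)), Nat.card_prod,
    Nat.card_units, hn, SU3Even.card_ringHom_self' hn]

theorem card_mulAut (hne : ∃ y : F, θ y ≠ y) {n : ℕ} (hn : Nat.card F = 2 ^ n)
    (hθ : ∀ x, θ (θ x) = x ^ 2) (h4 : ∃ x : F, x ^ 4 ≠ x) :
    Nat.card (MulAut (SzT θ)) = Nat.card F ^ n * ((2 ^ n - 1) * n) := by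
  rw [← card_range_sPerm hne hn hθ h4, ← card_ker_sPerm hne hθ hn]
  have := Subgroup.card_eq_card_quotient_mul_card_subgroup (sPerm hne).ker
  rw [this, Nat.card_congr (QuotientGroup.quotientKerEquivRange (sPerm hne)).toEquiv, mul_comm]

theorem sA_pow_of_mul (hne : ∃ y : F, θ y ≠ y) {φ : MulAut (SzT θ)} {m : F}
    (h : ∀ s, sA φ s = m * s) (n : ℕ) (s : F) :
    sA (φ ^ n) s = m ^ n * s := by
  induction n generalizing s with
  | zero => rw [pow_zero, pow_zero, sA_one, one_mul]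
  | succ n ih => rw [pow_succ, sA_mul hne, h, ih, pow_succ]; ring

theorem eq_one_of_pow_two_pow (j : ℕ) (x : F) (h : x ^ (2 ^ j) = 1) : x = 1 := by
  induction j with
  | zero => simpa using h
  | succ j ih =>
    apply ih
    apply CharTwo.sq_inj.mp
    rw [one_pow, ← pow_mul, ← pow_succ]
    exact h

theorem normal_two_le_ker (hne : ∃ y : F, θ y ≠ y) {n : ℕ} (hn : Nat.card F = 2 ^ n)
    (hθ : ∀ x, θ (θ x) = x ^ 2) (h4 : ∃ x : F, x ^ 4 ≠ x)
    (N : Subgroup (MulAut (SzT θ))) (hN : N.Normal) (hp : IsPGroup 2 N) :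
    N ≤ (sPerm hne).ker := by
  intro ψ hψ
  rw [mem_ker_sPerm]
  obtain ⟨c, τ, h⟩ := exists_unit_tau hne hn hθ h4 ψ
  have hτsurj : Function.Surjective τ := Finite.injective_iff_surjective.mp τ.injective
  -- Step 1: `τ` fixes every unit
  have hτ : ∀ c1 : Fˣ, τ (c1 : F) = c1 := by
    intro c1
    obtain ⟨δ, hδ⟩ : ∃ δ : MulAut (SzT θ), δ = alpha (θ := θ) c1 (RingHom.id F) := ⟨_, rfl⟩
    have hδs : ∀ s, sA δ s = (c1 : F) * s := fun s => by rw [hδ, sA_alpha]; rfl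
    obtain ⟨κ, hκdef⟩ : ∃ κ : MulAut (SzT θ), κ = ψ * δ * ψ⁻¹ * δ⁻¹ := ⟨_, rfl⟩
    have hκ : κ ∈ N := by
      have h1 : δ * ψ⁻¹ * δ⁻¹ ∈ N := hN.conj_mem _ (N.inv_mem hψ) δ
      have h2 := N.mul_mem hψ h1
      rw [hκdef]
      convert h2 using 1
      group
    have hrel : κ * δ * ψ = ψ * δ := by rw [hκdef]; group
    have hκs : ∀ v, sA κ v = (τ (c1 : F) / (c1 : F)) * v := by
      intro v
      obtain ⟨s, hs⟩ := hτsurj (v / ((c1 : F) * (c : F)))
      have e := congrArg (fun χ : MulAut (SzT θ) => sA χ s) hrel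
      simp only [sA_mul hne, hδs, h, map_mul] at e
      have hv : (c1 : F) * ((c : F) * τ s) = v := by
        rw [hs]; field_simp
      rw [hv] at e
      rw [e, hs]
      field_simp
    obtain ⟨j, hj⟩ := hp ⟨κ, hκ⟩
    have hj' : κ ^ (2 ^ j) = 1 := congrArg Subtype.val hj
    have e := sA_pow_of_mul hne hκs (2 ^ j) 1
    rw [hj', sA_one, mul_one] at e
    have hm := eq_one_of_pow_two_pow j _ e.symm
    rw [div_eq_one_iff_eq c1.ne_zero] at hm
    exact hm
  have hτ' : ∀ s : F, τ s = s := by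
    intro s
    by_cases hs : s = 0
    · rw [hs, map_zero]
    · exact hτ (Units.mk0 s hs)
  have hψs : ∀ s, sA ψ s = (c : F) * s := fun s => by rw [h, hτ']
  obtain ⟨j, hj⟩ := hp ⟨ψ, hψ⟩
  have hj' : ψ ^ (2 ^ j) = 1 := congrArg Subtype.val hj
  have e := sA_pow_of_mul hne hψs (2 ^ j) 1
  rw [hj', sA_one, mul_one] at e
  have hc := eq_one_of_pow_two_pow j _ e.symm
  intro s
  rw [hψs, hc, one_mul]

theorem pCore_eq_ker (hne : ∃ y : F, θ y ≠ y) {n : ℕ} (hn : Nat.card F = 2 ^ n)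
    (hθ : ∀ x, θ (θ x) = x ^ 2) (h4 : ∃ x : F, x ^ 4 ≠ x) :
    Cfsg.pCore 2 (MulAut (SzT θ)) = (sPerm hne).ker := by
  apply le_antisymm
  · exact sSup_le fun N hN => normal_two_le_ker hne hn hθ h4 N hN.1 hN.2
  · apply le_sSup
    refine ⟨inferInstance, ?_⟩
    intro g
    refine ⟨1, Subtype.ext ?_⟩
    show (g : MulAut (SzT θ)) ^ 2 ^ 1 = 1
    rw [pow_one, sq]
    exact ker_sq hne hθ ((mem_ker_sPerm hne g.1).mp g.2)

/-- the automorphism group of a group isomorphic to `SzT θ`: `O_2` is elementary abelian of order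
`|F| ^ n` and the full group has order `|F| ^ n * ((2 ^ n - 1) * n)`, where `|F| = 2 ^ n` -/
theorem aut_structure {S : Type*} [Group S] (e : S ≃* SzT θ) {n : ℕ} (hn : Nat.card F = 2 ^ n)
    (hθ : ∀ x, θ (θ x) = x ^ 2) (h4 : ∃ x : F, x ^ 4 ≠ x) :
    Cfsg.IsElementaryAbelian 2 (Cfsg.pCore 2 (MulAut S)) ∧
      Nat.card ↥(Cfsg.pCore 2 (MulAut S)) = Nat.card F ^ n ∧
      Nat.card (MulAut S) = Nat.card F ^ n * ((2 ^ n - 1) * n) := by
  have hne : ∃ y : F, θ y ≠ y := by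
    by_contra hcon
    push_neg at hcon
    obtain ⟨x, hx⟩ := h4
    apply hx
    have h2 : x ^ 2 = x := by rw [← hθ x, hcon, hcon]
    calc x ^ 4 = (x ^ 2) ^ 2 := by ring
      _ = x := by rw [h2, h2]
  let E : MulAut S ≃* MulAut (SzT θ) := MulAut.congr e
  have hcore : (Cfsg.pCore 2 (MulAut S)).map E.toMonoidHom = (sPerm hne).ker := by
    rw [SU3Even.pCore_map_eq_aux, pCore_eq_ker hne hn hθ h4]
  have hmem : ∀ a ∈ Cfsg.pCore 2 (MulAut S), ∀ s, sA (E a) s = s := by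
    intro a ha
    have : E a ∈ (Cfsg.pCore 2 (MulAut S)).map E.toMonoidHom := Subgroup.mem_map_of_mem _ ha
    rw [hcore] at this
    exact (mem_ker_sPerm hne _).mp this
  refine ⟨⟨⟨⟨fun a b => Subtype.ext ?_⟩⟩, ?_⟩, ?_, ?_⟩
  · apply E.injective
    show E (a.1 * b.1) = E (b.1 * a.1)
    rw [map_mul, map_mul]
    exact ker_comm hne hθ (hmem a.1 a.2) (hmem b.1 b.2)
  · intro a ha
    apply E.injective
    rw [map_pow, map_one, sq]
    exact ker_sq hne hθ (hmem a ha)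
  · rw [← Subgroup.card_map_of_injective (f := E.toMonoidHom) (K := Cfsg.pCore 2 (MulAut S))
      (show Function.Injective E.toMonoidHom from E.injective)]
    show Nat.card ↥((Cfsg.pCore 2 (MulAut S)).map E.toMonoidHom) = Nat.card F ^ n
    rw [hcore, card_ker_sPerm hne hθ hn]
  · rw [Nat.card_congr E.toEquiv, card_mulAut hne hn hθ h4]

end Cfsg.Agent.Lib.Helper60.SzAut
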