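import Cfsg.Agent.Lib.Helper60.SU3EvenAutCore
import Mathlib.LinearAlgebra.LinearIndependent.Basic
import Mathlib.FieldTheory.Finite.Basic

set_option autoImplicit false

/-! # Additive maps of a finite field of characteristic 2 compatible with `a ↦ θ a * a`

If `σ, γ` are additive, `σ ≠ 0` and `γ (θ a * a) = θ (σ a) * σ a` where `θ ∘ θ` is the Frobenius, then
`σ = k * α` with `α` a field endomorphism (Dedekind independence of characters). -/

namespace Cfsg.Agent.Lib.Helper60.SzAut

open scoped Classical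
open Finset

variable {F : Type*} [Field F] [Fintype F] [CharP F 2]

theorem finite_ringHom : Finite (F →+* F) := DFunLike.finite _

noncomputable instance fintypeRingHom : Fintype (F →+* F) :=
  @Fintype.ofFinite _ finite_ringHom

theorem exists_pow_eq (τ : F →+* F) : ∃ i : ℕ, ∀ x, τ x = x ^ (2 ^ i) := by
  have : Fact (Nat.Prime 2) := ⟨Nat.prime_two⟩
  let _ : Algebra (ZMod 2) F := ZMod.algebra F 2
  let τ' : F →ₐ[ZMod 2] F := { τ with
    commutes' := fun r => by
      have := Subsingleton.elim (τ.comp (algebraMap (ZMod 2) F)) (algebraMap (ZMod 2) F)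
      exact DFunLike.congr_fun this r }
  obtain ⟨i, hi⟩ := (FiniteField.bijective_frobeniusAlgHom_pow (ZMod 2) F).2 τ'
  refine ⟨i.1, fun x => ?_⟩
  have h := DFunLike.congr_fun hi x
  simp only [AlgHom.coe_pow, FiniteField.coe_frobeniusAlgHom, pow_iterate, ZMod.card] at h
  exact h.symm

theorem ringHom_comm (τ ρ : F →+* F) (x : F) : τ (ρ x) = ρ (τ x) := by
  obtain ⟨i, hi⟩ := exists_pow_eq ρ
  rw [hi, hi, map_pow]

theorem exists_pow_four_ne {n : ℕ} (hn : Nat.card F = 2 ^ n) (h3 : 3 ≤ n) :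
    ∃ x : F, x ^ 4 ≠ x := by
  by_contra hcon
  push Not at hcon
  have : Fact (Nat.Prime 2) := ⟨Nat.prime_two⟩
  let _ : Algebra (ZMod 2) F := ZMod.algebra F 2
  have h1 : Module.finrank (ZMod 2) F = n := by
    have := FiniteField.pow_finrank_eq_natCard 2 F
    rw [hn] at this
    exact Nat.pow_right_injective (le_refl 2) this
  have hinj := (FiniteField.bijective_frobeniusAlgHom_pow (ZMod 2) F).1
  have h02 : (⟨0, by omega⟩ : Fin (Module.finrank (ZMod 2) F)) = ⟨2, by omega⟩ := by
    apply hinj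
    apply AlgHom.ext
    intro x
    simp only [AlgHom.coe_pow, FiniteField.coe_frobeniusAlgHom, pow_iterate, ZMod.card]
    rw [pow_zero, pow_one]
    norm_num
    exact (hcon x).symm
  have := congrArg Fin.val h02
  simp at this

theorem indep (c : (F →+* F) → F) (h : ∀ a, ∑ τ, c τ * τ a = 0) : ∀ τ, c τ = 0 := by
  have li := linearIndependent_monoidHom F F
  have li' : LinearIndependent F (fun τ : F →+* F => ((τ : F →* F) : F → F)) :=
    li.comp (fun τ : F →+* F => (τ : F →* F)) RingHom.coe_monoidHom_injective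
  refine Fintype.linearIndependent_iff.mp li' c ?_
  funext a
  simp only [Finset.sum_apply, Pi.smul_apply, smul_eq_mul, Pi.zero_apply]
  exact h a

theorem indep2 (M : (F →+* F) → (F →+* F) → F)
    (h : ∀ a c, ∑ τ, ∑ ρ, M τ ρ * τ a * ρ c = 0) : ∀ τ ρ, M τ ρ = 0 := by
  intro τ ρ
  have h1 : ∀ c, ∀ τ, (∑ ρ, M τ ρ * ρ c) = 0 := by
    intro c
    apply indep
    intro a
    rw [← h a c]
    apply Finset.sum_congr rfl; intro τ _
    rw [Finset.sum_mul]
    apply Finset.sum_congr rfl; intro ρ _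
    ring
  exact indep (fun ρ => M τ ρ) (fun c => h1 c τ) ρ

/-- the additive map with given Frobenius coefficients -/
noncomputable def ofCoeff (s : (F →+* F) → F) : F →+ F where
  toFun a := ∑ τ, s τ * τ a
  map_zero' := by simp
  map_add' a b := by simp [mul_add, Finset.sum_add_distrib]

theorem ofCoeff_injective : Function.Injective (ofCoeff (F := F)) := by
  intro s s' h
  funext τ
  have := indep (fun τ => s τ - s' τ) (fun a => by
    have h' : ∑ τ, s τ * τ a = ∑ τ, s' τ * τ a := DFunLike.congr_fun h a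
    simp only [sub_mul, Finset.sum_sub_distrib, h', sub_self]) τ
  exact sub_eq_zero.mp this

theorem exists_coeff {n : ℕ} (hn : Nat.card F = 2 ^ n) (σ : F →+ F) :
    ∃ s : (F →+* F) → F, ∀ a, σ a = ∑ τ, s τ * τ a := by
  have h2 : ∀ x : F, 2 • x = 0 := fun x => by rw [two_nsmul]; exact CharTwo.add_self_eq_zero x
  have hc1 : Nat.card (F →+ F) = Nat.card F ^ n :=
    SU3Even.card_addMonoidHom_of_two (V := F) (W := F) h2 h2 hn
  have hc2 : Nat.card ((F →+* F) → F) = Nat.card F ^ n := by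
    rw [Nat.card_fun, SU3Even.card_ringHom_self' hn]
  haveI : Finite (F →+ F) := DFunLike.finite _
  have hb := (ofCoeff_injective (F := F)).bijective_of_nat_card_le (by rw [hc1, hc2])
  obtain ⟨s, hs⟩ := hb.2 σ
  exact ⟨s, fun a => by rw [← hs]; rfl⟩

theorem sum_sum_symm {ι : Type*} [Fintype ι] (A : ι → ι → F) (hA : ∀ i j, A i j = A j i) :
    ∑ i, ∑ j, A i j = ∑ i, A i i := by
  rw [← Fintype.sum_prod_type']
  rw [← Finset.sum_filter_add_sum_filter_not Finset.univ (fun p : ι × ι => p.1 = p.2)]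
  have hoff : ∑ p ∈ Finset.univ.filter (fun p : ι × ι => ¬ p.1 = p.2), A p.1 p.2 = 0 := by
    apply Finset.sum_involution (fun p _ => p.swap)
    · intro p _
      show A p.1 p.2 + A p.2 p.1 = 0
      rw [hA p.2 p.1]; exact CharTwo.add_self_eq_zero _
    · intro p hp _ hswap
      rw [Finset.mem_filter] at hp
      exact hp.2 (congrArg Prod.fst hswap).symm
    · intro p _; exact Prod.swap_swap p
    · intro p hp
      rw [Finset.mem_filter] at hp ⊢
      exact ⟨Finset.mem_univ _, fun h => hp.2 h.symm⟩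
  rw [hoff, add_zero]
  apply Finset.sum_bij (fun p _ => p.1)
  · intro p _; exact Finset.mem_univ _
  · intro p hp q hq h
    rw [Finset.mem_filter] at hp hq
    exact Prod.ext h (by rw [← hp.2, ← hq.2]; exact h)
  · intro i _
    exact ⟨(i, i), by simp, rfl⟩
  · intro p hp
    rw [Finset.mem_filter] at hp
    rw [← hp.2]

theorem exists_mul_self (b : F) : ∃ a : F, a * a = b := by
  have hinj : Function.Injective (fun x : F => x * x) := by
    intro x y h
    have h' : x * x = y * y := h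
    have : (x + y) * (x + y) = 0 := by
      have e : (x + y) * (x + y) = x * x + y * y + (x * y + x * y) := by ring
      rw [e, h', CharTwo.add_self_eq_zero, CharTwo.add_self_eq_zero, add_zero]
    exact CharTwo.add_eq_zero.mp (mul_self_eq_zero.mp this)
  exact Finite.injective_iff_surjective.mp hinj b

variable (θ : F →+* F)

/-- left composition with `θ` as a permutation of the ring endomorphisms -/
noncomputable def compEquiv : (F →+* F) ≃ (F →+* F) :=
  Equiv.ofBijective (fun ρ => θ.comp ρ) (by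
    have hinj : Function.Injective (fun ρ : F →+* F => θ.comp ρ) := by
      intro ρ ρ' h
      apply RingHom.ext; intro x
      have h' : θ (ρ x) = θ (ρ' x) := DFunLike.congr_fun h x
      exact θ.injective h'
    exact ⟨hinj, Finite.injective_iff_surjective.mp hinj⟩)

theorem semilinear_of_compat {n : ℕ} (hn : Nat.card F = 2 ^ n) (hθ : ∀ x, θ (θ x) = x ^ 2)
    (h4 : ∃ x : F, x ^ 4 ≠ x) (σ γ : F →+ F) (hσ : ∃ a, σ a ≠ 0)
    (H : ∀ a, γ (θ a * a) = θ (σ a) * σ a) :
    ∃ (k : F) (α : F →+* F), ∀ a, σ a = k * α a := by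
  obtain ⟨s, hs⟩ := exists_coeff hn σ
  obtain ⟨g, hg⟩ := exists_coeff hn γ
  obtain ⟨e, he⟩ : ∃ e : (F →+* F) ≃ (F →+* F), e = compEquiv θ := ⟨_, rfl⟩
  have hee : ∀ ρ, e ρ = θ.comp ρ := fun ρ => by rw [he]; rfl
  obtain ⟨t, htdef⟩ : ∃ t : (F →+* F) → F, t = fun τ => θ (s (e.symm τ)) := ⟨_, rfl⟩
  have hte : ∀ ρ, t (θ.comp ρ) = θ (s ρ) := fun ρ => by
    rw [htdef, ← hee]
    show θ (s (e.symm (e ρ))) = _
    rw [Equiv.symm_apply_apply]
  have ht : ∀ a, θ (σ a) = ∑ τ, t τ * τ a := by
    intro a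
    rw [hs, map_sum, ← Equiv.sum_comp e (fun τ => t τ * τ a)]
    apply Finset.sum_congr rfl; intro ρ _
    rw [hee, hte, map_mul]; rfl
  have hθne : ∀ τ : F →+* F, τ ≠ θ.comp τ := by
    intro τ h
    obtain ⟨x, hx⟩ := h4
    apply hx
    have hsurj : Function.Surjective τ := Finite.injective_iff_surjective.mp τ.injective
    have hid : ∀ y, θ y = y := by
      intro y
      obtain ⟨z, rfl⟩ := hsurj y
      exact (DFunLike.congr_fun h z).symm
    have h2 : ∀ y : F, y ^ 2 = y := fun y => by rw [← hθ, hid, hid]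
    calc x ^ 4 = (x ^ 2) ^ 2 := by ring
      _ = x := by rw [h2, h2]
  obtain ⟨M, hM⟩ : ∃ M : (F →+* F) → (F →+* F) → F,
      M = fun τ ρ => (if τ = θ.comp ρ then g ρ else 0) + t τ * s ρ := ⟨_, rfl⟩
  obtain ⟨Nf, hNf⟩ : ∃ Nf : F → F → F, Nf = fun a c => ∑ τ, ∑ ρ, M τ ρ * τ a * ρ c := ⟨_, rfl⟩
  have hNaa : ∀ a, Nf a a = 0 := by
    intro a
    rw [hNf, hM]
    show ∑ τ, ∑ ρ, ((if τ = θ.comp ρ then g ρ else 0) + t τ * s ρ) * τ a * ρ a = 0
    have e1 : ∑ τ, ∑ ρ, (if τ = θ.comp ρ then g ρ else 0) * τ a * ρ a = γ (θ a * a) := by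
      rw [Finset.sum_comm, hg]
      apply Finset.sum_congr rfl; intro ρ _
      have hite : ∀ τ : F →+* F, (if τ = θ.comp ρ then g ρ else 0) * τ a * ρ a =
          if τ = θ.comp ρ then g ρ * τ a * ρ a else 0 := by
        intro τ; split_ifs <;> simp
      simp only [hite, Finset.sum_ite_eq', Finset.mem_univ, if_true]
      rw [RingHom.comp_apply, map_mul, ringHom_comm ρ θ a, mul_assoc]
    have e2 : ∑ τ, ∑ ρ, (t τ * s ρ) * τ a * ρ a = θ (σ a) * σ a := by
      rw [ht, hs, Finset.sum_mul_sum]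
      apply Finset.sum_congr rfl; intro τ _
      apply Finset.sum_congr rfl; intro ρ _
      ring
    have hsplit : ∀ τ ρ : F →+* F, ((if τ = θ.comp ρ then g ρ else 0) + t τ * s ρ) * τ a * ρ a =
        (if τ = θ.comp ρ then g ρ else 0) * τ a * ρ a + (t τ * s ρ) * τ a * ρ a := by
      intros; ring
    simp only [hsplit, Finset.sum_add_distrib]
    rw [e1, e2, H]
    exact CharTwo.add_self_eq_zero _
  have hNadd : ∀ a c, Nf a c + Nf c a = 0 := by
    intro a c
    have h1 := hNaa (a + c)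
    have h2 : Nf (a + c) (a + c) = Nf a a + Nf a c + Nf c a + Nf c c := by
      rw [hNf]
      simp only [map_add, mul_add, add_mul, Finset.sum_add_distrib]
      abel
    rw [h2, hNaa, hNaa, zero_add, add_zero] at h1
    exact h1
  have hsymm : ∀ τ ρ, M τ ρ = M ρ τ := by
    have h0 := indep2 (fun τ ρ => M τ ρ + M ρ τ) (fun a c => by
      have h := hNadd a c
      have h3 : Nf c a = ∑ τ, ∑ ρ, M ρ τ * τ a * ρ c := by
        rw [hNf]
        show ∑ τ, ∑ ρ, M τ ρ * τ c * ρ a = _
        rw [Finset.sum_comm]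
        apply Finset.sum_congr rfl; intro τ _
        apply Finset.sum_congr rfl; intro ρ _
        ring
      rw [h3] at h
      rw [← h, hNf]
      show _ = (∑ τ, ∑ ρ, M τ ρ * τ a * ρ c) + _
      rw [← Finset.sum_add_distrib]
      apply Finset.sum_congr rfl; intro τ _
      rw [← Finset.sum_add_distrib]
      apply Finset.sum_congr rfl; intro ρ _
      ring)
    intro τ ρ
    exact CharTwo.add_eq_zero.mp (h0 τ ρ)
  have hdiag : ∀ τ, t τ * s τ = 0 := by
    have hsum : ∀ b, ∑ τ, M τ τ * τ b = 0 := by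
      intro b
      obtain ⟨a, rfl⟩ := exists_mul_self b
      have h : ∑ τ, ∑ ρ, M τ ρ * τ a * ρ a = 0 := by simpa only [hNf] using hNaa a
      have h' := sum_sum_symm (fun τ ρ : F →+* F => M τ ρ * τ a * ρ a) (fun τ ρ => by
        show M τ ρ * τ a * ρ a = M ρ τ * ρ a * τ a
        rw [hsymm τ ρ]; ring)
      rw [← h, h']
      apply Finset.sum_congr rfl; intro τ _
      rw [map_mul]; ring
    intro τ
    have h := indep (fun τ => M τ τ) hsum τ
    rw [hM] at h
    simp only [if_neg (hθne τ), zero_add] at h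
    exact h
  have hgen : ∀ τ ρ, τ ≠ θ.comp ρ → ρ ≠ θ.comp τ → t τ * s ρ = t ρ * s τ := by
    intro τ ρ h1 h2
    have h := hsymm τ ρ
    rw [hM] at h
    simp only [if_neg h1, if_neg h2, zero_add] at h
    exact h
  have hsupp : ∀ α β, s α ≠ 0 → s β ≠ 0 → β = α ∨ α = θ.comp (θ.comp β) := by
    intro α β hα hβ
    by_contra hcon
    push Not at hcon
    have h1 : θ.comp β ≠ θ.comp α := fun h => hcon.1 ((compEquiv θ).injective h)
    have h3 := hgen (θ.comp β) α h1 hcon.2
    rw [hte] at h3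
    have h5 : t α = 0 := (mul_eq_zero.mp (hdiag α)).resolve_right hα
    rw [h5, zero_mul] at h3
    exact (mul_ne_zero ((map_ne_zero θ).mpr hβ) hα) h3
  have huniq : ∀ α β, s α ≠ 0 → s β ≠ 0 → α = β := by
    intro α β hα hβ
    by_contra hne
    have h1 : α = θ.comp (θ.comp β) :=
      (hsupp α β hα hβ).resolve_left (fun h => hne h.symm)
    have h2 : β = θ.comp (θ.comp α) := (hsupp β α hβ hα).resolve_left hne
    obtain ⟨x, hx⟩ := h4
    apply hx
    have hsurj : Function.Surjective α := Finite.injective_iff_surjective.mp α.injective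
    obtain ⟨z, rfl⟩ := hsurj x
    have e1 : α z = θ (θ (β z)) := DFunLike.congr_fun h1 z
    have e2 : β z = θ (θ (α z)) := DFunLike.congr_fun h2 z
    rw [hθ] at e1 e2
    calc (α z) ^ 4 = ((α z) ^ 2) ^ 2 := by ring
      _ = α z := by rw [← e2, ← e1]
  obtain ⟨a0, ha0⟩ := hσ
  have hex : ∃ α, s α ≠ 0 := by
    by_contra hcon
    push Not at hcon
    apply ha0
    rw [hs]
    apply Finset.sum_eq_zero
    intro τ _
    rw [hcon τ, zero_mul]
  obtain ⟨α, hα⟩ := hex
  refine ⟨s α, α, fun a => ?_⟩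
  rw [hs]
  apply Finset.sum_eq_single α
  · intro β _ hβ
    by_cases hsβ : s β = 0
    · rw [hsβ, zero_mul]
    · exact absurd (huniq α β hα hsβ).symm hβ
  · intro h; exact absurd (Finset.mem_univ α) h

end Cfsg.Agent.Lib.Helper60.SzAut
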