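import Mathlib

set_option autoImplicit false

namespace Cfsg.Agent.Lib.Helper60

open Finset

section Abstract

variable {T A : Type*} [Group T] [CommGroup A] (φ : T →* MulAut A)

/-- The product of the images of `c` under the powers `t^0, ..., t^(n-1)`. -/
def nm (t : T) (n : ℕ) (c : A) : A := ∏ i ∈ range n, φ (t ^ i) c

theorem nm_fixed (t : T) (n : ℕ) (ht : t ^ n = 1) (c : A) : φ t (nm φ t n c) = nm φ t n c := by
  unfold nm
  rw [map_prod]
  have h1 : ∀ i ∈ range n, φ t (φ (t ^ i) c) = φ (t ^ (i + 1)) c := by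
    intro i _
    rw [pow_succ', map_mul, MulAut.mul_apply]
  rw [prod_congr rfl h1]
  have h2 := prod_range_succ' (fun i => φ (t ^ i) c) n
  have h3 := prod_range_succ (fun i => φ (t ^ i) c) n
  rw [h3] at h2
  simp only [ht, pow_zero] at h2
  exact (mul_right_cancel h2).symm

theorem nm_eq_one (t : T) (n : ℕ) (ht : t ^ n = 1) (hfix : ∀ c : A, φ t c = c → c = 1) (c : A) :
    nm φ t n c = 1 :=
  hfix _ (nm_fixed φ t n ht c)

theorem nm_one (n : ℕ) (c : A) : nm φ (1 : T) n c = c ^ n := by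
  unfold nm
  simp

theorem conj_pow_identity (x y : T) (i j : ℕ)
    (hc : Commute x (y ^ j * x⁻¹ * (y ^ j)⁻¹)) :
    (x ^ i * y * (x ^ i)⁻¹) ^ j = (x * (y ^ j * x⁻¹ * (y ^ j)⁻¹)) ^ i * y ^ j := by
  rw [conj_pow, hc.mul_pow, conj_pow, inv_pow]
  group

/-- Key computation: if all non-identity elements killed by `a` or `b` act without non-trivial
fixed points, `x` of order `a` commutes with its conjugates under powers of `y` (of order `b`),
and there is no element of order `a * b`, then the abelian group acted on has exponent dividing `a`. -/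
theorem core_pow_eq_one (a b : ℕ) (ha : a.Prime) (hb : b.Prime) (hab : a ≠ b)
    (x y : T) (hx : orderOf x = a) (hy : orderOf y = b)
    (hcomm : ∀ j : ℕ, Commute x (y ^ j * x⁻¹ * (y ^ j)⁻¹))
    (hno : ¬ ∃ t : T, orderOf t = a * b)
    (hfpf : ∀ t : T, t ≠ 1 → (t ^ a = 1 ∨ t ^ b = 1) → ∀ c : A, φ t c = c → c = 1) :
    ∀ c : A, c ^ a = 1 := by
  intro c
  have hxa : x ^ a = 1 := hx ▸ pow_orderOf_eq_one x
  have hyb : y ^ b = 1 := hy ▸ pow_orderOf_eq_one y
  have hy1 : y ≠ 1 := by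
    intro h
    rw [h, orderOf_one] at hy
    exact hb.one_lt.ne hy
  -- the elements w j
  set w : ℕ → T := fun j => x * (y ^ j * x⁻¹ * (y ^ j)⁻¹) with hw
  have hwa : ∀ j, w j ^ a = 1 := by
    intro j
    simp only [hw]
    rw [(hcomm j).mul_pow, conj_pow, inv_pow, hxa]
    simp
  have hwne : ∀ j, 0 < j → j < b → w j ≠ 1 := by
    intro j hj0 hjb hwj
    apply hno
    have hcy : Commute x (y ^ j) := by
      have h1 : y ^ j * x⁻¹ * (y ^ j)⁻¹ = x⁻¹ := by
        have := hwj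
        simp only [hw] at this
        exact (eq_inv_of_mul_eq_one_right this)
      have h2 : y ^ j * x⁻¹ = x⁻¹ * y ^ j := mul_inv_eq_iff_eq_mul.mp h1
      have h3 : Commute (y ^ j) x⁻¹ := h2
      exact (Commute.inv_right_iff.mp h3).symm
    have hoy : orderOf (y ^ j) = b := by
      have hcop : (orderOf y).Coprime j := by
        rw [hy]
        exact (Nat.Prime.coprime_iff_not_dvd hb).mpr (Nat.not_dvd_of_pos_of_lt hj0 hjb)
      rw [hcop.orderOf_pow, hy]
    refine ⟨x * y ^ j, ?_⟩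
    rw [hcy.orderOf_mul_eq_mul_orderOf_of_coprime, hx, hoy]
    rw [hx, hoy]
    exact (Nat.coprime_primes ha hb).mpr hab
  -- each conjugate of y has trivial norm
  have h1 : ∀ i ∈ range a, nm φ (x ^ i * y * (x ^ i)⁻¹) b c = 1 := by
    intro i _
    apply nm_eq_one
    · rw [conj_pow, hyb]
      simp
    · apply hfpf
      · intro h
        apply hy1
        have : y = (x ^ i)⁻¹ * (x ^ i * y * (x ^ i)⁻¹) * (x ^ i) := by group
        rw [this, h]
        simp
      · right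
        rw [conj_pow, hyb]
        simp
  have h2 : ∏ i ∈ range a, nm φ (x ^ i * y * (x ^ i)⁻¹) b c = 1 :=
    prod_eq_one h1
  unfold nm at h2
  rw [prod_comm] at h2
  have h3 : ∀ j ∈ range b, ∏ i ∈ range a, φ ((x ^ i * y * (x ^ i)⁻¹) ^ j) c
      = nm φ (w j) a (φ (y ^ j) c) := by
    intro j _
    unfold nm
    apply prod_congr rfl
    intro i _
    rw [conj_pow_identity x y i j (hcomm j), map_mul, MulAut.mul_apply]
  rw [prod_congr rfl h3] at h2
  obtain ⟨b', rfl⟩ : ∃ b', b = b' + 1 := ⟨b - 1, by have := hb.pos; omega⟩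
  rw [prod_range_succ'] at h2
  have h4 : ∀ j ∈ range b', nm φ (w (j + 1)) a (φ (y ^ (j + 1)) c) = 1 := by
    intro j hj
    apply nm_eq_one _ _ _ (hwa _)
    apply hfpf _ (hwne _ (Nat.succ_pos j) (by simpa using hj)) (Or.inl (hwa _))
  rw [prod_eq_one h4, one_mul] at h2
  have hw0 : w 0 = 1 := by simp [hw]
  rw [hw0, nm_one] at h2
  simpa using h2

end Abstract

section GroupVersion

variable {G : Type*} [Group G]

/-- `Adj G a b`: the group has an element of order `a * b`. -/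
def Adj (G : Type*) [Group G] (a b : ℕ) : Prop := ∃ t : G, orderOf t = a * b

theorem Adj.symm {a b : ℕ} (h : Adj G a b) : Adj G b a := by
  obtain ⟨t, ht⟩ := h
  exact ⟨t, by rw [ht, mul_comm]⟩

/-- Among the three numbers, two have their product an element order. -/
def P3 (G : Type*) [Group G] (a b c : ℕ) : Prop := Adj G a b ∨ Adj G a c ∨ Adj G b c

theorem P3.swap12 {a b c : ℕ} (h : P3 G a b c) : P3 G b a c := by
  rcases h with h | h | h
  · exact Or.inl h.symm
  · exact Or.inr (Or.inr h)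
  · exact Or.inr (Or.inl h)

theorem P3.swap23 {a b c : ℕ} (h : P3 G a b c) : P3 G a c b := by
  rcases h with h | h | h
  · exact Or.inr (Or.inl h)
  · exact Or.inl h
  · exact Or.inr (Or.inr h.symm)

theorem P3.of_subgroup {a b c : ℕ} (H : Subgroup G) (h : P3 ↥H a b c) : P3 G a b c := by
  rcases h with ⟨t, ht⟩ | ⟨t, ht⟩ | ⟨t, ht⟩
  · exact Or.inl ⟨t, by rw [Subgroup.orderOf_coe, ht]⟩
  · exact Or.inr (Or.inl ⟨t, by rw [Subgroup.orderOf_coe, ht]⟩)
  · exact Or.inr (Or.inr ⟨t, by rw [Subgroup.orderOf_coe, ht]⟩)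

theorem Adj.of_quotient [Finite G] {a b : ℕ} (N : Subgroup G) [N.Normal] (hab : a * b ≠ 0)
    (h : Adj (G ⧸ N) a b) : Adj G a b := by
  obtain ⟨z, hz⟩ := h
  obtain ⟨g, rfl⟩ := QuotientGroup.mk_surjective z
  have hdvd : a * b ∣ orderOf g := by
    rw [← hz]
    apply orderOf_dvd_of_pow_eq_one
    rw [← QuotientGroup.mk_pow, pow_orderOf_eq_one]
    rfl
  exact ⟨g ^ (orderOf g / (a * b)), orderOf_pow_orderOf_div (orderOf_pos g).ne' hdvd⟩

theorem P3.of_quotient [Finite G] {a b c : ℕ} (N : Subgroup G) [N.Normal]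
    (ha : a ≠ 0) (hb : b ≠ 0) (hc : c ≠ 0) (h : P3 (G ⧸ N) a b c) : P3 G a b c := by
  rcases h with h | h | h
  · exact Or.inl (h.of_quotient N (mul_ne_zero ha hb))
  · exact Or.inr (Or.inl (h.of_quotient N (mul_ne_zero ha hc)))
  · exact Or.inr (Or.inr (h.of_quotient N (mul_ne_zero hb hc)))

/-- An element of prime order `ℓ` commuting with a non-identity element of an `s`-group yields an
element of order `ℓ * s`. -/
theorem adj_of_commute {ℓ s : ℕ} (hs : s.Prime) (hℓs : ℓ ≠ s) (hℓ : ℓ.Prime)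
    (t c : G) (ht : orderOf t = ℓ) (hc : ∃ k, orderOf c = s ^ k) (hc1 : c ≠ 1)
    (hcomm : Commute t c) : Adj G ℓ s := by
  obtain ⟨k, hk⟩ := hc
  have hk0 : k ≠ 0 := by
    intro h
    rw [h, pow_zero, orderOf_eq_one_iff] at hk
    exact hc1 hk
  have hsdvd : s ∣ orderOf c := by
    rw [hk]
    exact dvd_pow_self s hk0
  have hpos : orderOf c ≠ 0 := by
    rw [hk]
    exact pow_ne_zero _ hs.pos.ne'
  have ho : orderOf (c ^ (orderOf c / s)) = s := orderOf_pow_orderOf_div hpos hsdvd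
  refine ⟨t * c ^ (orderOf c / s), ?_⟩
  rw [(hcomm.pow_right _).orderOf_mul_eq_mul_orderOf_of_coprime, ht, ho]
  rw [ht, ho]
  exact (Nat.coprime_primes hℓ hs).mpr hℓs

/-- **Core lemma**. A nontrivial abelian normal `s`-subgroup `A`, an element `x` of order `a` and an
element `y` of order `b` such that `x` commutes with all its conjugates under powers of `y`:
then two of the three primes are adjacent. -/
theorem core_three_primes (A : Subgroup G) [A.Normal]
    (hAcomm : ∀ c ∈ A, ∀ d ∈ A, c * d = d * c) (hAne : A ≠ ⊥)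
    (a b s : ℕ) (ha : a.Prime) (hb : b.Prime) (hs : s.Prime) (hab : a ≠ b) (has : a ≠ s) (hbs : b ≠ s)
    (hAs : IsPGroup s A)
    (x y : G) (hx : orderOf x = a) (hy : orderOf y = b)
    (hcomm : ∀ j : ℕ, Commute x (y ^ j * x⁻¹ * (y ^ j)⁻¹)) :
    P3 G a b s := by
  by_contra hcon
  unfold P3 at hcon
  push Not at hcon
  obtain ⟨hnab, hnas, hnbs⟩ := hcon
  haveI : Fact a.Prime := ⟨ha⟩
  haveI : Fact b.Prime := ⟨hb⟩
  haveI : Fact s.Prime := ⟨hs⟩
  letI : CommGroup ↥A :=
    { (inferInstance : Group ↥A) with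
      mul_comm := fun c d => Subtype.ext (hAcomm c c.2 d d.2) }
  have hfpf : ∀ t : G, t ≠ 1 → (t ^ a = 1 ∨ t ^ b = 1) →
      ∀ c : ↥A, (MulAut.conjNormal t : MulAut ↥A) c = c → c = 1 := by
    intro t ht1 ht c hc
    by_contra hc1
    have hcomm' : Commute t (c : G) := by
      have := congrArg Subtype.val hc
      rw [MulAut.conjNormal_apply] at this
      exact mul_inv_eq_iff_eq_mul.mp this
    have hco : ∃ k, orderOf (c : G) = s ^ k := by
      obtain ⟨k, hk⟩ := (IsPGroup.iff_orderOf.mp hAs) c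
      exact ⟨k, by rw [Subgroup.orderOf_coe, hk]⟩
    have hc1' : (c : G) ≠ 1 := fun h => hc1 (Subtype.ext h)
    rcases ht with ht | ht
    · exact hnas (adj_of_commute hs has ha t c (orderOf_eq_prime ht ht1) hco hc1' hcomm')
    · exact hnbs (adj_of_commute hs hbs hb t c (orderOf_eq_prime ht ht1) hco hc1' hcomm')
  have key := core_pow_eq_one (MulAut.conjNormal : G →* MulAut ↥A) a b ha hb hab x y hx hy hcomm hnab hfpf
  -- A is trivial
  apply hAne
  rw [eq_bot_iff]
  intro c hc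
  rw [Subgroup.mem_bot]
  by_contra hc1
  have h1 : (⟨c, hc⟩ : ↥A) ^ a = 1 := key ⟨c, hc⟩
  have h2 : c ^ a = 1 := by
    have := congrArg Subtype.val h1
    simpa using this
  have h3 : orderOf c = a := orderOf_eq_prime h2 hc1
  obtain ⟨k, hk⟩ := (IsPGroup.iff_orderOf.mp hAs) ⟨c, hc⟩
  rw [← Subgroup.orderOf_coe] at hk
  simp only at hk
  rw [h3] at hk
  have : a ∣ s ^ k := by rw [← hk]
  exact has ((Nat.prime_dvd_prime_iff_eq ha hs).mp (ha.dvd_of_dvd_pow this))

end GroupVersion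

section Zc

variable {G : Type*} [Group G]

/-- The centre of a subgroup, as a subgroup of the ambient group. -/
def Zc (P : Subgroup G) : Subgroup G := P ⊓ Subgroup.centralizer (P : Set G)

theorem mem_Zc {P : Subgroup G} {c : G} : c ∈ Zc P ↔ c ∈ P ∧ ∀ d ∈ P, d * c = c * d := by
  unfold Zc
  rw [Subgroup.mem_inf, Subgroup.mem_centralizer_iff]
  rfl

theorem Zc_le (P : Subgroup G) : Zc P ≤ P := inf_le_left

theorem Zc_comm (P : Subgroup G) : ∀ c ∈ Zc P, ∀ d ∈ Zc P, c * d = d * c := by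
  intro c hc d hd
  exact ((mem_Zc.mp hd).2 c (mem_Zc.mp hc).1)

theorem Zc_conj_mem {P : Subgroup G} {n : G} (hn : n ∈ Subgroup.normalizer (P : Set G)) {c : G} (hc : c ∈ Zc P) :
    n * c * n⁻¹ ∈ Zc P := by
  rw [mem_Zc] at hc ⊢
  refine ⟨(Subgroup.mem_normalizer_iff.mp hn c).mp hc.1, ?_⟩
  intro d hd
  have hd' : n⁻¹ * d * n ∈ P := (Subgroup.mem_normalizer_iff''.mp hn d).mp hd
  have := hc.2 _ hd'
  calc d * (n * c * n⁻¹) = n * ((n⁻¹ * d * n) * c) * n⁻¹ := by group
    _ = n * (c * (n⁻¹ * d * n)) * n⁻¹ := by rw [this]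
    _ = n * c * n⁻¹ * d := by group

theorem Zc_normal (P : Subgroup G) [hP : P.Normal] : (Zc P).Normal := by
  constructor
  intro c hc n
  apply Zc_conj_mem _ hc
  rw [Subgroup.normalizer_eq_top]
  exact Subgroup.mem_top n

theorem Zc_ne_bot {p : ℕ} [Fact p.Prime] (P : Subgroup G) [Finite ↥P] (hP : IsPGroup p P)
    (hne : P ≠ ⊥) : Zc P ≠ ⊥ := by
  haveI : Nontrivial ↥P := (Subgroup.nontrivial_iff_ne_bot P).mpr hne
  have := hP.center_nontrivial
  obtain ⟨z, hz⟩ := exists_ne (1 : ↥(Subgroup.center ↥P))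
  intro hbot
  have hmem : ((z : ↥P) : G) ∈ Zc P := by
    rw [mem_Zc]
    refine ⟨(z : ↥P).2, ?_⟩
    intro d hd
    have := Subgroup.mem_center_iff.mp z.2 ⟨d, hd⟩
    exact congrArg Subtype.val this
  rw [hbot, Subgroup.mem_bot] at hmem
  apply hz
  apply Subtype.ext
  apply Subtype.ext
  exact hmem

/-- A nontrivial finite `p`-subgroup has a central element of order `p`. -/
theorem exists_orderOf_eq_in_Zc {p : ℕ} [hp : Fact p.Prime] (P : Subgroup G) [Finite ↥P]
    (hP : IsPGroup p P) (hne : P ≠ ⊥) : ∃ x ∈ Zc P, orderOf x = p := by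
  have hZ := Zc_ne_bot P hP hne
  obtain ⟨c, hc, hc1⟩ := (Subgroup.ne_bot_iff_exists_ne_one.mp hZ |> fun ⟨c, h⟩ => ⟨(c : G), c.2, fun e => h (Subtype.ext e)⟩ : ∃ c : G, c ∈ Zc P ∧ c ≠ 1)
  obtain ⟨k, hk⟩ := (IsPGroup.iff_orderOf.mp hP) ⟨c, Zc_le P hc⟩
  rw [← Subgroup.orderOf_coe] at hk
  simp only at hk
  have hk0 : k ≠ 0 := by
    intro h
    rw [h, pow_zero, orderOf_eq_one_iff] at hk
    exact hc1 hk
  have hdvd : p ∣ orderOf c := by
    rw [hk]
    exact dvd_pow_self p hk0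
  have hpos : orderOf c ≠ 0 := by
    rw [hk]
    exact pow_ne_zero _ hp.out.pos.ne'
  exact ⟨c ^ (orderOf c / p), (Zc P).pow_mem hc _, orderOf_pow_orderOf_div hpos hdvd⟩

end Zc

section Solvable

variable {G : Type*} [Group G]

/-- A nontrivial finite solvable group has a nontrivial normal `ℓ`-subgroup for some prime `ℓ`. -/
theorem exists_normal_pgroup [Finite G] [hG : Group.IsSolvable G] [Nontrivial G] :
    ∃ (ℓ : ℕ) (N : Subgroup G), ℓ.Prime ∧ N.Normal ∧ N ≠ ⊥ ∧ IsPGroup ℓ N := by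
  classical
  have hex : ∃ n, derivedSeries G n = ⊥ := hG.solvable
  set k := Nat.find hex with hk
  have hkbot : derivedSeries G k = ⊥ := Nat.find_spec hex
  have hk0 : k ≠ 0 := by
    intro h
    rw [h, derivedSeries_zero] at hkbot
    exact top_ne_bot hkbot
  obtain ⟨m, hm⟩ : ∃ m, k = m + 1 := ⟨k - 1, by omega⟩
  set A := derivedSeries G m with hA
  have hAne : A ≠ ⊥ := by
    intro h
    have := Nat.find_min' hex h
    omega
  have hAcomm : ∀ c ∈ A, ∀ d ∈ A, c * d = d * c := by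
    have h1 : ⁅A, A⁆ = ⊥ := by
      rw [hA, ← derivedSeries_succ, ← hm]
      exact hkbot
    rw [Subgroup.commutator_eq_bot_iff_le_centralizer] at h1
    intro c hc d hd
    have := Subgroup.mem_centralizer_iff.mp (h1 hd) c hc
    exact this
  haveI hAn : A.Normal := derivedSeries_normal G m
  have hcard : Nat.card ↥A ≠ 1 := by
    intro h
    exact hAne (Subgroup.card_eq_one.mp h)
  obtain ⟨ℓ, hℓ, hℓdvd⟩ := Nat.exists_prime_and_dvd hcard
  haveI : Fact ℓ.Prime := ⟨hℓ⟩
  obtain ⟨z, hz⟩ := exists_prime_orderOf_dvd_card' ℓ hℓdvd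
  let N : Subgroup G :=
    { carrier := {g | g ∈ A ∧ g ^ ℓ = 1}
      mul_mem' := by
        rintro g h ⟨hg, hg1⟩ ⟨hh, hh1⟩
        refine ⟨A.mul_mem hg hh, ?_⟩
        have : Commute g h := hAcomm g hg h hh
        rw [this.mul_pow, hg1, hh1, one_mul]
      one_mem' := ⟨A.one_mem, one_pow _⟩
      inv_mem' := by
        rintro g ⟨hg, hg1⟩
        exact ⟨A.inv_mem hg, by rw [inv_pow, hg1, inv_one]⟩ }
  refine ⟨ℓ, N, hℓ, ?_, ?_, ?_⟩
  · constructor
    rintro g ⟨hg, hg1⟩ n
    exact ⟨hAn.conj_mem g hg n, by rw [conj_pow, hg1, mul_one, mul_inv_cancel]⟩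
  · intro hbot
    have hzN : (z : G) ∈ N := by
      refine ⟨z.2, ?_⟩
      have := pow_orderOf_eq_one z
      rw [hz] at this
      have := congrArg Subtype.val this
      simpa using this
    rw [hbot, Subgroup.mem_bot] at hzN
    have : z = 1 := Subtype.ext hzN
    rw [this, orderOf_one] at hz
    exact hℓ.one_lt.ne hz
  · intro g
    refine ⟨1, ?_⟩
    apply Subtype.ext
    rw [pow_one]
    exact g.2.2

/-- Frattini-type lemma: if `M` is normal, `a` divides `|M|` and the prime `b` divides the index of `M`,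
then some element of order `b` normalizes a nontrivial `a`-subgroup of `M`. -/
theorem exists_normalizing_of_normal [Finite G] (M : Subgroup G) [M.Normal] (a b : ℕ)
    [ha : Fact a.Prime] (hb : b.Prime) (hidx : b ∣ M.index) (hcard : a ∣ Nat.card M) :
    ∃ (P₀ : Subgroup G) (y : G), IsPGroup a P₀ ∧ P₀ ≠ ⊥ ∧ P₀ ≤ M ∧ orderOf y = b ∧
      y ∈ Subgroup.normalizer (P₀ : Set G) := by
  haveI : Fact b.Prime := ⟨hb⟩
  obtain ⟨P⟩ : Nonempty (Sylow a ↥M) := inferInstance
  have hfrat := Sylow.normalizer_sup_eq_top P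
  set P₀ : Subgroup G := (P : Subgroup ↥M).map M.subtype with hP₀
  have hPne : (P : Subgroup ↥M) ≠ ⊥ := P.ne_bot_of_dvd_card hcard
  have hP₀ne : P₀ ≠ ⊥ := by
    intro h
    apply hPne
    rw [hP₀] at h
    exact (Subgroup.map_eq_bot_iff_of_injective _ M.subtype_injective).mp h
  have hdvd : b ∣ Nat.card ↥(Subgroup.normalizer (P₀ : Set G)) := by
    have h1 : M.relIndex (Subgroup.normalizer (P₀ : Set G) ⊔ M) = M.relIndex (Subgroup.normalizer (P₀ : Set G)) := Subgroup.relIndex_sup_right _ _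
    rw [hfrat, Subgroup.relIndex_top_right] at h1
    rw [h1] at hidx
    exact hidx.trans (Subgroup.relIndex_dvd_card _ _)
  obtain ⟨y, hy⟩ := exists_prime_orderOf_dvd_card' b hdvd
  refine ⟨P₀, (y : G), P.2.map _, hP₀ne, ?_, ?_, y.2⟩
  · rw [hP₀]
    intro g hg
    obtain ⟨g', _, rfl⟩ := Subgroup.mem_map.mp hg
    exact g'.2
  · rw [Subgroup.orderOf_coe, hy]

/-- A coatom containing the commutator subgroup is normal of prime index. -/
theorem exists_normal_prime_index [Finite G] [Group.IsSolvable G] [Nontrivial G] :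
    ∃ (M : Subgroup G) (ℓ : ℕ), M.Normal ∧ ℓ.Prime ∧ M.index = ℓ := by
  have hlt := Group.IsSolvable.commutator_lt_top_of_nontrivial G
  obtain ⟨M, hMco, hM⟩ := (eq_top_or_exists_le_coatom (commutator G)).resolve_left hlt.ne
  have hMn : M.Normal := by
    constructor
    intro g hg n
    have h1 : n * g * n⁻¹ * g⁻¹ ∈ commutator G := by
      rw [commutator_def]
      exact Subgroup.commutator_mem_commutator (Subgroup.mem_top n) (Subgroup.mem_top g)
    have h2 : n * g * n⁻¹ = (n * g * n⁻¹ * g⁻¹) * g := by group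
    rw [h2]
    exact M.mul_mem (hM h1) hg
  have hidx1 : M.index ≠ 1 := by
    intro h
    exact hMco.1 (Subgroup.index_eq_one.mp h)
  obtain ⟨ℓ, hℓ, hℓdvd⟩ := Nat.exists_prime_and_dvd hidx1
  haveI : Fact ℓ.Prime := ⟨hℓ⟩
  refine ⟨M, ℓ, hMn, hℓ, ?_⟩
  have hcardQ : Nat.card (G ⧸ M) = M.index := (Subgroup.index_eq_card M).symm
  rw [← hcardQ] at hℓdvd
  obtain ⟨z, hz⟩ := exists_prime_orderOf_dvd_card' ℓ hℓdvd
  set C := (Subgroup.zpowers z).comap (QuotientGroup.mk' M) with hC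
  have hMC : M ≤ C := by
    intro g hg
    rw [hC, Subgroup.mem_comap]
    have : (QuotientGroup.mk' M) g = 1 := (QuotientGroup.eq_one_iff g).mpr hg
    rw [this]
    exact Subgroup.one_mem _
  have hCtop : C = ⊤ := by
    by_contra hne
    have hCM : C = M := by
      by_contra hne'
      exact hne (hMco.2 C (lt_of_le_of_ne hMC (Ne.symm hne')))
    obtain ⟨g, rfl⟩ := QuotientGroup.mk_surjective z
    have hgC : g ∈ C := by
      rw [hC, Subgroup.mem_comap]
      exact Subgroup.mem_zpowers _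
    rw [hCM] at hgC
    have : (QuotientGroup.mk g : G ⧸ M) = 1 := (QuotientGroup.eq_one_iff g).mpr hgC
    rw [this, orderOf_one] at hz
    exact hℓ.one_lt.ne hz
  have hztop : Subgroup.zpowers z = ⊤ := by
    rw [eq_top_iff]
    intro w _
    obtain ⟨g, rfl⟩ := QuotientGroup.mk_surjective w
    have : g ∈ C := hCtop ▸ Subgroup.mem_top g
    exact this
  rw [← hcardQ, ← hz, ← Nat.card_zpowers, hztop]
  exact (Subgroup.card_top).symm

end Solvable

section Main

universe u

/-- In a finite solvable group whose order is divisible by two distinct primes, some element of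
order one of them normalizes a nontrivial subgroup of order a power of the other. -/
theorem exists_normalizing_aux : ∀ (n : ℕ) (G : Type u) [Group G] [Finite G] [Group.IsSolvable G]
    (p q : ℕ), p.Prime → q.Prime → p ≠ q → Nat.card G = n → p ∣ Nat.card G → q ∣ Nat.card G →
    ∃ (a b : ℕ), ((a = p ∧ b = q) ∨ (a = q ∧ b = p)) ∧ ∃ (P₀ : Subgroup G) (y : G),
      IsPGroup a P₀ ∧ P₀ ≠ ⊥ ∧ orderOf y = b ∧ y ∈ Subgroup.normalizer (P₀ : Set G) := by
  intro n
  induction n using Nat.strong_induction_on with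
  | _ n ih =>
  intro G _ _ _ p q hp hq hpq hn hpG hqG
  by_cases hex : ∃ H : Subgroup G, H ≠ ⊤ ∧ p ∣ Nat.card H ∧ q ∣ Nat.card H
  · obtain ⟨H, hHtop, hpH, hqH⟩ := hex
    have hlt : Nat.card H < n := by
      rw [← hn]
      exact lt_of_le_of_ne (Subgroup.card_le_card_group H)
        (fun h => hHtop (Subgroup.eq_top_of_card_eq H h))
    obtain ⟨a, b, hab, P₀, y, h1, h2, h3, h4⟩ := ih _ hlt ↥H p q hp hq hpq rfl hpH hqH
    refine ⟨a, b, hab, P₀.map H.subtype, (y : G), h1.map _, ?_, ?_, ?_⟩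
    · exact (Subgroup.map_eq_bot_iff_of_injective _ H.subtype_injective).not.mpr h2
    · rw [Subgroup.orderOf_coe, h3]
    · exact Subgroup.le_normalizer_map H.subtype (Subgroup.mem_map_of_mem _ h4)
  · push Not at hex
    haveI : Nontrivial G := by
      rw [← Finite.one_lt_card_iff_nontrivial]
      have := Nat.le_of_dvd Nat.card_pos hpG
      have := hp.one_lt
      omega
    obtain ⟨M, ℓ, hMn, hℓ, hidx⟩ := exists_normal_prime_index (G := G)
    have hcard : Nat.card M * ℓ = Nat.card G := by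
      rw [← hidx]
      exact M.card_mul_index
    have hMtop : M ≠ ⊤ := by
      intro h
      rw [h, Subgroup.index_top] at hidx
      exact hℓ.one_lt.ne hidx
    haveI : Fact p.Prime := ⟨hp⟩
    haveI : Fact q.Prime := ⟨hq⟩
    by_cases hpM : p ∣ Nat.card M
    · have hqM : ¬ q ∣ Nat.card M := hex M hMtop hpM
      have hqℓ : q ∣ M.index := by
        rw [hidx]
        rw [← hcard] at hqG
        exact (hq.dvd_mul.mp hqG).resolve_left hqM
      obtain ⟨P₀, y, h1, h2, _, h3, h4⟩ := exists_normalizing_of_normal M p q hq hqℓ hpM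
      exact ⟨p, q, Or.inl ⟨rfl, rfl⟩, P₀, y, h1, h2, h3, h4⟩
    · have hpℓ : p ∣ M.index := by
        rw [hidx]
        rw [← hcard] at hpG
        exact (hp.dvd_mul.mp hpG).resolve_left hpM
      have hqM : q ∣ Nat.card M := by
        by_contra hqM
        have hqℓ : q ∣ ℓ := by
          rw [← hcard] at hqG
          exact (hq.dvd_mul.mp hqG).resolve_left hqM
        rw [hidx] at hpℓ
        have e1 := (Nat.prime_dvd_prime_iff_eq hp hℓ).mp hpℓ
        have e2 := (Nat.prime_dvd_prime_iff_eq hq hℓ).mp hqℓ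
        exact hpq (e1.trans e2.symm)
      obtain ⟨P₀, y, h1, h2, _, h3, h4⟩ := exists_normalizing_of_normal M q p hp hpℓ hqM
      exact ⟨q, p, Or.inr ⟨rfl, rfl⟩, P₀, y, h1, h2, h3, h4⟩

/-- The case where a nontrivial normal `s`-subgroup is present. -/
theorem three_primes_of_normal_pgroup {G : Type u} [Group G] [Finite G] [Group.IsSolvable G]
    (N : Subgroup G) [N.Normal] (hNne : N ≠ ⊥) {a b s : ℕ} (hNs : IsPGroup s N)
    (ha : a.Prime) (hb : b.Prime) (hs : s.Prime) (hab : a ≠ b) (has : a ≠ s) (hbs : b ≠ s)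
    (haG : a ∣ Nat.card G) (hbG : b ∣ Nat.card G) : P3 G a b s := by
  haveI : Fact s.Prime := ⟨hs⟩
  haveI := Zc_normal N
  have hAne : Zc N ≠ ⊥ := Zc_ne_bot N hNs hNne
  have hAs : IsPGroup s (Zc N) := hNs.to_le (Zc_le N)
  have key : ∀ a' b' : ℕ, a'.Prime → b'.Prime → a' ≠ b' → a' ≠ s → b' ≠ s →
      (∃ (P₀ : Subgroup G) (y : G), IsPGroup a' P₀ ∧ P₀ ≠ ⊥ ∧ orderOf y = b' ∧
        y ∈ Subgroup.normalizer (P₀ : Set G)) → P3 G a' b' s := by
    intro a' b' ha' hb' hab' has' hbs' ⟨P₀, y, hP₀, hP₀ne, hy, hyN⟩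
    haveI : Fact a'.Prime := ⟨ha'⟩
    obtain ⟨x, hxZ, hx⟩ := exists_orderOf_eq_in_Zc P₀ hP₀ hP₀ne
    apply core_three_primes (Zc N) (Zc_comm N) hAne a' b' s ha' hb' hs hab' has' hbs' hAs x y hx hy
    intro j
    have hyj : y ^ j ∈ Subgroup.normalizer (P₀ : Set G) := Subgroup.pow_mem _ hyN j
    have hxP : x⁻¹ ∈ P₀ := P₀.inv_mem (Zc_le P₀ hxZ)
    have hu : y ^ j * x⁻¹ * (y ^ j)⁻¹ ∈ P₀ := (Subgroup.mem_normalizer_iff.mp hyj _).mp hxP
    exact ((mem_Zc.mp hxZ).2 _ hu).symm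
  obtain ⟨a', b', hab', hdata⟩ := exists_normalizing_aux _ G a b ha hb hab rfl haG hbG
  rcases hab' with ⟨rfl, rfl⟩ | ⟨rfl, rfl⟩
  · exact key _ _ ha hb hab has hbs hdata
  · exact (key _ _ hb ha hab.symm hbs has hdata).swap12

theorem three_primes_aux : ∀ (n : ℕ) (G : Type u) [Group G] [Finite G] [Group.IsSolvable G]
    (p q r : ℕ), p.Prime → q.Prime → r.Prime → p ≠ q → p ≠ r → q ≠ r → Nat.card G = n →
    p ∣ Nat.card G → q ∣ Nat.card G → r ∣ Nat.card G → P3 G p q r := by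
  intro n
  induction n using Nat.strong_induction_on with
  | _ n ih =>
  intro G _ _ _ p q r hp hq hr hpq hpr hqr hn hpG hqG hrG
  haveI : Nontrivial G := by
    rw [← Finite.one_lt_card_iff_nontrivial]
    have := Nat.le_of_dvd Nat.card_pos hpG
    have := hp.one_lt
    omega
  obtain ⟨ℓ, N, hℓ, hNn, hNne, hNp⟩ := exists_normal_pgroup (G := G)
  by_cases hℓ3 : ℓ = p ∨ ℓ = q ∨ ℓ = r
  · rcases hℓ3 with rfl | rfl | rfl
    · exact ((three_primes_of_normal_pgroup N hNne hNp hq hr hp hqr hpq.symm hpr.symm hqG hrG).swap23).swap12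
    · exact (three_primes_of_normal_pgroup N hNne hNp hp hr hq hpr hpq hqr.symm hpG hrG).swap23
    · exact three_primes_of_normal_pgroup N hNne hNp hp hq hr hpq hpr hqr hpG hqG
  · push Not at hℓ3
    obtain ⟨hℓp, hℓq, hℓr⟩ := hℓ3
    have hcard : Nat.card G = Nat.card (G ⧸ N) * Nat.card N :=
      Subgroup.card_eq_card_quotient_mul_card_subgroup N
    haveI : Fact ℓ.Prime := ⟨hℓ⟩
    obtain ⟨k, hk⟩ := IsPGroup.iff_card.mp hNp
    have hdiv : ∀ t : ℕ, t.Prime → ℓ ≠ t → t ∣ Nat.card G → t ∣ Nat.card (G ⧸ N) := by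
      intro t ht hℓt htG
      rw [hcard, hk] at htG
      rcases ht.dvd_mul.mp htG with h | h
      · exact h
      · exact absurd ((Nat.prime_dvd_prime_iff_eq ht hℓ).mp (ht.dvd_of_dvd_pow h)).symm hℓt
    have hlt : Nat.card (G ⧸ N) < n := by
      rw [← hn, hcard]
      have h1 : 1 < Nat.card N := by
        rw [Finite.one_lt_card_iff_nontrivial]
        exact (Subgroup.nontrivial_iff_ne_bot N).mpr hNne
      have h2 : 0 < Nat.card (G ⧸ N) := Nat.card_pos
      nlinarith
    have := ih _ hlt (G ⧸ N) p q r hp hq hr hpq hpr hqr rfl (hdiv p hp hℓp hpG)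
      (hdiv q hq hℓq hqG) (hdiv r hr hℓr hrG)
    exact this.of_quotient N hp.ne_zero hq.ne_zero hr.ne_zero

/-- **Three primes lemma** (Lucido). In a finite solvable group, among any three distinct prime
divisors of the order two are adjacent in the prime graph. -/
theorem three_primes_solvable {G : Type u} [Group G] [Finite G] [Group.IsSolvable G] {p q r : ℕ}
    (hp : p.Prime) (hq : q.Prime) (hr : r.Prime) (hpq : p ≠ q) (hpr : p ≠ r) (hqr : q ≠ r)
    (hpG : p ∣ Nat.card G) (hqG : q ∣ Nat.card G) (hrG : r ∣ Nat.card G) : P3 G p q r :=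
  three_primes_aux _ G p q r hp hq hr hpq hpr hqr rfl hpG hqG hrG

end Main

end Cfsg.Agent.Lib.Helper60
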