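import Cfsg.Agent.Lib.Helper23.U3Defs

set_option autoImplicit false

/-!
# U3 hive (S2283, owner helper23), sub-hive U3-CONJ (sub-architect helper60): shared definitions

`nilp u = u - 1`, `tri u x` = the matrix with ROWS `x, N x, N² x` (`N = nilp u`), the frame matrix of a
configuration (ROWS `e, ε, f`), `s = μ⁻¹ - μ`, `t = -c / s`, and the frame coordinates of `N' e`, `N'² e`
(`N' = nilp u2`).
-/

namespace Cfsg.Agent.Lib.Helper23.U3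

open Matrix

variable {F : Type*} [Field F] {q : ℕ}

/-- `N = u - 1` -/
def nilp (u : GL (Fin 3) F) : Matrix (Fin 3) (Fin 3) F := (u : Matrix (Fin 3) (Fin 3) F) - 1

/-- the matrix with ROWS `x, N x, N² x`, `N = u - 1` -/
def tri (u : GL (Fin 3) F) (x : Fin 3 → F) : Matrix (Fin 3) (Fin 3) F :=
  Matrix.of ![x, nilp u *ᵥ x, nilp u *ᵥ (nilp u *ᵥ x)]

/-- the frame matrix: ROWS `e, ε, f` -/
def Cfg.frame (C : Cfg q F) : Matrix (Fin 3) (Fin 3) F := Matrix.of ![C.e, C.ε, C.f]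

/-- the vector with frame coordinates `(x1, x2, x3)` -/
def Cfg.vec (C : Cfg q F) (x1 x2 x3 : F) : Fin 3 → F := x1 • C.e + x2 • C.ε + x3 • C.f

/-- `s = μ⁻¹ - μ` (`s ^ q = -s`, `s ≠ 0`) -/
def Cfg.s (C : Cfg q F) : F := C.μ⁻¹ - C.μ

/-- `t = -c / s` (`t ^ q = t`, `t ≠ 0`) -/
def Cfg.t (C : Cfg q F) : F := -C.c / C.s

/-- frame coordinates of `N' e`, `N' = u2 - 1` -/
def Cfg.v1 (C : Cfg q F) : F := C.μ * (1 + C.c * C.β) - 1
def Cfg.v2 (C : Cfg q F) : F := C.μ * C.c * C.a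
def Cfg.v3 (C : Cfg q F) : F := C.μ * C.c

/-- frame coordinates of `N'² e` -/
def Cfg.w1 (C : Cfg q F) : F :=
  (C.μ * (1 + C.c * C.β) - 1) * C.v1 - C.μ⁻¹ ^ 2 * C.a ^ q * C.v2 + C.μ * C.β * C.v3
def Cfg.w2 (C : Cfg q F) : F := C.μ * C.c * C.a * C.v1 + (C.μ⁻¹ ^ 2 - 1) * C.v2 + C.μ * C.a * C.v3
def Cfg.w3 (C : Cfg q F) : F := C.μ * C.c * C.v1 + (C.μ - 1) * C.v3

end Cfsg.Agent.Lib.Helper23.U3
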